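import Mathlib

/-!
# Minimal index in symplectic groups: counting lemmas
-/

set_option autoImplicit false
set_option linter.unusedSectionVars false

namespace Cfsg.Agent.Lib.MinIndexSp

/-- A character of `F` trivial on a proper subgroup. -/
theorem exists_char {F : Type*} [AddCommGroup F] [Finite F] {K : AddSubgroup F} (hK : K ≠ ⊤) :
    ∃ ψ : AddChar F ℂ, (∀ k ∈ K, ψ k = 1) ∧ ∃ x, ψ x ≠ 1 := by
  obtain ⟨y, hy⟩ : ∃ y, y ∉ K := by
    by_contra h; push Not at h; exact hK (eq_top_iff.2 fun x _ => h x)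
  obtain ⟨χ, hχ⟩ := AddChar.exists_apply_ne_zero.2
    (show (QuotientAddGroup.mk y : F ⧸ K) ≠ 0 from fun e => hy ((QuotientAddGroup.eq_zero_iff y).1 e))
  exact ⟨χ.compAddMonoidHom (QuotientAddGroup.mk' K),
    fun k hk => by simp [(QuotientAddGroup.eq_zero_iff k).2 hk], y, by simpa using hχ⟩

/-- Characters trivial on a subgroup. -/
theorem card_char_trivial {S : Type*} [AddCommGroup S] [Finite S] (Y : AddSubgroup S) :
    Nat.card {χ : AddChar S ℂ // ∀ y ∈ Y, χ y = 1} * Nat.card Y ≤ Nat.card S := by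
  classical
  let f : {χ : AddChar S ℂ // ∀ y ∈ Y, χ y = 1} → AddChar (S ⧸ Y) ℂ := fun χ =>
    { toFun := fun q => Quotient.liftOn' q χ.1 (fun a b h => by
        rw [QuotientAddGroup.leftRel_apply] at h
        have := χ.2 _ h
        rw [AddChar.map_add_eq_mul] at this
        calc χ.1 a = χ.1 a * (χ.1 (-a) * χ.1 b) := by rw [this, mul_one]
          _ = χ.1 b := by rw [← mul_assoc, ← AddChar.map_add_eq_mul, add_neg_cancel,
            AddChar.map_zero_eq_one, one_mul])
      map_zero_eq_one' := χ.1.map_zero_eq_one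
      map_add_eq_mul' := fun a b => by
        induction a using QuotientAddGroup.induction_on with
        | _ a => induction b using QuotientAddGroup.induction_on with
          | _ b => exact χ.1.map_add_eq_mul a b }
  have hf : Function.Injective f := fun χ χ' e => by
    refine Subtype.ext (DFunLike.ext _ _ fun s => ?_)
    exact DFunLike.congr_fun e (QuotientAddGroup.mk s)
  have : Fintype (S ⧸ Y) := Fintype.ofFinite _
  calc _ ≤ Nat.card (AddChar (S ⧸ Y) ℂ) * Nat.card Y :=
        Nat.mul_le_mul_right _ (Nat.card_le_card_of_injective f hf)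
    _ = Nat.card S := by
      rw [Nat.card_eq_fintype_card, AddChar.card_eq, ← Nat.card_eq_fintype_card,
        ← Y.index_eq_card, Y.index_mul_card]

variable {F : Type*} [Field F] [Finite F] {V : Type*} [AddCommGroup V] [Module F V] [Finite V]

/-- Two additive groups pairing into a proper subgroup of `F` are small. -/
theorem pairing (B : LinearMap.BilinForm F V) (S : Submodule F V) (X Y : AddSubgroup V)
    (hX : X ≤ S.toAddSubgroup) (hY : Y ≤ S.toAddSubgroup) (K : AddSubgroup F) (hK : K ≠ ⊤)
    (h : ∀ x ∈ X, ∀ y ∈ Y, B x y ∈ K) (N : AddSubgroup V)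
    (hN : ∀ x ∈ X, (∀ s ∈ S, B x s = 0) → x ∈ N) :
    Nat.card X * Nat.card Y ≤ Nat.card S * Nat.card N := by
  classical
  obtain ⟨ψ, hψK, z, hz⟩ := exists_char hK
  let Φ : X →+ AddChar S ℂ :=
    { toFun := fun x => ψ.compAddMonoidHom
        (((B (x : V)).comp S.subtype).toAddMonoidHom)
      map_zero' := DFunLike.ext _ _ fun s => by simp
      map_add' := fun x x' => DFunLike.ext _ _ fun s => by simp [AddChar.map_add_eq_mul] }
  have hker : Nat.card Φ.ker ≤ Nat.card N := by
    refine Nat.card_le_card_of_injective (fun x => ⟨((x : X) : V), hN _ (x : X).2 fun s hs => ?_⟩)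
      fun x x' e => Subtype.ext (Subtype.ext (congrArg Subtype.val e :))
    by_contra hne
    have hx := DFunLike.congr_fun (AddMonoidHom.mem_ker.1 x.2)
      (⟨(z * (B ((x : X) : V) s)⁻¹) • s, S.smul_mem _ hs⟩ : S)
    simp [Φ, hne] at hx
    exact hz hx
  let Y' : AddSubgroup S := Y.addSubgroupOf S.toAddSubgroup
  have himg : Nat.card Φ.range ≤ Nat.card {χ : AddChar S ℂ // ∀ y ∈ Y', χ y = 1} := by
    refine Nat.card_le_card_of_injective (fun χ => ⟨(χ : AddChar S ℂ), ?_⟩)
      fun χ χ' e => Subtype.ext (congrArg Subtype.val e :)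
    obtain ⟨x, hx⟩ := χ.2
    intro y hy
    rw [← hx]
    simp only [Φ, AddMonoidHom.coe_mk, ZeroHom.coe_mk, AddChar.compAddMonoidHom_apply]
    exact hψK _ (h _ x.2 _ hy)
  have hY' : Nat.card Y' = Nat.card Y := Nat.card_congr (AddSubgroup.addSubgroupOfEquivOfLe hY).toEquiv
  have e := Φ.ker.index_mul_card
  rw [AddSubgroup.index_ker] at e
  calc Nat.card X * Nat.card Y = Nat.card Φ.range * Nat.card Φ.ker * Nat.card Y' := by rw [e, hY']
    _ = Nat.card Φ.range * Nat.card Y' * Nat.card Φ.ker := by ring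
    _ ≤ Nat.card S * Nat.card N := Nat.mul_le_mul
        (le_trans (Nat.mul_le_mul_right _ himg) (card_char_trivial Y')) hker

/-- The annihilator of a small group is large. -/
theorem annihilator_card (B : LinearMap.BilinForm F V) (S : Submodule F V) (W : AddSubgroup V)
    (ψ : AddChar F ℂ) (T : AddSubgroup V)
    (hT : ∀ t ∈ S, (∀ w ∈ W, ψ (B t w) = 1) → t ∈ T) :
    Nat.card S ≤ Nat.card T * Nat.card W := by
  classical
  let Φ : S →+ AddChar W ℂ :=
    { toFun := fun t => ψ.compAddMonoidHom
        (((B (t : V)).toAddMonoidHom).comp W.subtype)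
      map_zero' := DFunLike.ext _ _ fun s => by simp
      map_add' := fun x x' => DFunLike.ext _ _ fun s => by simp [AddChar.map_add_eq_mul] }
  have : Fintype W := Fintype.ofFinite _
  have e := Φ.ker.index_mul_card
  rw [AddSubgroup.index_ker] at e
  rw [← e, mul_comm (Nat.card T)]
  refine Nat.mul_le_mul ?_ ?_
  · rw [Nat.card_eq_fintype_card (α := W), ← AddChar.card_eq (α := W), ← Nat.card_eq_fintype_card]
    exact Nat.card_le_card_of_injective _ Subtype.val_injective
  · refine Nat.card_le_card_of_injective (fun x => ⟨((x : S) : V), hT _ (x : S).2 fun w hw => ?_⟩)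
      fun x x' e => Subtype.ext (Subtype.ext ((congrArg Subtype.val e :)))
    exact DFunLike.congr_fun (AddMonoidHom.mem_ker.1 x.2) (⟨w, hw⟩ : W)

/-- The scalars stabilising a proper nontrivial additive subgroup. -/
theorem scalar_stab (Z : AddSubgroup F) (h0 : Z ≠ ⊥) (h1 : Z ≠ ⊤) (Sc : Set F)
    (hSc : ∀ c ∈ Sc, c ≠ 0 ∧ ∀ z ∈ Z, c * z ∈ Z) :
    Nat.card Z * Nat.card Sc + 2 ≤ Nat.card F := by
  classical
  let K : AddSubgroup F :=
    { carrier := {c | ∀ z ∈ Z, c * z ∈ Z}
      zero_mem' := fun z _ => by rw [zero_mul]; exact Z.zero_mem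
      add_mem' := fun ha hb z hz => by rw [add_mul]; exact Z.add_mem (ha z hz) (hb z hz)
      neg_mem' := fun ha z hz => by rw [neg_mul]; exact Z.neg_mem (ha z hz) }
  obtain ⟨y, hy⟩ : ∃ y, y ∉ Z := by
    by_contra h; push Not at h; exact h1 (eq_top_iff.2 fun x _ => h x)
  have hinj : Function.Injective (fun p : Z × K => (p.1 : F) + (p.2 : F) * y) := by
    rintro ⟨⟨z, hz⟩, ⟨k, hk⟩⟩ ⟨⟨z', hz'⟩, ⟨k', hk'⟩⟩ e
    dsimp only at e
    have hd : (k - k') * y ∈ Z := by
      rw [show (k - k') * y = z' - z by linear_combination e]; exact Z.sub_mem hz' hz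
    have hkk : k = k' := by
      by_contra hne
      have hne' : k - k' ≠ 0 := sub_ne_zero.2 hne
      let L : Z → Z := fun w => ⟨(k - k') * w, (K.sub_mem hk hk') _ w.2⟩
      have hL : Function.Injective L := fun a b h =>
        Subtype.ext (mul_left_cancel₀ hne' (congrArg Subtype.val h))
      obtain ⟨w, hw⟩ := Finite.surjective_of_injective hL ⟨_, hd⟩
      exact hy (mul_left_cancel₀ hne' (congrArg Subtype.val hw) ▸ w.2)
    subst hkk
    simpa using e
  have hle := Nat.card_le_card_of_injective _ hinj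
  rw [Nat.card_prod] at hle
  have hSc : Nat.card Sc + 1 ≤ Nat.card K := by
    rw [← Finite.card_option]
    refine Nat.card_le_card_of_injective
      (fun o => o.elim 0 fun c => ⟨(c : F), (hSc c c.2).2⟩) ?_
    rintro (_ | c) (_ | c') e
    · rfl
    · exact absurd (congrArg Subtype.val e).symm (hSc c' c'.2).1
    · exact absurd (congrArg Subtype.val e) (hSc c c.2).1
    · exact congrArg some (Subtype.ext ((congrArg Subtype.val e :)))
  have hZ : 2 ≤ Nat.card Z := by
    have : Nontrivial Z := (AddSubgroup.nontrivial_iff_ne_bot Z).2 h0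
    exact Finite.one_lt_card
  nlinarith

/-- Index of a subgroup across a homomorphism. -/
theorem index_of_hom {G K : Type*} [Group G] [Finite G] [Group K] (φ : G →* K) (H : Subgroup G) :
    H.index * φ.range.index = (H.map φ).index * H.relIndex φ.ker := by
  have hcard : H.relIndex (H ⊔ φ.ker) = H.relIndex φ.ker := by
    have h1 := Subgroup.inf_relIndex_right H φ.ker
    have a := Subgroup.card_mul_index ((H ⊓ φ.ker).subgroupOf φ.ker)
    have b := Subgroup.card_mul_index (H.subgroupOf (H ⊔ φ.ker))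
    have c := Subgroup.card_mul_index (φ.ker.subgroupOf (H ⊔ φ.ker))
    have d := Subgroup.card_mul_index ((H ⊓ φ.ker).subgroupOf H)
    rw [Nat.card_congr (Subgroup.subgroupOfEquivOfLe inf_le_right).toEquiv] at a
    rw [Nat.card_congr (Subgroup.subgroupOfEquivOfLe le_sup_left).toEquiv] at b
    rw [Nat.card_congr (Subgroup.subgroupOfEquivOfLe le_sup_right).toEquiv] at c
    rw [Nat.card_congr (Subgroup.subgroupOfEquivOfLe inf_le_left).toEquiv] at d
    change _ * (H ⊓ φ.ker).relIndex φ.ker = _ at a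
    change _ * H.relIndex (H ⊔ φ.ker) = _ at b
    change _ * φ.ker.relIndex (H ⊔ φ.ker) = _ at c
    change _ * (H ⊓ φ.ker).relIndex H = _ at d
    rw [h1] at a
    rw [Subgroup.inf_relIndex_left] at d
    rw [Subgroup.relIndex_sup_right, ← a] at c
    refine Nat.eq_of_mul_eq_mul_left (Nat.card_pos (α := H)) ?_
    rw [b, ← c, ← d]
    ring
  rw [Subgroup.index_map, mul_right_comm, ← hcard, mul_comm (H ⊔ φ.ker).index,
    Subgroup.relIndex_mul_index le_sup_left]

end Cfsg.Agent.Lib.MinIndexSp
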