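import Mathlib

/-!
# Minimal index in symplectic groups: abstract isometry groups, transvections and the unipotent
# radical `R a x c` of the stabiliser of a point
-/

set_option autoImplicit false
set_option linter.unusedSimpArgs false
set_option linter.unusedSectionVars false

namespace Cfsg.Agent.Lib.MinIndexSp

open LinearMap (BilinForm)

variable {F : Type*} [Field F] {V : Type*} [AddCommGroup V] [Module F V]

/-- A nondegenerate alternating form. -/
structure Good (B : BilinForm F V) : Prop where
  alt : ∀ v, B v v = 0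
  nd : ∀ v, (∀ w, B v w = 0) → v = 0

theorem Good.flip {B : BilinForm F V} (hB : Good B) (u v : V) : B v u = -B u v := by
  have h := hB.alt (u + v)
  simp only [map_add, LinearMap.add_apply, hB.alt, zero_add, add_zero] at h
  linear_combination h

theorem Good.symm0 {B : BilinForm F V} (hB : Good B) {u v : V} (h : B u v = 0) : B v u = 0 := by
  rw [hB.flip, h, neg_zero]

theorem Good.exists_ne {B : BilinForm F V} (hB : Good B) {v : V} (hv : v ≠ 0) : ∃ w, B v w ≠ 0 := by
  by_contra h
  push Not at h
  exact hv (hB.nd v h)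

theorem Good.exists_one {B : BilinForm F V} (hB : Good B) {v : V} (hv : v ≠ 0) : ∃ w, B v w = 1 := by
  obtain ⟨w, hw⟩ := hB.exists_ne hv
  exact ⟨(B v w)⁻¹ • w, by simp [inv_mul_cancel₀ hw]⟩

/-- The isometry group. -/
def Iso (B : BilinForm F V) : Subgroup (V ≃ₗ[F] V) where
  carrier := {g | ∀ u v, B (g u) (g v) = B u v}
  one_mem' := fun _ _ => rfl
  mul_mem' := fun {g h} hg hh u v => by
    show B (g (h u)) (g (h v)) = B u v
    rw [hg, hh]
  inv_mem' := fun {g} hg u v => by
    have := hg (g⁻¹ u) (g⁻¹ v)
    rw [show g (g⁻¹ u) = u from g.apply_symm_apply u,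
      show g (g⁻¹ v) = v from g.apply_symm_apply v] at this
    exact this.symm

variable {B : BilinForm F V}

theorem Iso.map_form (g : Iso B) (u v : V) : B (g.1 u) (g.1 v) = B u v := g.2 u v

@[simp] theorem Iso.mul_apply (g h : Iso B) (v : V) : (g * h).1 v = g.1 (h.1 v) := rfl

@[simp] theorem Iso.one_apply (v : V) : (1 : Iso B).1 v = v := rfl

@[simp] theorem Iso.apply_inv (g : Iso B) (v : V) : g.1 ((g⁻¹).1 v) = v := g.1.apply_symm_apply v

@[simp] theorem Iso.inv_apply' (g : Iso B) (v : V) : (g⁻¹).1 (g.1 v) = v := g.1.symm_apply_apply v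

theorem Iso.ext' {g h : Iso B} (e : ∀ v, g.1 v = h.1 v) : g = h :=
  Subtype.ext (LinearEquiv.ext e)

variable (hB : Good B)
include hB

/-- The transvection `x ↦ x + c B(x,v) v`. -/
def T (v : V) (c : F) : Iso B :=
  ⟨{ toFun := fun x => x + (c * B x v) • v
     map_add' := fun x y => by simp only [map_add, LinearMap.add_apply, mul_add, add_smul]; abel
     map_smul' := fun r x => by
       simp only [map_smul, LinearMap.smul_apply, smul_eq_mul, RingHom.id_apply, smul_add, smul_smul]
       rw [mul_left_comm]
     invFun := fun x => x + (-c * B x v) • v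
     left_inv := fun x => by
       simp only [map_add, map_smul, LinearMap.add_apply, LinearMap.smul_apply, hB.alt, smul_zero,
         add_zero]
       rw [add_assoc, ← add_smul, neg_mul, add_neg_cancel, zero_smul, add_zero]
     right_inv := fun x => by
       simp only [map_add, map_smul, LinearMap.add_apply, LinearMap.smul_apply, hB.alt, smul_zero,
         add_zero]
       rw [add_assoc, ← add_smul, neg_mul, neg_add_cancel, zero_smul, add_zero] },
   fun x y => by
     show B (x + (c * B x v) • v) (y + (c * B y v) • v) = B x y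
     simp only [map_add, map_smul, LinearMap.add_apply, LinearMap.smul_apply, smul_eq_mul, hB.alt,
       mul_zero, add_zero]
     rw [hB.flip y v]
     ring⟩

@[simp] theorem T_apply (v : V) (c : F) (x : V) : (T hB v c).1 x = x + (c * B x v) • v := rfl

theorem T_add (v : V) (c d : F) : T hB v (c + d) = T hB v c * T hB v d := by
  refine Iso.ext' fun x => ?_
  simp only [Iso.mul_apply, T_apply, map_add, map_smul, LinearMap.add_apply, LinearMap.smul_apply,
    smul_eq_mul, hB.alt, mul_zero, add_zero]
  module

theorem T_zero (v : V) : T hB v 0 = 1 := Iso.ext' fun x => by simp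

theorem T_inv (v : V) (c : F) : (T hB v c)⁻¹ = T hB v (-c) :=
  inv_eq_of_mul_eq_one_right (by rw [← T_add, add_neg_cancel, T_zero])

theorem T_smul (v : V) (s c : F) : T hB (s • v) c = T hB v (s * s * c) := by
  refine Iso.ext' fun x => ?_
  simp only [T_apply, map_smul, smul_eq_mul, smul_smul]
  ring_nf

theorem T_conj (g : Iso B) (v : V) (c : F) : g * T hB v c * g⁻¹ = T hB (g.1 v) c := by
  refine Iso.ext' fun x => ?_
  simp only [Iso.mul_apply, T_apply, map_add, map_smul, Iso.apply_inv]
  congr 2
  rw [← Iso.map_form g, Iso.apply_inv]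

/-- `R a x c` : for `B a x = 0` the element `v ↦ v + B(v,a) x + (B(v,x) + c B(v,a)) a`. -/
def R (a x : V) (c : F) : Iso B :=
  T hB (a + x) 1 * T hB a (-1) * T hB x (-1) * T hB a c

theorem R_apply {a x : V} (h : B a x = 0) (c : F) (v : V) :
    (R hB a x c).1 v = v + B v a • x + (B v x + c * B v a) • a := by
  have h' := hB.symm0 h
  simp only [R, Iso.mul_apply, T_apply, map_add, map_smul, LinearMap.add_apply,
    LinearMap.smul_apply, smul_eq_mul, hB.alt, h, h', mul_zero, add_zero, zero_add]
  module

theorem R_fix {a x : V} (h : B a x = 0) (c : F) : (R hB a x c).1 a = a := by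
  rw [R_apply hB h, hB.alt, h]; simp

theorem R_mul {a x y : V} (hx : B a x = 0) (hy : B a y = 0) (c d : F) :
    R hB a x c * R hB a y d = R hB a (x + y) (c + d + B y x) := by
  refine Iso.ext' fun v => ?_
  rw [Iso.mul_apply, R_apply hB hy, R_apply hB hx, R_apply hB (by rw [map_add, hx, hy, add_zero])]
  simp only [map_add, map_smul, LinearMap.add_apply, LinearMap.smul_apply, smul_eq_mul, hB.alt,
    hB.symm0 hx, hB.symm0 hy, hx, mul_zero, add_zero]
  module

theorem R_zero (a : V) : R hB a 0 0 = 1 :=
  Iso.ext' fun v => by rw [R_apply hB (map_zero _)]; simp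

theorem R_zero_eq_T (a : V) (c : F) : R hB a 0 c = T hB a c :=
  Iso.ext' fun v => by rw [R_apply hB (map_zero _)]; simp

theorem R_inv {a x : V} (hx : B a x = 0) (c : F) : (R hB a x c)⁻¹ = R hB a (-x) (-c) := by
  refine inv_eq_of_mul_eq_one_right ?_
  rw [R_mul hB hx (by rw [map_neg, hx, neg_zero])]
  simp [hB.alt, R_zero]

theorem R_shift {a x : V} (hx : B a x = 0) (c d : F) :
    R hB a (x + d • a) c = R hB a x (c + 2 * d) := by
  refine Iso.ext' fun v => ?_
  rw [R_apply hB (by simp [hx, hB.alt]), R_apply hB hx]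
  simp only [map_add, map_smul, smul_eq_mul]
  module

theorem R_conj (g : Iso B) {a x : V} (h : B a x = 0) (c : F) :
    g * R hB a x c * g⁻¹ = R hB (g.1 a) (g.1 x) c := by
  refine Iso.ext' fun v => ?_
  simp only [Iso.mul_apply]
  rw [R_apply hB h, R_apply hB (by rw [Iso.map_form, h])]
  simp only [map_add, map_smul, Iso.apply_inv]
  have e : ∀ w, B ((g⁻¹).1 v) w = B v (g.1 w) := fun w => by rw [← Iso.map_form g, Iso.apply_inv]
  rw [e, e]

/-- A radical element determines `x` modulo `a`. -/
theorem R_inj {a b x y : V} (hab : B a b = 1) (hx : B a x = 0) (hy : B a y = 0) (hbx : B b x = 0)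
    (hby : B b y = 0) {c d : F} (e : R hB a x c = R hB a y d) : x = y ∧ c = d := by
  have ha : a ≠ 0 := fun h => by simp [h] at hab
  have hba : B b a = -1 := by rw [hB.flip a b, hab]
  have h := congrArg (fun g : Iso B => g.1 b) e
  simp only [R_apply hB hx, R_apply hB hy, hbx, hby, hba, zero_add] at h
  have h1 := congrArg (fun w => B b w) h
  simp only [map_add, map_smul, hB.alt, hbx, hby, hba, smul_eq_mul] at h1
  have hc : c = d := by linear_combination h1
  subst hc
  exact ⟨by simpa using h, rfl⟩

/-- Any isometry fixing `a` and trivial on `a⊥` modulo `a` lies in the radical. -/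
theorem eq_R {a b : V} (hab : B a b = 1) (g : Iso B) (hga : g.1 a = a)
    (hg : ∀ v, B a v = 0 → ∃ e : F, g.1 v = v + e • a) :
    ∃ x c, B a x = 0 ∧ B b x = 0 ∧ g = R hB a x c := by
  have hba : B b a = -1 := by rw [hB.flip a b, hab]
  set w := g.1 b - b with hw
  have hwa : B a w = 0 := by
    rw [hw, map_sub, show B a (g.1 b) = 1 by
      conv_lhs => rw [← hga]
      rw [Iso.map_form, hab], hab, sub_self]
  refine ⟨-w - B b w • a, B b w, by simp [hwa, hB.alt], by simp [hba], Iso.ext' fun v => ?_⟩
  have hx : B a (-w - B b w • a) = 0 := by simp [hwa, hB.alt]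
  -- it suffices to check on `b` and on `a⊥`
  have key : ∀ u, B a u = 0 →
      g.1 u = (R hB a (-w - B b w • a) (B b w)).1 u := by
    intro u hu
    obtain ⟨e, he⟩ := hg u hu
    rw [R_apply hB hx, hB.symm0 hu, he]
    simp only [zero_smul, mul_zero, add_zero, map_sub, map_neg, map_smul, smul_eq_mul,
      hB.symm0 hu, sub_zero]
    congr 2
    have h := Iso.map_form g u b
    rw [he, show g.1 b = b + w by rw [hw]; abel] at h
    simp only [map_add, map_smul, LinearMap.add_apply, LinearMap.smul_apply, smul_eq_mul, hwa,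
      hab] at h
    linear_combination h
  have e : v = (v - B a v • b) + B a v • b := by abel
  rw [e, map_add, map_add, key _ (by simp [hab]), map_smul, map_smul]
  congr 2
  rw [R_apply hB hx, hba, show g.1 b = b + w by rw [hw]; abel]
  simp only [map_sub, map_neg, map_smul, hba, smul_eq_mul]
  module

/-- The transvection subgroup of `v` lies in `H`. -/
def Root (H : Subgroup (Iso B)) (v : V) : Prop := ∀ c, T hB v c ∈ H

theorem Root.smul {H : Subgroup (Iso B)} {v : V} (h : Root hB H v) (s : F) :
    Root hB H (s • v) := fun c => by rw [T_smul]; exact h _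

theorem Root.map {H : Subgroup (Iso B)} {v : V} (h : Root hB H v) {g : Iso B} (hg : g ∈ H) :
    Root hB H (g.1 v) := fun c => by
  rw [← T_conj]; exact H.mul_mem (H.mul_mem hg (h c)) (H.inv_mem hg)

theorem Root.add {H : Subgroup (Iso B)} {u v : V} (hu : Root hB H u) (hv : Root hB H v)
    (h : B u v ≠ 0) (s : F) : Root hB H (u + s • v) := by
  have := hu.map hB (hv (s * (B u v)⁻¹))
  rwa [T_apply, inv_mul_cancel_right₀ h] at this

theorem root_zero (H : Subgroup (Iso B)) : Root hB H (0 : V) := fun c => by
  rw [show T hB (0 : V) c = 1 from Iso.ext' fun x => by simp]; exact H.one_mem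

end Cfsg.Agent.Lib.MinIndexSp
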