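import Cfsg.Agent.Lib.MinIndexSp.Geometry

/-!
# Minimal index in symplectic groups: constraints on the data `W`, `Z0`, `M`, `D` of a point
-/

set_option autoImplicit false
set_option linter.unusedSectionVars false
set_option linter.unusedSimpArgs false

namespace Cfsg.Agent.Lib.MinIndexSp

open LinearMap (BilinForm)

variable {F : Type*} [Field F] {V : Type*} [AddCommGroup V] [Module F V] {B : BilinForm F V}
variable (hB : Good B) {H : Subgroup (Iso B)} {a b : V}

/-- The part of `Wt` in the complement, as a subgroup of the complement. -/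
def W0 (H : Subgroup (Iso B)) (a b : V) : AddSubgroup (comp B a b) :=
  (Wt hB H a).comap (comp B a b).subtype.toAddMonoidHom

include hB

theorem mem_W0 {x : comp B a b} : x ∈ W0 hB H a b ↔ (x : V) ∈ Wt hB H a := Iff.rfl

theorem card_W0 : Nat.card (W0 hB H a b) = Nat.card (W hB H a b) :=
  Nat.card_congr ⟨fun x => ⟨((x : comp B a b) : V), x.2, (x : comp B a b).2⟩,
    fun x => ⟨⟨(x : V), x.2.2⟩, x.2.1⟩, fun _ => rfl, fun _ => rfl⟩

theorem Wt_add_a {x : V} (hx : x ∈ Wt hB H a) (d : F) : x + d • a ∈ Wt hB H a := by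
  obtain ⟨hx, c, hc⟩ := hx
  refine ⟨by simp [hx, hB.alt], c - 2 * d, ?_⟩
  rwa [R_shift hB hx, sub_add_cancel]

/-- The image of `H` stabilises `W`. -/
theorem M_W0 (hab : B a b = 1) {g : Iso (form B a b)} (hg : g ∈ M hB H hab) {x : comp B a b}
    (hx : x ∈ W0 hB H a b) : g.1 x ∈ W0 hB H a b := by
  obtain ⟨h, hh, rfl⟩ := hg
  obtain ⟨hxa, c, hc⟩ := (mem_W0 hB).1 hx
  rw [mem_W0, compHom_apply, coe_pr, fix_perp hB h.2 hxa, zero_smul, sub_zero, sub_eq_add_neg,
    ← neg_smul]
  refine Wt_add_a hB ⟨fix_perp hB h.2 hxa, c, ?_⟩ _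
  have := H.mul_mem (H.mul_mem (show (h : Iso B) ∈ H from hh) hc)
    (H.inv_mem (show (h : Iso B) ∈ H from hh))
  rwa [R_conj hB _ hxa, show (h : Iso B).1 a = a from h.2] at this

theorem D_sq (hab : B a b = 1) {t : Fˣ} (ht : t ∈ D H hab) {z : F} (hz : z ∈ Z0 hB H a) :
    (t : F) * t * z ∈ Z0 hB H a := by
  obtain ⟨h, hh, rfl⟩ := ht
  show T hB a _ ∈ H
  have := H.mul_mem (H.mul_mem (show (h : Iso B) ∈ H from hh) (show T hB a z ∈ H from hz))
    (H.inv_mem (show (h : Iso B) ∈ H from hh))
  rwa [T_conj, ptScalar_spec hab h, T_smul] at this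

/-- Commutators in the radical. -/
theorem two_form_mem {x y : V} (hx : x ∈ Wt hB H a) (hy : y ∈ Wt hB H a) :
    2 * B y x ∈ Z0 hB H a := by
  obtain ⟨hxa, c, hc⟩ := hx
  obtain ⟨hya, d, hd⟩ := hy
  show T hB a _ ∈ H
  have h := H.mul_mem (H.mul_mem hc hd) (H.inv_mem (H.mul_mem hd hc))
  rw [R_mul hB hxa hya, R_mul hB hya hxa, R_inv hB (by simp [hxa, hya]),
    R_mul hB (by simp [hxa, hya]) (by simp [hxa, hya])] at h
  rw [← R_zero_eq_T]
  convert h using 2
  · abel
  · simp only [map_add, map_neg, LinearMap.add_apply, LinearMap.neg_apply, hB.alt, hB.flip x y]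
    ring

/-- The main commutator between two orthogonal points. -/
theorem R_smul_mem {r x y : V} (har : B a r = 0) (hx : x ∈ Wt hB H a) (hxr : B x r = 0)
    (hy : y ∈ Wt hB H r) (hya : B a y = 0) : R hB a (B x y • r) 0 ∈ H := by
  obtain ⟨hxa, c, hc⟩ := hx
  obtain ⟨hyr, e, he⟩ := hy
  have h := H.mul_mem (H.mul_mem (H.mul_mem he hc) (H.inv_mem he)) (H.inv_mem hc)
  rw [R_conj hB _ hxa, show (R hB r y e).1 a = a by
      rw [R_apply hB hyr, har, hya]; simp,
    show (R hB r y e).1 x = x + B x y • r by rw [R_apply hB hyr, hxr]; simp,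
    R_inv hB hxa, R_mul hB (by simp [hxa, har]) (by simp [hxa])] at h
  convert h using 2
  · abel
  · simp [hB.alt, hxr]

/-- The scalars `d` with `R a (d r) 0` in `H`. -/
def Kr (H : Subgroup (Iso B)) (a : V) {r : V} (har : B a r = 0) : AddSubgroup F where
  carrier := {d | R hB a (d • r) 0 ∈ H}
  zero_mem' := by show R hB a ((0 : F) • r) 0 ∈ H; rw [zero_smul, R_zero]; exact H.one_mem
  add_mem' := fun {c d} hc hd => by
    show R hB a ((c + d) • r) 0 ∈ H
    have := H.mul_mem hc hd
    rwa [R_mul hB (by simp [har]) (by simp [har]), ← add_smul,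
      show (0 : F) + 0 + B (d • r) (c • r) = 0 by simp [hB.alt]] at this
  neg_mem' := fun {c} hc => by
    show R hB a ((-c) • r) 0 ∈ H
    have := H.inv_mem hc
    rwa [R_inv hB (by simp [har]), ← neg_smul, neg_zero] at this

/-- A lift of an element fixing `a`, when the image on the complement is everything. -/
theorem exists_lift (hab : B a b = 1) (hM : M hB H hab = ⊤) {g : Iso B} (hg : g.1 a = a) :
    ∃ h ∈ H, h.1 a = a ∧ h⁻¹ * g ∈ Rad hB a := by
  obtain ⟨h, hh, he⟩ : compHom hB hab ⟨g, hg⟩ ∈ M hB H hab := hM ▸ Subgroup.mem_top _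
  refine ⟨h, hh, h.2, ?_⟩
  have : h⁻¹ * ⟨g, hg⟩ ∈ (compHom hB hab).ker := by
    rw [MonoidHom.mem_ker, map_mul, map_inv, he, inv_mul_cancel]
  rwa [compHom_ker hB hab, Subgroup.mem_subgroupOf] at this

theorem lift_apply {g h : Iso B} (hha : h.1 a = a) (hr : h⁻¹ * g ∈ Rad hB a) {v : V}
    (hv : B a v = 0) : ∃ e : F, h.1 v = g.1 v + e • a := by
  obtain ⟨e, he⟩ := hr.2 v hv
  refine ⟨-e, ?_⟩
  have := congrArg h.1 he
  rw [Iso.mul_apply, Iso.apply_inv, map_add, map_smul, hha] at this
  rw [this]; module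

variable [Finite F] [Finite V]

theorem D_index (hab : B a b = 1) (ha : ¬ Root hB H a) :
    Nat.card (Z0 hB H a) + 1 ≤ 2 * (D H hab).index ∧
    ((2 : F) = 0 → Nat.card (Z0 hB H a) ≤ (D H hab).index) ∧
    ((2 : F) = 0 → Z0 hB H a ≠ ⊥ → Nat.card (Z0 hB H a) + 1 ≤ (D H hab).index) := by
  have hg : 0 < (D H hab).index := Nat.pos_of_ne_zero Subgroup.index_ne_zero_of_finite
  by_cases h0 : Z0 hB H a = ⊥
  · have hc : Nat.card (Z0 hB H a) = 1 := by rw [h0]; exact AddSubgroup.card_bot
    refine ⟨by omega, fun _ => by omega, fun _ h => absurd h0 h⟩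
  let Sc : Set F := {c | c ≠ 0 ∧ ∀ z ∈ Z0 hB H a, c * z ∈ Z0 hB H a}
  have hS := scalar_stab (Z0 hB H a) h0 (Z0_ne_top hB H ha) Sc fun c hc => hc
  have hmap : ∀ t : D H hab, ((t : Fˣ) : F) * (t : Fˣ) ∈ Sc := fun t =>
    ⟨mul_ne_zero (Units.ne_zero _) (Units.ne_zero _), fun z hz => D_sq hB hab t.2 hz⟩
  have hcard : Nat.card (D H hab) * (D H hab).index = Nat.card F - 1 := by
    rw [Subgroup.card_mul_index, Nat.card_units]
  have h2 : Nat.card (D H hab) ≤ 2 * Nat.card Sc := by
    classical
    have := Fintype.ofFinite (D H hab)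
    have := Fintype.ofFinite Sc
    rw [Nat.card_eq_fintype_card, Nat.card_eq_fintype_card, ← Finset.card_univ, ← Finset.card_univ]
    refine Finset.card_le_mul_card_image_of_maps_to
      (f := fun t => (⟨_, hmap t⟩ : Sc)) (fun _ _ => Finset.mem_univ _) 2 fun c _ => ?_
    rcases Finset.eq_empty_or_nonempty
      (Finset.univ.filter fun t : D H hab => (⟨_, hmap t⟩ : Sc) = c) with h | ⟨t₀, ht₀⟩
    · rw [h]; simp
    refine (Finset.card_le_card_of_injOn (fun t : D H hab => ((t : Fˣ) : F))
      (t := ({((t₀ : Fˣ) : F), -((t₀ : Fˣ) : F)} : Finset F)) ?_ ?_).trans Finset.card_le_two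
    · intro t ht
      simp only [Finset.coe_filter, Finset.mem_univ, true_and, Set.mem_setOf_eq] at ht
      simp only [Finset.mem_filter, Finset.mem_univ, true_and] at ht₀
      have := congrArg Subtype.val (ht.trans ht₀.symm)
      simpa using mul_self_eq_mul_self_iff.1 this
    · intro t _ t' _ e
      exact Subtype.ext (Units.ext e)
  have hchar : (2 : F) = 0 → Nat.card (D H hab) ≤ Nat.card Sc := by
    intro h
    refine Nat.card_le_card_of_injective (fun t => (⟨_, hmap t⟩ : Sc)) fun t t' e => ?_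
    refine Subtype.ext (Units.ext ?_)
    rcases mul_self_eq_mul_self_iff.1 (congrArg Subtype.val e :) with h' | h'
    · exact h'
    · rw [h', neg_eq_iff_add_eq_zero, ← two_mul, h, zero_mul]
  have hlt : Nat.card (Z0 hB H a) * Nat.card Sc < Nat.card (D H hab) * (D H hab).index := by
    rw [hcard]; omega
  have hc2 : (2 : F) = 0 → Nat.card (Z0 hB H a) + 1 ≤ (D H hab).index := by
    intro h
    have := lt_of_lt_of_le hlt (Nat.mul_le_mul_right _ (hchar h))
    rw [mul_comm] at this
    exact Nat.lt_of_mul_lt_mul_left this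
  refine ⟨?_, fun h => by have := hc2 h; omega, fun h _ => hc2 h⟩
  have := lt_of_lt_of_le hlt (Nat.mul_le_mul_right _ h2)
  rw [mul_comm, mul_comm 2, mul_assoc] at this
  exact Nat.lt_of_mul_lt_mul_left this

/-- If the image on the complement is everything, `W` vanishes. -/
theorem W0_eq_bot (hab : B a b = 1) (hq : 3 ≤ Nat.card F) (ha : ¬ Root hB H a)
    (hM : M hB H hab = ⊤) : W0 hB H a b = ⊥ := by
  by_contra hne
  obtain ⟨⟨w, hw⟩, hw'⟩ := (W0 hB H a b).ne_bot_iff_exists_ne_zero.1 hne
  have hw0 : w ≠ 0 := fun e => hw' (Subtype.ext e)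
  have hB' := form_good hB hab
  have hline : ∀ c : comp B a b, form B a b w c ≠ 0 → ∀ s : F, s • c ∈ W0 hB H a b := by
    intro c hc s
    have hm : T hB' c (s * (form B a b w c)⁻¹) ∈ M hB H hab := hM ▸ Subgroup.mem_top _
    have := (W0 hB H a b).sub_mem (M_W0 hB hab hm hw) hw
    rwa [T_apply, inv_mul_cancel_right₀ hc, add_sub_cancel_left] at this
  have hall : ∀ y : comp B a b, y ∈ W0 hB H a b := by
    intro y
    obtain ⟨c, hc⟩ := hB'.exists_ne hw0
    by_cases hy : form B a b w y = 0
    · have h1 := hline (y + c) (by rwa [map_add, hy, zero_add]) 1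
      have h2 := hline c hc 1
      rw [one_smul] at h1 h2
      simpa using (W0 hB H a b).sub_mem h1 h2
    · simpa using hline y hy 1
  have hz : ∀ z : F, z ∈ Z0 hB H a := by
    intro z
    by_cases h2 : (2 : F) = 0
    · obtain ⟨v, hv⟩ := hB'.exists_one hw0
      have hv0 : v ≠ 0 := fun e => by simp [e] at hv
      have key : ∀ β : F, β ≠ 0 → R hB a (v : V) β ∈ H := by
        intro β hβ
        have hxW := hall (β • w)
        obtain ⟨hxa, c, hc⟩ := (mem_W0 hB).1 hxW
        obtain ⟨h, hh, hha, hr⟩ := exists_lift hB hab hM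
          (g := T hB (v : V) β⁻¹) (by rw [T_apply, (mem_comp.1 v.2).1]; simp)
        obtain ⟨e, he⟩ := lift_apply hB hha hr hxa
        have hb : B ((β • w : comp B a b) : V) v = β := by
          show B (β • (w : V)) v = β
          rw [map_smul, LinearMap.smul_apply, show B (w : V) v = 1 from hv, smul_eq_mul, mul_one]
        rw [T_apply, hb, inv_mul_cancel₀ hβ, one_smul] at he
        have h3 := H.mul_mem (H.mul_mem (H.mul_mem hh hc) (H.inv_mem hh)) (H.inv_mem hc)
        rw [R_conj hB _ hxa, hha, he, R_inv hB hxa,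
          R_mul hB (by simp [hxa, hB.alt, (mem_comp.1 v.2).1, (mem_comp.1 w.2).1])
            (by simp [hxa, (mem_comp.1 w.2).1])] at h3
        rw [show ((β • w : comp B a b) : V) + (v : V) + e • a + -((β • w : comp B a b) : V)
          = (v : V) + e • a by abel, R_shift hB (mem_comp.1 v.2).1] at h3
        convert h3 using 2
        simp only [map_add, map_neg, map_smul, LinearMap.neg_apply, hB.alt, hb, hB.symm0 hxa,
          smul_eq_mul, mul_zero, add_zero, zero_add, h2, zero_mul, add_neg_cancel]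
        linear_combination β * h2
      obtain ⟨β, hβ0, hβz⟩ : ∃ β : F, β ≠ 0 ∧ β ≠ -z := by
        classical
        have := Fintype.ofFinite F
        obtain ⟨t, -, ht⟩ := Finset.exists_mem_notMem_of_card_lt_card
          (s := ({0, -z} : Finset F)) (t := Finset.univ)
          (by rw [Finset.card_univ, ← Nat.card_eq_fintype_card]
              exact lt_of_le_of_lt Finset.card_le_two hq)
        simp only [Finset.mem_insert, Finset.mem_singleton, not_or] at ht
        exact ⟨t, ht.1, ht.2⟩
      have hv' := (mem_comp.1 v.2).1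
      have h4 := H.mul_mem (H.inv_mem (key β hβ0))
        (key (β + z) fun e => hβz (eq_neg_of_add_eq_zero_left e))
      rw [R_inv hB hv', R_mul hB (by simp [hv']) hv', neg_add_cancel, R_zero_eq_T] at h4
      show T hB a z ∈ H
      convert h4 using 2
      simp [hB.alt]
    · obtain ⟨v, hv⟩ := hB'.exists_one hw0
      have h1 := two_form_mem hB ((mem_W0 hB).1 (hall ((z / 2) • v))) ((mem_W0 hB).1 (hall w))
      have e : 2 * B (w : V) ((z / 2) • v : comp B a b) = z := by
        show 2 * B (w : V) ((z / 2) • (v : V)) = z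
        rw [map_smul, show B (w : V) v = 1 from hv, smul_eq_mul, mul_one]
        field_simp
      rwa [e] at h1
  exact ha fun z => hz z

/-- With full image and a nontrivial scalar, all roots of some complement lie in `H`. -/
theorem big_of_M_top_of_scalar (hH : H ≠ ⊤) (hab : B a b = 1) (hq : 3 ≤ Nat.card F)
    (ha : ¬ Root hB H a) (hM : M hB H hab = ⊤) (hne : comp B a b ≠ ⊥)
    (h3 : Nat.card F = 3 → Nat.card F * Nat.card F < Nat.card (comp B a b))
    (hD : D H hab ≠ ⊥) : Big H := by
  classical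
  -- an element scaling `a` and trivial on `a⊥` modulo `a`
  obtain ⟨⟨t, ht⟩, ht'⟩ := (D H hab).ne_bot_iff_exists_ne_one.1 hD
  have ht1 : t ≠ 1 := fun e => ht' (Subtype.ext e)
  obtain ⟨g, hg, hgt⟩ := ht
  have hga : (g : Iso B).1 a = (t : F) • a := by rw [ptScalar_spec hab g, hgt]
  have hfix : ((ext hB hab 1 t)⁻¹ * (g : Iso B)).1 a = a := by
    rw [Iso.mul_apply, hga, map_smul]
    have := congrArg ((ext hB hab 1 t)⁻¹).1 (ext_apply_a hB hab 1 t)
    rw [Iso.inv_apply', map_smul] at this
    exact this.symm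
  obtain ⟨k, hk, hka, hkr⟩ := exists_lift hB hab hM hfix
  set g₁ : Iso B := k⁻¹ * g with hg₁
  have hg₁H : g₁ ∈ H := H.mul_mem (H.inv_mem hk) hg
  have hg₁a : g₁.1 a = (t : F) • a := by
    rw [hg₁, Iso.mul_apply, hga, map_smul]
    congr 1
    conv_lhs => rw [← hka]
    exact Iso.inv_apply' k a
  have hext : ∀ u, B a u = 0 → ∃ e : F, (ext hB hab 1 t).1 u = u + e • a := by
    intro u hu
    refine ⟨B u b * (t : F) - B u b, ?_⟩
    have hu' : u = ((pr hB hab u : comp B a b) : V) + B u b • a := by
      rw [coe_pr, hu]; module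
    conv_lhs => rw [hu']
    conv_rhs => rw [hu']
    rw [map_add, map_smul, ext_apply_comp, ext_apply_a, Iso.one_apply]
    simp only [map_add, LinearMap.add_apply, map_smul, LinearMap.smul_apply, hab,
      hB.symm0 (mem_comp.1 (pr hB hab u).2).2, smul_eq_mul, zero_add, mul_one]
    module
  have hg₁v : ∀ v, B a v = 0 → ∃ e : F, g₁.1 v = v + e • a := by
    intro v hv
    obtain ⟨e, he⟩ := lift_apply hB hka hkr hv
    have hkv : B a (k.1 v) = 0 := by rw [← hka, Iso.map_form, hv]
    obtain ⟨d, hd⟩ := hext (k.1 v) hkv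
    refine ⟨d - e * (t : F), ?_⟩
    have hgv : (g : Iso B).1 v = k.1 v + (d - e * (t : F)) • a := by
      have : (ext hB hab 1 t).1 (k.1 v) = (g : Iso B).1 v + (e * (t : F)) • a := by
        rw [he, Iso.mul_apply, map_add, Iso.apply_inv, map_smul, ext_apply_a, smul_smul]
      rw [hd] at this
      rw [sub_smul, ← add_sub_assoc, this]
      abel
    rw [hg₁, Iso.mul_apply, hgv, map_add, map_smul, Iso.inv_apply']
    congr 2
    conv_lhs => rw [← hka]
    exact Iso.inv_apply' k a
  -- a complement fixed by `g₁`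
  have ht1' : (1 : F) - (t : F) ≠ 0 := sub_ne_zero.2 fun e => ht1 (Units.ext e.symm)
  set x : V := ((t : F) / (1 - (t : F))) • ((pr hB hab (g₁.1 b) : comp B a b) : V) with hx
  set b' : V := b + x with hb'
  have hxc : x ∈ comp B a b := Submodule.smul_mem _ _ (pr hB hab _).2
  have hab' : B a b' = 1 := by rw [hb', map_add, hab, (mem_comp.1 hxc).1, add_zero]
  have hfixc : ∀ v ∈ comp B a b', g₁.1 v = v := by
    intro v hv
    obtain ⟨hva, hvb⟩ := mem_comp.1 hv
    obtain ⟨e, he⟩ := hg₁v v hva
    suffices e = 0 by rw [he, this, zero_smul, add_zero]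
    have h1 : B (g₁.1 b) (g₁.1 v) = B b v := Iso.map_form _ _ _
    have h2 : B (g₁.1 b) (g₁.1 a) = -1 := by rw [Iso.map_form, hB.flip a b, hab]
    rw [hg₁a, map_smul, smul_eq_mul] at h2
    rw [he, map_add, map_smul, smul_eq_mul] at h1
    rw [hb', map_add, LinearMap.add_apply, hx, map_smul, LinearMap.smul_apply, coe_pr] at hvb
    simp only [map_sub, map_smul, LinearMap.sub_apply, LinearMap.smul_apply, smul_eq_mul,
      hva] at hvb
    have h3 : B a (g₁.1 b) * (t : F) = 1 := by
      have := Iso.map_form g₁ a b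
      rw [hg₁a, map_smul, LinearMap.smul_apply, hab, smul_eq_mul] at this
      linear_combination this
    have h4 : B (g₁.1 b) v * (t : F) = B b v * (t : F) + e := by
      linear_combination (t : F) * h1 - e * h2
    field_simp at hvb
    linear_combination hvb - h4 + (B b v) * h3
  have hM' : M hB H hab' = ⊤ := by
    refine eq_top_iff.2 fun γ _ => ?_
    obtain ⟨f, hf⟩ := compHom_surjective hB hab' γ
    obtain ⟨h, hh, hha, hr⟩ := exists_lift hB hab hM (g := (f : Iso B)) f.2
    refine ⟨⟨h, hha⟩, hh, ?_⟩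
    rw [← hf, ← inv_inv (compHom hB hab' ⟨h, hha⟩), ← map_inv, inv_eq_iff_mul_eq_one, ← map_mul,
      ← MonoidHom.mem_ker, compHom_ker hB hab', Subgroup.mem_subgroupOf]
    exact hr
  have hW' : W0 hB H a b' = ⊥ := W0_eq_bot hB hab' hq ha hM'
  have hne' : comp B a b' ≠ ⊥ := by
    intro e
    have h1 : Nat.card (comp B a b') = 1 := by rw [e]; exact Nat.card_unique
    have h2 := card_eq_comp hB hab'
    rw [h1, card_eq_comp hB hab] at h2
    have := Nat.eq_of_mul_eq_mul_right (Nat.mul_pos Nat.card_pos Nat.card_pos) h2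
    rw [Nat.card_eq_one_iff_unique] at this
    exact hne ((Submodule.eq_bot_iff _).2 fun y hy =>
      congrArg Subtype.val (this.1.elim (⟨y, hy⟩ : comp B a b) 0))
  have h3' : Nat.card F = 3 → Nat.card F * Nat.card F < Nat.card (comp B a b') := by
    have h2 := card_eq_comp hB hab'
    rw [card_eq_comp hB hab] at h2
    rw [← Nat.eq_of_mul_eq_mul_right (Nat.mul_pos Nat.card_pos Nat.card_pos) h2]
    exact h3
  refine big_of_comp_roots hB hH hab' hq hne' ?_
  -- every transvection of the complement lifts exactly up to one at `a`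
  have hlift : ∀ v ∈ comp B a b', ∀ c : F, ∃ z : F, T hB v c * T hB a z ∈ H := by
    intro v hv c
    have hva := (mem_comp.1 hv).1
    have hTa : (T hB v c).1 a = a := by rw [T_apply, hva]; simp
    obtain ⟨h, hh, hha, hr⟩ := exists_lift hB hab' hM' hTa
    have hcomm : g₁ * h * g₁⁻¹ * h⁻¹ ∈ Rad hB a := by
      refine ⟨?_, fun u hu => ?_⟩
      · have e1 : (h⁻¹).1 a = a := by conv_lhs => rw [← hha]; rw [Iso.inv_apply']
        have e2 : (g₁⁻¹).1 a = (↑t⁻¹ : F) • a := by
          have := congrArg (g₁⁻¹).1 hg₁a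
          rw [Iso.inv_apply', map_smul] at this
          conv_rhs => rw [this]
          rw [smul_smul, Units.inv_mul, one_smul]
        simp only [Iso.mul_apply, e1, e2, map_smul, hha, hg₁a, smul_smul, Units.inv_mul, one_smul]
      · have e1 : B a ((h⁻¹).1 u) = 0 := by
          rw [← Iso.map_form h, Iso.apply_inv, hha, hu]
        have e2 : B a ((g₁⁻¹).1 ((h⁻¹).1 u)) = 0 := by
          rw [← Iso.map_form g₁, Iso.apply_inv, hg₁a, map_smul, LinearMap.smul_apply, e1, smul_zero]
        have e3 : B a (h.1 ((g₁⁻¹).1 ((h⁻¹).1 u))) = 0 := by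
          rw [← hha, Iso.map_form, e2]
        obtain ⟨d1, hd1⟩ := hg₁v _ e2
        obtain ⟨d2, hd2⟩ := hg₁v _ e3
        rw [Iso.apply_inv] at hd1
        refine ⟨d2 - d1, ?_⟩
        simp only [Iso.mul_apply]
        rw [hd2]
        have := congrArg h.1 hd1
        rw [Iso.apply_inv, map_add, map_smul, hha] at this
        conv_rhs => rw [this]
        module
    obtain ⟨y, d, hy, hyb, hye⟩ := eq_R hB hab' _ hcomm.1 hcomm.2
    have hy0 : y = 0 := by
      have hyW : (⟨y, hy, hyb⟩ : comp B a b') ∈ W0 hB H a b' := (mem_W0 hB).2 ⟨hy, d, by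
        rw [← hye]
        exact H.mul_mem (H.mul_mem (H.mul_mem hg₁H hh) (H.inv_mem hg₁H)) (H.inv_mem hh)⟩
      rw [hW'] at hyW
      exact congrArg Subtype.val (AddSubgroup.mem_bot.1 hyW :)
    rw [hy0, R_zero_eq_T] at hye
    -- `h` agrees with the transvection on the complement
    have hexact : ∀ u ∈ comp B a b', h.1 u = (T hB v c).1 u := by
      intro u hu
      have hua := (mem_comp.1 hu).1
      obtain ⟨e, he⟩ := lift_apply hB hha hr hua
      have hTu : (T hB v c).1 u ∈ comp B a b' := by
        rw [T_apply]; exact add_mem hu (Submodule.smul_mem _ _ hv)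
      have h1 : g₁ * h = T hB a d * h * g₁ := by rw [← hye]; group
      have h2 := congrArg (fun f : Iso B => f.1 u) h1
      simp only [Iso.mul_apply, hfixc u hu, T_apply hB a d] at h2
      rw [show B (h.1 u) a = 0 from hB.symm0 (by rw [← hha, Iso.map_form, hua]), mul_zero,
        zero_smul, add_zero, he, map_add, map_smul, hfixc _ hTu, hg₁a, smul_smul,
        add_right_inj] at h2
      have h3 := congrArg (fun w => B w b') h2
      simp only [map_smul, LinearMap.smul_apply, hab', smul_eq_mul, mul_one] at h3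
      have : e * ((t : F) - 1) = 0 := by linear_combination h3
      rw [mul_eq_zero, sub_eq_zero] at this
      rw [he, this.resolve_right fun e => ht1 (Units.ext e), zero_smul, add_zero]
    obtain ⟨y, z, hy, hyb, hye⟩ := eq_R hB hab' _ hr.1 hr.2
    have hy0 : y = 0 := by
      by_contra h0
      obtain ⟨u, hu, hne0⟩ := comp_nd hB hab' y ⟨hy, hyb⟩ h0
      have h1 := congrArg (fun f : Iso B => f.1 u) hye
      simp only [Iso.mul_apply, ← hexact u hu, Iso.inv_apply'] at h1
      rw [R_apply hB hy, hB.symm0 (mem_comp.1 hu).1, mul_zero, add_zero, zero_smul, add_zero,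
        left_eq_add] at h1
      rcases smul_eq_zero.1 h1 with h | h
      · exact hne0 (hB.symm0 h)
      · rw [h] at hab'; simp at hab'
    refine ⟨-z, ?_⟩
    rw [← T_inv, ← R_zero_eq_T hB a z, ← hy0, ← hye, mul_inv_rev, inv_inv, mul_inv_cancel_left]
    exact hh
  -- the correction is additive and invariant, hence trivial
  let E : V → F → Set F := fun v c => {z | T hB v c * T hB a z ∈ H}
  have huniq : ∀ v c z z', z ∈ E v c → z' ∈ E v c → z - z' ∈ Z0 hB H a := by
    intro v c z z' h h'
    show T hB a _ ∈ H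
    have := H.mul_mem (H.inv_mem h') h
    rw [mul_inv_rev, mul_assoc, inv_mul_cancel_left, T_inv, ← T_add, neg_add_eq_sub] at this
    exact this
  have hcommT : ∀ v, B a v = 0 → ∀ c z, T hB v c * T hB a z = T hB a z * T hB v c := by
    intro v hv c z
    rw [← mul_inv_eq_iff_eq_mul, T_conj]
    congr 1
    rw [T_apply, hv]; simp
  choose! Z hZ using hlift
  have hadd : ∀ v ∈ comp B a b', ∀ c d, Z v (c + d) - (Z v c + Z v d) ∈ Z0 hB H a := by
    intro v hv c d
    refine huniq v (c + d) _ _ (hZ v hv _) ?_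
    show T hB v (c + d) * T hB a (Z v c + Z v d) ∈ H
    rw [T_add, T_add, mul_assoc, ← mul_assoc (T hB v d), hcommT v (mem_comp.1 hv).1 d,
      mul_assoc (T hB a _), ← mul_assoc]
    exact H.mul_mem (hZ v hv c) (hZ v hv d)
  -- the subgroup of elements that lie in `H` up to a transvection at `a`
  let K : Subgroup (Iso B) :=
    { carrier := {g | g.1 a = a ∧ ∃ z, g * T hB a z ∈ H}
      one_mem' := ⟨rfl, 0, by rw [one_mul, T_zero]; exact H.one_mem⟩
      mul_mem' := fun {g g'} ⟨hg, z, hz⟩ ⟨hg', z', hz'⟩ =>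
        ⟨by rw [Iso.mul_apply, hg', hg], z + z', by
          have := H.mul_mem hz hz'
          have e : g' * T hB a z = T hB a z * g' := by
            rw [← mul_inv_eq_iff_eq_mul, T_conj, hg']
          rwa [mul_assoc, ← mul_assoc (T hB a z), ← e, mul_assoc g', ← T_add, ← mul_assoc] at this⟩
      inv_mem' := fun {g} ⟨hg, z, hz⟩ =>
        ⟨by conv_lhs => rw [← hg]
            exact Iso.inv_apply' g a, -z, by
          have := H.inv_mem hz
          have e : T hB a (-z) * g⁻¹ = g⁻¹ * T hB a (-z) := by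
            rw [eq_inv_mul_iff_mul_eq, ← mul_assoc, mul_inv_eq_iff_eq_mul]
            have h := T_conj hB g a (-z)
            rw [hg, mul_inv_eq_iff_eq_mul] at h
            exact h
          rwa [mul_inv_rev, T_inv, e] at this⟩ }
  have hinv : ∀ v ∈ comp B a b', ∀ v' ∈ comp B a b', v ≠ 0 → v' ≠ 0 → ∀ c,
      Z v' c - Z v c ∈ Z0 hB H a := by
    intro v hv v' hv' h0 h0' c
    have hrootK : ∀ w ∈ comp B a b', Root hB K w := fun w hw c =>
      ⟨by rw [T_apply, (mem_comp.1 hw).1]; simp, _, hZ w hw c⟩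
    obtain ⟨k, ⟨hka, z, hkz⟩, hkv, -⟩ :=
      exists_move hB (comp B a b') hrootK (comp_nd hB hab') hv hv' h0 h0'
    refine huniq v' c _ _ (hZ v' hv' c) ?_
    show T hB v' c * T hB a (Z v c) ∈ H
    have := H.mul_mem (H.mul_mem hkz (hZ v hv c)) (H.inv_mem hkz)
    rw [← conj_mul, T_conj, T_conj, Iso.mul_apply, Iso.mul_apply, T_apply, T_apply,
      hB.symm0 (mem_comp.1 hv).1, hB.alt] at this
    simpa [hkv, hka] using this
  obtain ⟨v₀, hv₀, hv₀0⟩ := Submodule.exists_mem_ne_zero_of_ne_bot hne'
  have hzero : ∀ c, Z v₀ c ∈ Z0 hB H a := by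
    let q₀ : F →+ F ⧸ Z0 hB H a :=
      { toFun := fun c => QuotientAddGroup.mk (Z v₀ c)
        map_zero' := by
          have h := hadd v₀ hv₀ 0 0
          rw [add_zero, sub_add_eq_sub_sub, sub_self, zero_sub] at h
          exact (QuotientAddGroup.eq_zero_iff _).2 (by simpa using h)
        map_add' := fun c d => by
          rw [← QuotientAddGroup.mk_add]
          exact (QuotientAddGroup.eq_iff_sub_mem).2 (hadd v₀ hv₀ c d) }
    have hq0 : ∀ v ∈ comp B a b', v ≠ 0 → ∀ c, q₀ c = QuotientAddGroup.mk (Z v c) :=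
      fun v hv h0 c => (QuotientAddGroup.eq_iff_sub_mem).2 (hinv v hv v₀ hv₀ h0 hv₀0 c)
    intro c
    rw [← QuotientAddGroup.eq_zero_iff]
    show q₀ c = 0
    by_cases hs : ∃ s : F, s ≠ 0 ∧ s * s ≠ 1
    · obtain ⟨s, hs0, hs1⟩ := hs
      have key : ∀ d, q₀ (s * s * d) = q₀ d := by
        intro d
        have hsv : s • v₀ ∈ comp B a b' := Submodule.smul_mem _ _ hv₀
        rw [hq0 _ hsv (smul_ne_zero hs0 hv₀0) d]
        refine (QuotientAddGroup.eq_iff_sub_mem).2 (huniq v₀ (s * s * d) _ _ (hZ v₀ hv₀ _) ?_)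
        show T hB v₀ (s * s * d) * T hB a (Z (s • v₀) d) ∈ H
        rw [← T_smul]
        exact hZ _ hsv d
      have := key (c / (s * s - 1))
      rw [← sub_eq_zero, ← map_sub] at this
      rw [show s * s * (c / (s * s - 1)) - c / (s * s - 1) = c by
        rw [← sub_one_mul, mul_div_cancel₀ _ (sub_ne_zero.2 hs1)]] at this
      exact this
    · push Not at hs
      -- three elements
      have hq3 : Nat.card F = 3 := by
        classical
        have := Fintype.ofFinite F
        refine le_antisymm ?_ hq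
        rw [Nat.card_eq_fintype_card, ← Finset.card_univ]
        refine (Finset.card_le_card (t := ({0, 1, -1} : Finset F)) fun s _ => ?_).trans
          Finset.card_le_three
        rcases eq_or_ne s 0 with rfl | h0
        · simp
        · rcases mul_self_eq_one_iff.1 (hs s h0) with h | h <;> simp [h]
      have h2 : (2 : F) ≠ 0 := by
        intro h
        have : CharP F 2 := CharTwo.of_one_ne_zero_of_two_eq_zero one_ne_zero h
        have := Fintype.ofFinite F
        obtain ⟨n, hn⟩ := FiniteField.card F 2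
        rw [Nat.card_eq_fintype_card, hn.2] at hq3
        have : 2 ∣ 2 ^ (n : ℕ) := dvd_pow_self 2 n.pos.ne'
        omega
      -- an orthogonal pair in the complement
      obtain ⟨w, hw, hwv, hwperp⟩ : ∃ w ∈ comp B a b', w ∉ Submodule.span F {v₀} ∧ B v₀ w = 0 := by
        by_contra hcon
        push Not at hcon
        let f : comp B a b' →ₗ[F] F := (B v₀).comp (comp B a b').subtype
        have hk : Nat.card (LinearMap.ker f) ≤ Nat.card F := by
          refine le_trans (Nat.card_le_card_of_injective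
            (β := (Submodule.span F {v₀} : Submodule F V))
            (fun w => ⟨((w : comp B a b') : V), ?_⟩) ?_)
            (Nat.card_le_card_of_surjective (fun r : F =>
              (⟨r • v₀, Submodule.smul_mem _ r (Submodule.mem_span_singleton_self _)⟩ :
                (Submodule.span F {v₀} : Submodule F V))) ?_)
          · by_contra hh
            exact hcon _ (w : comp B a b').2 hh (LinearMap.mem_ker.1 w.2)
          · intro w w' e
            exact Subtype.ext (Subtype.ext (congrArg Subtype.val e :))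
          · rintro ⟨y, hy⟩
            obtain ⟨r, rfl⟩ := Submodule.mem_span_singleton.1 hy
            exact ⟨r, rfl⟩
        have h1 := (LinearMap.ker f).card_eq_card_quotient_mul_card
        have h2 : Nat.card (comp B a b' ⧸ LinearMap.ker f) ≤ Nat.card F :=
          Nat.card_le_card_of_injective (fun y => ((LinearMap.quotKerEquivRange f y : LinearMap.range f) : F))
            fun y y' e => (LinearMap.quotKerEquivRange f).injective (Subtype.ext e)
        have h3'' := h3' hq3
        rw [h1] at h3''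
        first
          | exact absurd h3'' (not_lt.2 (Nat.mul_le_mul h2 hk))
          | exact absurd h3'' (not_lt.2 (Nat.mul_le_mul hk h2))
      have hw0 : w ≠ 0 := fun e => hwv (by rw [e]; exact Submodule.zero_mem _)
      have hp : v₀ + w ≠ 0 := fun e => hwv (by
        rw [eq_neg_of_add_eq_zero_right e]
        exact Submodule.neg_mem _ (Submodule.mem_span_singleton_self _))
      have hm : v₀ - w ≠ 0 := fun e => hwv (by
        rw [← sub_eq_zero.1 e]; exact Submodule.mem_span_singleton_self _)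
      have hsum : q₀ c + q₀ c = q₀ (2 * c) + q₀ (2 * c) := by
        have l1 : q₀ c + q₀ c = (QuotientAddGroup.mk (Z (v₀ + w) c) : F ⧸ Z0 hB H a)
            + QuotientAddGroup.mk (Z (v₀ - w) c) := by
          rw [← hq0 _ (add_mem hv₀ hw) hp c, ← hq0 _ (sub_mem hv₀ hw) hm c]
        have r1 : q₀ (2 * c) + q₀ (2 * c) = (QuotientAddGroup.mk (Z v₀ (2 * c)) : F ⧸ Z0 hB H a)
            + QuotientAddGroup.mk (Z w (2 * c)) := by
          rw [← hq0 _ hv₀ hv₀0 (2 * c), ← hq0 _ hw hw0 (2 * c)]
        rw [l1, r1]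
        rw [← QuotientAddGroup.mk_add, ← QuotientAddGroup.mk_add]
        refine (QuotientAddGroup.eq_iff_sub_mem).2 ?_
        show T hB a _ ∈ H
        have hmem1 := H.mul_mem (hZ _ (add_mem hv₀ hw) c) (hZ _ (sub_mem hv₀ hw) c)
        have hmem2 := H.mul_mem (hZ _ hv₀ (2 * c)) (hZ _ hw (2 * c))
        have hid : T hB (v₀ + w) c * T hB (v₀ - w) c = T hB v₀ (2 * c) * T hB w (2 * c) := by
          refine Iso.ext' fun u => ?_
          simp only [Iso.mul_apply, T_apply, map_add, map_sub, map_smul, LinearMap.add_apply,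
            LinearMap.sub_apply, LinearMap.smul_apply, smul_eq_mul, hB.alt, hwperp,
            hB.symm0 hwperp, mul_zero, add_zero, sub_zero, zero_add, sub_self]
          module
        have hsa : B a (v₀ - w) = 0 := by
          rw [map_sub, (mem_comp.1 hv₀).1, (mem_comp.1 hw).1, sub_self]
        rw [mul_assoc, ← mul_assoc (T hB a _), ← hcommT _ hsa c,
          mul_assoc (T hB (v₀ - w) c), ← T_add, ← mul_assoc, hid] at hmem1
        rw [mul_assoc, ← mul_assoc (T hB a (Z v₀ (2 * c))), ← hcommT _ (mem_comp.1 hw).1,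
          mul_assoc (T hB w _), ← T_add, ← mul_assoc] at hmem2
        have := H.mul_mem (H.inv_mem hmem2) hmem1
        rw [mul_inv_rev, mul_assoc, inv_mul_cancel_left, T_inv, ← T_add] at this
        convert this using 2
        abel
      have e2 : ∀ d, q₀ (2 * d) = q₀ d + q₀ d := fun d => by rw [two_mul, map_add]
      rw [e2, left_eq_add, ← e2] at hsum
      have this := hsum
      -- `2 c = -c`
      have hc : (2 : F) * c = -c := by
        have := Fintype.ofFinite F
        have h := FiniteField.cast_card_eq_zero F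
        rw [← Nat.card_eq_fintype_card, hq3] at h
        have h3F : (3 : F) = 0 := by exact_mod_cast h
        linear_combination c * h3F
      rw [hc, map_neg, neg_eq_zero] at this
      exact this
  intro v hv c
  by_cases h0 : v = 0
  · rw [h0]; exact root_zero hB H c
  have hz : Z v c ∈ Z0 hB H a := by
    have := (Z0 hB H a).add_mem (hinv v₀ hv₀ v hv hv₀0 h0 c) (hzero c)
    rwa [sub_add_cancel] at this
  have := H.mul_mem (hZ v hv c) (H.inv_mem (show T hB a (Z v c) ∈ H from hz))
  rwa [mul_inv_cancel_right] at this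

end Cfsg.Agent.Lib.MinIndexSp
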