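import Cfsg.Agent.Lib.MinIndexSp.FourLine

/-!
# Minimal index in symplectic groups: the four-dimensional case
-/

set_option autoImplicit false
set_option linter.unusedSectionVars false
set_option linter.unusedSimpArgs false

namespace Cfsg.Agent.Lib.MinIndexSp

open LinearMap (BilinForm)

variable {F : Type*} [Field F] {V : Type*} [AddCommGroup V] [Module F V] {B : BilinForm F V}
variable (hB : Good B) {H : Subgroup (Iso B)} {a b : V}
variable [Finite F] [Finite V]
include hB

omit hB [Finite V] in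
theorem square_surjective (h2 : (2 : F) = 0) (z : F) : ∃ u : F, u * u = z := by
  have hinj : Function.Injective fun u : F => u * u := fun u u' e => by
    rcases mul_self_eq_mul_self_iff.1 e with h | h
    · exact h
    · rw [h, neg_eq_iff_add_eq_zero, ← two_mul, h2, zero_mul]
  exact (Finite.injective_iff_surjective.1 hinj) z

/-- In characteristic two a full `W` yields a point with `W` in a line. -/
theorem exists_turn (hq : 4 ≤ Nat.card F) (h2 : (2 : F) = 0) (hab : B a b = 1)
    (hS : Nat.card (comp B a b) = Nat.card F * Nat.card F) (ha : ¬ Root hB H a)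
    (hW : W0 hB H a b = ⊤) :
    ∃ (e b' : V), B e b' = 1 ∧ ∃ w : comp B e b', w ≠ 0 ∧
      ∀ x ∈ W0 hB H e b', form B e b' w x = 0 := by
  classical
  have hB' := form_good hB hab
  have hneg : ∀ x : V, -x = x := fun x => by
    rw [neg_eq_iff_add_eq_zero, ← two_smul F, h2, zero_smul]
  -- a vector with a nontrivial constant
  obtain ⟨e, z₁, hz₁, hR₁⟩ : ∃ (e : comp B a b) (z : F), z ∉ Z0 hB H a ∧
      R hB a (e : V) z ∈ H := by
    by_contra hcon
    push Not at hcon
    have hzero : ∀ x : comp B a b, R hB a (x : V) 0 ∈ H := fun x => by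
      obtain ⟨hxa, c, hc⟩ := (mem_W0 hB).1 (show x ∈ W0 hB H a b by rw [hW]; trivial)
      have hcz : c ∈ Z0 hB H a := by
        by_contra h
        exact hcon x c h hc
      have h := H.mul_mem hc (H.inv_mem (show T hB a c ∈ H from hcz))
      rwa [T_inv, ← R_zero_eq_T, R_mul hB hxa (map_zero _), add_zero, map_zero,
        LinearMap.zero_apply, add_zero, add_neg_cancel] at h
    obtain ⟨u₀, hu₀⟩ : ∃ u : comp B a b, u ≠ 0 := by
      by_contra h
      push Not at h
      have h1 : Nat.card (comp B a b) = 1 :=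
        Nat.card_eq_one_iff_unique.2 ⟨⟨fun x y => (h x).trans (h y).symm⟩, ⟨0⟩⟩
      have := Nat.mul_le_mul hq hq
      omega
    obtain ⟨v, hv⟩ := hB'.exists_one hu₀
    refine ha fun z => ?_
    have h := H.mul_mem (H.mul_mem (hzero v) (hzero (z • u₀)))
      (H.inv_mem (hzero (v + z • u₀)))
    rw [R_mul hB (mem_comp.1 v.2).1 (mem_comp.1 (z • u₀).2).1,
      R_inv hB (mem_comp.1 (v + z • u₀).2).1,
      R_mul hB (by simp [(mem_comp.1 v.2).1, (mem_comp.1 u₀.2).1])
        (by simp [(mem_comp.1 v.2).1, (mem_comp.1 u₀.2).1]), ← R_zero_eq_T] at *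
    convert h using 2
    · simp
    · have hv' : B (u₀ : V) (v : V) = 1 := hv
      simp [hB.alt, hv', hB.flip (u₀ : V) (v : V)]
  have he0 : e ≠ 0 := fun h => hz₁ (by
    rw [h, ZeroMemClass.coe_zero, R_zero_eq_T] at hR₁; exact hR₁)
  obtain ⟨v, hev⟩ := hB'.exists_one he0
  have h1 := card_comp_comp hB hab hS hev
  have hev' : B (e : V) (v : V) = 1 := hev
  have hea : B a (e : V) = 0 := (mem_comp.1 e.2).1
  have hva : B a (v : V) = 0 := (mem_comp.1 v.2).1
  refine ⟨e, v, hev', ?_⟩
  -- all of `Wt` at `e` is orthogonal to `a`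
  have horth : ∀ y ∈ Wt hB H (e : V), B a y = 0 := by
    intro y hy
    by_contra hs
    obtain ⟨hye, c', hc'⟩ := hy
    set s := B a y with hsdef
    set g := R hB (e : V) y c' with hg
    have hga : g.1 a = a + s • (e : V) := by
      rw [hg, R_apply hB hye, hea]; simp [hsdef]
    have key : ∀ d z : F, R hB a (d • (e : V)) z ∈ H → ∀ δ : F,
        R hB a ((δ * (s * s * z)) • (e : V)) (δ * δ * (s * s * z)) ∈ H := by
      intro d z hdz δ
      have hde : B a (d • (e : V)) = 0 := by simp [hea]
      have hga' : R hB (a + s • (e : V)) (d • (e : V)) z ∈ H := by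
        have h := H.mul_mem (H.mul_mem hc' hdz) (H.inv_mem hc')
        rwa [R_conj hB _ hde, hga, map_smul, show g.1 (e : V) = (e : V) from
          R_fix hB hye c'] at h
      have hea' : B (a + s • (e : V)) (d • (e : V)) = 0 := by simp [hea, hB.alt]
      have hsa : B (e : V) ((s * z) • a) = 0 := by simp [hB.symm0 hea]
      have hprod : R hB (a + s • (e : V)) (d • (e : V)) z
          = R hB a (d • (e : V)) z * R hB (e : V) ((s * z) • a) (s * s * z) := by
        refine Iso.ext' fun u => ?_
        rw [Iso.mul_apply, R_apply hB hea', R_apply hB hde, R_apply hB hsa]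
        simp only [map_add, map_smul, LinearMap.add_apply, LinearMap.smul_apply, smul_eq_mul,
          hB.alt, hea, hB.symm0 hea, mul_zero, add_zero, zero_add]
        match_scalars <;> first
          | ring1
          | linear_combination (s * d * B u (e : V)) * h2
          | linear_combination -(s * d * B u (e : V)) * h2
      have hl : R hB (e : V) ((s * z) • a) (s * s * z) ∈ H := by
        have h := H.mul_mem (H.inv_mem hdz) hga'
        rwa [hprod, inv_mul_cancel_left] at h
      set x : comp B a b := δ • v with hx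
      obtain ⟨hxa, c₀, hc₀⟩ := (mem_W0 hB).1 (show x ∈ W0 hB H a b by rw [hW]; trivial)
      have hxe : B (x : V) (e : V) = δ := by
        rw [hx, Submodule.coe_smul, map_smul, LinearMap.smul_apply, hB.flip (e : V) (v : V),
          hev', smul_eq_mul, mul_neg, mul_one, neg_eq_iff_add_eq_zero, ← two_mul, h2, zero_mul]
      have hla : (R hB (e : V) ((s * z) • a) (s * s * z)).1 a = a := by
        rw [R_apply hB hsa]; simp [hea, hB.alt]
      have hlx : (R hB (e : V) ((s * z) • a) (s * s * z)).1 (x : V)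
          = ((x : V) + (δ * (s * s * z)) • (e : V)) + (δ * (s * z)) • a := by
        rw [R_apply hB hsa, hxe, map_smul, hB.symm0 hxa]
        match_scalars <;> ring
      have h := H.mul_mem (H.inv_mem hc₀) (H.mul_mem (H.mul_mem hl hc₀) (H.inv_mem hl))
      rw [R_conj hB _ hxa, hla, hlx, R_shift hB (by simp [hxa, hea]), R_inv hB hxa,
        R_mul hB (by simp [hxa]) (by simp [hxa, hea])] at h
      convert h using 2
      · abel
      · simp only [map_add, map_smul, map_neg, LinearMap.add_apply, LinearMap.smul_apply,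
          LinearMap.neg_apply, smul_eq_mul, hB.alt, hB.flip (x : V) (e : V), hxe, mul_zero,
          zero_add, add_zero, mul_neg, neg_zero]
        linear_combination -(δ * (s * z)) * h2
    set t₀ := s * s * z₁ with ht₀
    have ht₀0 : t₀ ≠ 0 := mul_ne_zero (mul_ne_zero hs hs) fun h => hz₁ (by
      rw [h]; exact (Z0 hB H a).zero_mem)
    have hk₀ := key 1 z₁ (by rwa [one_smul])
    obtain ⟨δ, hδ0, hδ1⟩ : ∃ δ : F, δ ≠ 0 ∧ δ ≠ s⁻¹ := by
      have := Fintype.ofFinite F
      obtain ⟨t, -, ht⟩ := Finset.exists_mem_notMem_of_card_lt_card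
        (s := ({0, s⁻¹} : Finset F)) (t := Finset.univ)
        (by rw [Finset.card_univ, ← Nat.card_eq_fintype_card]
            exact lt_of_le_of_lt Finset.card_le_two (by omega))
      simp only [Finset.mem_insert, Finset.mem_singleton, not_or] at ht
      exact ⟨t, ht.1, ht.2⟩
    set t₁ := s * s * (δ * δ * t₀) with ht₁
    have hk₁ := key _ _ (hk₀ δ)
    have hne : t₁ - t₀ ≠ 0 := fun h => by
      have h3 : (s * δ) * (s * δ) = 1 * 1 := by
        refine mul_right_cancel₀ ht₀0 ?_
        linear_combination h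
      rcases mul_self_eq_mul_self_iff.1 h3 with h4 | h4
      · exact hδ1 (eq_inv_of_mul_eq_one_right h4)
      · exact hδ1 (eq_inv_of_mul_eq_one_right (h4.trans (by
          rw [neg_eq_iff_add_eq_zero, ← two_mul, h2, zero_mul])))
    have ht₁0 : t₁ ≠ 0 := mul_ne_zero (mul_ne_zero hs hs) (mul_ne_zero (mul_ne_zero hδ0 hδ0) ht₀0)
    refine ha fun w => ?_
    -- two parametrisations differ by every square
    obtain ⟨u, hu⟩ := square_surjective (F := F) h2 (w * t₀ * t₁ / (t₁ - t₀))
    have hA := hk₀ (u / t₀)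
    have hC := hk₁ (u / t₁)
    rw [← ht₁, div_mul_cancel₀ _ ht₁0] at hC
    rw [← ht₀, div_mul_cancel₀ _ ht₀0] at hA
    have hue : B a (u • (e : V)) = 0 := by simp [hea]
    have h := H.mul_mem hA (H.inv_mem hC)
    rw [R_inv hB hue, R_mul hB hue (by simp [hea]), add_neg_cancel, R_zero_eq_T] at h
    convert h using 2
    simp only [map_smul, map_neg, LinearMap.smul_apply, LinearMap.neg_apply, hB.alt, smul_zero,
      neg_zero, add_zero]
    field_simp at hu ⊢
    linear_combination -hu
  have hB'' := form_good hB hev'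
  set a₀ : comp B (e : V) (v : V) := pr hB hev' a with ha₀
  have ha₀v : (a₀ : V) = a := by
    rw [ha₀, coe_pr, hB.symm0 hea, hB.symm0 (show B (v : V) a = 0 from hB.symm0 hva)]
    simp [hva]
  refine ⟨a₀, fun h => ?_, fun x hx => ?_⟩
  · rw [h, ZeroMemClass.coe_zero] at ha₀v
    rw [← ha₀v, map_zero, LinearMap.zero_apply] at hab
    exact zero_ne_one hab
  · show B (a₀ : V) (x : V) = 0
    rw [ha₀v]
    exact horth _ ((mem_W0 hB).1 hx)

/-- `W` spans the complement. -/
theorem big_of_span (hq : 4 ≤ Nat.card F) (hab : B a b = 1)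
    (hS : Nat.card (comp B a b) = Nat.card F * Nat.card F) (ha : ¬ Root hB H a)
    (hspan : ∀ w : comp B a b, w ≠ 0 → ∃ x ∈ W0 hB H a b, form B a b w x ≠ 0)
    (hW : W0 hB H a b ≠ ⊤ ∨ (2 : F) ≠ 0) : Big H := by
  classical
  have hB' := form_good hB hab
  obtain ⟨w₁, hw₁, w₂, hw₂, hne⟩ : ∃ w₁ ∈ W0 hB H a b, ∃ w₂ ∈ W0 hB H a b,
      form B a b w₁ w₂ ≠ 0 := by
    obtain ⟨u₀, hu₀⟩ : ∃ u : comp B a b, u ≠ 0 := by
      by_contra h
      push Not at h
      have h1 : Nat.card (comp B a b) = 1 :=
        Nat.card_eq_one_iff_unique.2 ⟨⟨fun x y => (h x).trans (h y).symm⟩, ⟨0⟩⟩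
      have := Nat.mul_le_mul hq hq
      omega
    obtain ⟨x, hx, hxu⟩ := hspan u₀ hu₀
    have hx0 : x ≠ 0 := fun h => by simp [h] at hxu
    obtain ⟨y, hy, hxy⟩ := hspan x hx0
    exact ⟨x, hx, y, hy, hxy⟩
  obtain ⟨v, hw₁v⟩ := hB'.exists_one (v := w₁) fun h => by simp [h] at hne
  have h1 := card_comp_comp hB hab hS hw₁v
  have hMi := plane_index hB' hw₁v h1 (M hB H hab)
  have hMW : ∀ g ∈ M hB H hab, ∀ x ∈ W0 hB H a b, g.1 x ∈ W0 hB H a b :=
    fun g hg x hx => M_W0 hB hab hg hx
  set Mi := (M hB H hab).index with hMidef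
  have hWc : Nat.card (W0 hB H a b) = Nat.card (W hB H a b) := card_W0 hB
  obtain ⟨j, hj⟩ : ∃ j, Nat.card F = j + 4 := ⟨Nat.card F - 4, by omega⟩
  have hqq : Nat.card F * Nat.card F - 1 = (j + 3) * (j + 5) := by
    rw [hj, show (j + 4) * (j + 4) = (j + 3) * (j + 5) + 1 by ring, Nat.add_sub_cancel]
  have hsmall : ∀ k : ℕ, 2 ≤ k → k ≤ 3 →
      (∀ K : AddSubgroup (comp B a b), K < W0 hB H a b →
        k * Nat.card K ≤ Nat.card (W0 hB H a b)) →
      Nat.card (W0 hB H a b) ≤ Nat.card F → k * Nat.card (W0 hB H a b) ≤ Mi := by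
    intro k hk hk3 hK hle
    have hc := plane_span hB' hw₁ hw₂ hne hS.le (M hB H hab) hMW k hK
    set Wn := Nat.card (W0 hB H a b)
    by_contra hlt
    push Not at hlt
    have h3 : k * ((j + 3) * (j + 5) * (j + 4)) ≤ (k * (j + 4) - 1) * ((j + 4) * (j + 4)) := by
      calc k * ((j + 3) * (j + 5) * (j + 4)) = k * (Mi * Nat.card (M hB H hab)) := by
            rw [hMi, hqq, hj]
        _ = Mi * (k * Nat.card (M hB H hab)) := by ring
        _ ≤ Mi * (Wn * Wn) := Nat.mul_le_mul_left _ hc
        _ ≤ _ := by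
          rw [hj] at hle
          refine Nat.mul_le_mul ?_ (Nat.mul_le_mul hle hle)
          have := Nat.mul_le_mul_left k hle
          omega
    obtain ⟨n, hn⟩ : ∃ n, k * (j + 4) = n + 1 := ⟨k * (j + 4) - 1, by
      have := Nat.mul_le_mul hk (show 1 ≤ j + 4 by omega); omega⟩
    rw [hn, Nat.add_sub_cancel] at h3
    have e : (j + 4) * (j + 4) = (j + 3) * (j + 5) + 1 := by ring
    have h4 : (n + 1) * ((j + 3) * (j + 5)) ≤ n * ((j + 4) * (j + 4)) := by
      rw [← hn]
      calc k * (j + 4) * ((j + 3) * (j + 5)) = k * ((j + 3) * (j + 5) * (j + 4)) := by ring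
        _ ≤ _ := h3
    rw [e] at h4
    have h5 : (j + 3) * (j + 5) ≤ n := by
      have : (n + 1) * ((j + 3) * (j + 5)) = n * ((j + 3) * (j + 5)) + (j + 3) * (j + 5) := by ring
      have : n * ((j + 3) * (j + 5) + 1) = n * ((j + 3) * (j + 5)) + n := by ring
      omega
    have := Nat.mul_le_mul_right (j + 4) (show k ≤ j + 3 by omega)
    have : (j + 3) * (j + 5) = (j + 3) * (j + 4) + (j + 3) := by ring
    omega
  by_cases h2 : (2 : F) = 0
  · replace hW := hW.resolve_right (fun h => h h2)
    have h2le : ∀ {W' K : AddSubgroup (comp B a b)}, K < W' → 2 * Nat.card K ≤ Nat.card W' :=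
      fun h => (proper_card (F := F) h).1
    by_cases hle : Nat.card (W0 hB H a b) ≤ Nat.card F
    · refine crit hB hq hab hS ha (Or.inr ⟨h2, ?_⟩)
      rw [← hWc]
      exact hsmall 2 le_rfl (by norm_num) (fun K hK => h2le hK) hle
    push Not at hle
    -- the annihilator of `W` under a character
    obtain ⟨ψ, -, x₀, hx₀⟩ := exists_char (K := (⊥ : AddSubgroup F)) bot_ne_top
    let K : AddSubgroup F :=
      { carrier := {c | ψ c = 1}
        zero_mem' := ψ.map_zero_eq_one
        add_mem' := fun {c d} hc hd => by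
          show ψ (c + d) = 1
          rw [AddChar.map_add_eq_mul, show ψ c = 1 from hc, show ψ d = 1 from hd, mul_one]
        neg_mem' := fun {c} hc => by
          show ψ (-c) = 1
          rw [AddChar.map_neg_eq_inv, show ψ c = 1 from hc, inv_one] }
    have hK : K ≠ ⊤ := fun h => hx₀ (show x₀ ∈ K by rw [h]; trivial)
    let T0 : AddSubgroup (comp B a b) :=
      { carrier := {t | ∀ w ∈ W0 hB H a b, ψ (form B a b t w) = 1}
        zero_mem' := fun w _ => by
          rw [map_zero, LinearMap.zero_apply, AddChar.map_zero_eq_one]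
        add_mem' := fun {t t'} ht ht' w hw => by
          rw [map_add, LinearMap.add_apply, AddChar.map_add_eq_mul, ht w hw, ht' w hw, mul_one]
        neg_mem' := fun {t} ht w hw => by
          rw [map_neg, LinearMap.neg_apply, AddChar.map_neg_eq_inv, ht w hw, inv_one] }
    have hlow := annihilator_card (form B a b) ⊤ (W0 hB H a b) ψ T0 fun t _ ht => ht
    have hup := pairing (form B a b) ⊤ T0 (W0 hB H a b) (fun _ _ => trivial) (fun _ _ => trivial)
      K hK (fun t ht w hw => ht w hw) ⊥ (fun t _ h => by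
        by_contra h0
        obtain ⟨y, hy⟩ := hB'.exists_ne h0
        exact hy (h y trivial))
    have htop : Nat.card (⊤ : Submodule F (comp B a b)) = Nat.card F * Nat.card F := by
      rw [← hS]; exact Nat.card_congr (Equiv.Set.univ _)
    rw [htop] at hlow
    rw [htop, AddSubgroup.card_bot, mul_one] at hup
    have hMT : ∀ g ∈ M hB H hab, ∀ x ∈ T0, g.1 x ∈ T0 := by
      intro g hg t ht w hw
      rw [← Iso.apply_inv g w, Iso.map_form]
      exact ht _ (hMW _ ((M hB H hab).inv_mem hg) w hw)
    have hTq : Nat.card T0 + 1 ≤ Nat.card F := by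
      by_contra h
      push Not at h
      have := (Nat.mul_le_mul (Nat.lt_add_one_iff.1 h) (show Nat.card F + 1 ≤ _ from hle)).trans hup
      have : Nat.card F * (Nat.card F + 1) = Nat.card F * Nat.card F + Nat.card F := by ring
      omega
    have hTne : T0 ≠ ⊥ := fun h => by
      rw [h, AddSubgroup.card_bot, one_mul] at hlow
      refine hW (SetLike.ext' (Set.eq_of_subset_of_ncard_le (fun _ _ => trivial) ?_ (Set.toFinite _)))
      rw [AddSubgroup.coe_top, Set.ncard_univ, ← Nat.card_coe_set_eq, hS]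
      exact hlow
    by_cases hTspan : ∃ t₁ ∈ T0, ∃ t₂ ∈ T0, form B a b t₁ t₂ ≠ 0
    · obtain ⟨t₁, ht₁, t₂, ht₂, htne⟩ := hTspan
      have hc := plane_span hB' ht₁ ht₂ htne hS.le (M hB H hab) hMT 2 fun K hK => h2le hK
      refine crit hB hq hab hS ha (Or.inr ⟨h2, ?_⟩)
      rw [← hWc]
      set Wn := Nat.card (W0 hB H a b)
      set Tn := Nat.card T0
      have hT0 : 0 < Tn := Nat.card_pos
      refine Nat.le_of_mul_le_mul_right (c := Tn * Tn) ?_ (Nat.mul_pos hT0 hT0)
      calc 2 * Wn * (Tn * Tn) = 2 * (Tn * Wn) * Tn := by ring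
        _ ≤ 2 * (Nat.card F * Nat.card F) * Tn := by gcongr
        _ ≤ 2 * ((j + 3) * (j + 5) * Nat.card F) := by
            rw [hj] at hTq ⊢
            have : (j + 4) * Tn ≤ (j + 3) * (j + 5) :=
              (Nat.mul_le_mul_left _ (show Tn ≤ j + 3 by omega)).trans (by nlinarith)
            calc 2 * ((j + 4) * (j + 4)) * Tn = 2 * ((j + 4) * Tn * (j + 4)) := by ring
              _ ≤ _ := Nat.mul_le_mul_left _ (Nat.mul_le_mul_right _ this)
        _ = 2 * (Mi * Nat.card (M hB H hab)) := by rw [hMi, hqq]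
        _ = Mi * (2 * Nat.card (M hB H hab)) := by ring
        _ ≤ Mi * (Tn * Tn) := Nat.mul_le_mul_left _ hc
    · push Not at hTspan
      obtain ⟨⟨e, he⟩, he0⟩ := T0.ne_bot_iff_exists_ne_zero.1 hTne
      have he0' : e ≠ 0 := fun h => he0 (Subtype.ext h)
      obtain ⟨e', hee⟩ := hB'.exists_one he0'
      have h1' := card_comp_comp hB hab hS hee
      have hfix : ∀ g ∈ M hB H hab, form B a b e (g.1 e) = 0 := fun g hg =>
        hTspan e he _ (hMT g hg e he)
      let f : W0 hB H a b →+ F := ((form B a b e).toAddMonoidHom).comp (W0 hB H a b).subtype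
      let R' : AddSubgroup F := f.range
      have hker : Nat.card f.ker ≤ Nat.card F := by
        refine Nat.card_le_card_of_injective (fun x => form B a b ((x : W0 hB H a b) : comp B a b) e')
          fun x y h => Subtype.ext (Subtype.ext ?_)
        rw [plane_perp hB' hee h1' (show form B a b e ((x : W0 hB H a b) : comp B a b) = 0 from x.2),
          plane_perp hB' hee h1' (show form B a b e ((y : W0 hB H a b) : comp B a b) = 0 from y.2)]
        exact congrArg (· • e) h
      have hR'top : R' ≠ ⊤ := fun h => hx₀ (by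
        obtain ⟨x, hx⟩ : x₀ ∈ R' := by rw [h]; trivial
        rw [← hx]
        exact he _ x.2)
      have hR'bot : R' ≠ ⊥ := fun h => by
        obtain ⟨x, hx, hex⟩ := hspan e he0'
        have : form B a b e x ∈ R' := ⟨⟨x, hx⟩, rfl⟩
        rw [h, AddSubgroup.mem_bot] at this
        exact hex this
      let Sc : Set F := {c | c ≠ 0 ∧ ∀ r ∈ R', c * r ∈ R'}
      have hs := scalar_stab R' hR'bot hR'top Sc fun c hc => hc
      have hM' : Nat.card (M hB H hab) ≤ Nat.card Sc * Nat.card F := by
        refine (plane_line hB' hee h1' _ hfix Sc fun g hg => ?_).trans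
          (Nat.mul_le_mul_left _ (Nat.card_le_card_of_injective _ Subtype.val_injective))
        have h := plane_perp hB' hee h1' (hfix g hg)
        refine ⟨fun h0 => he0' (g.1.map_eq_zero_iff.1 (by rw [h, h0, zero_smul])), ?_⟩
        rintro r ⟨x, rfl⟩
        refine ⟨⟨_, hMW _ ((M hB H hab).inv_mem hg) _ x.2⟩, ?_⟩
        show form B a b e ((g⁻¹).1 (x : comp B a b)) = form B a b (g.1 e) e' * form B a b e x
        conv_lhs => rw [← Iso.map_form g, Iso.apply_inv, h, map_smul, LinearMap.smul_apply]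
        rfl
      have hScpos : 0 < Nat.card Sc := by
        have : Nonempty Sc := ⟨⟨1, one_ne_zero, fun r hr => by rwa [one_mul]⟩⟩
        exact Nat.card_pos
      have h4 : (j + 5) * (j + 3) ≤ Mi * Nat.card Sc := by
        refine Nat.le_of_mul_le_mul_right (c := Nat.card F) ?_ (by omega)
        rw [mul_comm (j + 5), ← hqq, ← hMi, mul_assoc]
        exact Nat.mul_le_mul_left _ hM'
      have h5 : (j + 5) * Nat.card R' + 1 ≤ Mi := by
        refine Nat.succ_le_of_lt (Nat.lt_of_mul_lt_mul_right (a := Nat.card Sc) ?_)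
        rw [mul_assoc]
        refine lt_of_lt_of_le ?_ h4
        exact Nat.mul_lt_mul_of_pos_left (by omega) (by omega)
      have hWR : Nat.card (W hB H a b) ≤ Nat.card R' * Nat.card F := by
        rw [← hWc, ← f.ker.index_mul_card, AddSubgroup.index_ker]
        exact Nat.mul_le_mul_left _ hker
      refine crit_even hB hab hS ha h2 ?_
      rw [← hMidef]
      have hR'q : Nat.card R' + 1 ≤ Nat.card F := by
        have := Nat.le_mul_of_pos_right (Nat.card R') hScpos
        omega
      refine (Nat.mul_le_mul_left _ hWR).trans (le_trans ?_ (Nat.mul_le_mul_right _ h5))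
      set r := Nat.card R'
      rw [hj] at hR'q ⊢
      have h7 : (j + 5) * r ≤ (j + 4) * (j + 4) :=
        (Nat.mul_le_mul_left _ (show r ≤ j + 3 by omega)).trans (by nlinarith)
      calc (j + 4 + 1) * ((j + 4) * (j + 4) + 1) * (r * (j + 4))
          = ((j + 5) * r * ((j + 4) * (j + 4)) + (j + 5) * r) * (j + 4) := by ring
        _ ≤ ((j + 5) * r * ((j + 4) * (j + 4)) + (j + 4) * (j + 4)) * (j + 4) := by gcongr
        _ = _ := by ring
  · refine crit hB hq hab hS ha (Or.inl ?_)
    rw [← hWc]
    refine hsmall 3 (by norm_num) le_rfl (fun K hK => (proper_card (F := F) hK).2 h2) ?_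
    have h := W_sq_le hB hab ha h2
    rw [hS, ← hWc] at h
    exact Nat.mul_self_le_mul_self_iff.1 h

/-- The four-dimensional case. -/
theorem four (hH : H ≠ ⊤) (hq : 3 ≤ Nat.card F) (hab : B a b = 1)
    (hS : Nat.card (comp B a b) = Nat.card F * Nat.card F) :
    (4 ≤ Nat.card F → Big H) ∧ (Nat.card F = 3 → 27 ≤ H.index) := by
  refine ⟨fun h4 => ?_, fun h3 => ?_⟩
  · by_cases hr : ∃ v : V, v ≠ 0 ∧ Root hB H v
    · obtain ⟨v, hv, hvr⟩ := hr
      exact big_of_root hB hH hq hab hS hv hvr
    push Not at hr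
    have ha : ¬ Root hB H a := hr a fun h => by simp [h] at hab
    by_cases hline : ∃ w : comp B a b, w ≠ 0 ∧ ∀ x ∈ W0 hB H a b, form B a b w x = 0
    · obtain ⟨w, hw, hl⟩ := hline
      exact big_of_line hB hH h4 hab hS hr hw hl
    push Not at hline
    by_cases hW : W0 hB H a b = ⊤ ∧ (2 : F) = 0
    · obtain ⟨e, b', heb, w, hw, hl⟩ := exists_turn hB h4 hW.2 hab hS ha hW.1
      exact big_of_line hB hH h4 heb ((card_comp_eq hB heb hab).trans hS) hr hw hl
    · exact big_of_span hB h4 hab hS ha hline (by tauto)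
  · obtain ⟨c, d, hcd, hc⟩ := exists_nonroot hB hH
    exact weak_three hB h3 hcd ((card_comp_eq hB hcd hab).trans hS) hc

end Cfsg.Agent.Lib.MinIndexSp
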