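import Cfsg.Agent.Lib.MinIndexSp.Sizes

/-!
# Minimal index in symplectic groups: the isometry group of a plane
-/

set_option autoImplicit false
set_option linter.unusedSectionVars false
set_option linter.unusedSimpArgs false

namespace Cfsg.Agent.Lib.MinIndexSp

open LinearMap (BilinForm)

variable {F : Type*} [Field F] {V : Type*} [AddCommGroup V] [Module F V] {B : BilinForm F V}
variable (hB : Good B) {w v : V}
include hB

theorem plane_coord (hwv : B w v = 1) (h1 : Nat.card (comp B w v) = 1) (x : V) :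
    x = B w x • v + B x v • w := by
  have h := (Nat.card_eq_one_iff_unique.1 h1).1.elim (pr hB hwv x) 0
  have h' := congrArg Subtype.val h
  rw [coe_pr, ZeroMemClass.coe_zero] at h'
  rw [← sub_eq_zero, ← h']
  abel

theorem plane_perp (hwv : B w v = 1) (h1 : Nat.card (comp B w v) = 1) {x : V} (hx : B w x = 0) :
    x = B x v • w := by
  conv_lhs => rw [plane_coord hB hwv h1 x, hx, zero_smul, zero_add]

variable [Finite F] [Finite V]

/-- The order of the isometry group of a plane. -/
theorem plane_card (hwv : B w v = 1) (h1 : Nat.card (comp B w v) = 1) :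
    Nat.card (Iso B) = (Nat.card F * Nat.card F - 1) * Nat.card F := by
  have hw : w ≠ 0 := fun h => by simp [h] at hwv
  have hle : ∀ g : Iso B, g.1 w = w → g ∈ Rad hB w := fun g hg => ⟨hg, fun x hx =>
    ⟨B (g.1 x) v - B x v, by
      have h2 := plane_perp hB hwv h1 (fix_perp hB hg hx)
      have h3 := plane_perp hB hwv h1 hx
      rw [sub_smul, ← h2, ← h3, add_sub_cancel]⟩⟩
  have e : Fix (B := B) w = Rad hB w :=
    le_antisymm (fun g hg => hle g hg) fun g hg => hg.1
  have := (Fix (B := B) w).card_mul_index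
  rw [e, card_Rad hB hwv, h1, one_mul, ← e, index_Fix hB hw, card_eq_comp hB hwv, h1, one_mul]
    at this
  rw [← this, mul_comm]

theorem plane_index (hwv : B w v = 1) (h1 : Nat.card (comp B w v) = 1) (M : Subgroup (Iso B)) :
    M.index * Nat.card M = (Nat.card F * Nat.card F - 1) * Nat.card F := by
  rw [M.index_mul_card, plane_card hB hwv h1]

/-- A group fixing the line of `w`. -/
theorem plane_line (hwv : B w v = 1) (h1 : Nat.card (comp B w v) = 1) (M : Subgroup (Iso B))
    (hline : ∀ g ∈ M, B w (g.1 w) = 0) (Sc : Set F)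
    (hSc : ∀ g ∈ M, B (g.1 w) v ∈ Sc) :
    Nat.card M ≤ Nat.card Sc * Nat.card (Z0 hB M w) := by
  have hw : w ≠ 0 := fun h => by simp [h] at hwv
  have hpt : M ≤ Pt w := by
    intro g hg
    have h := plane_perp hB hwv h1 (hline g hg)
    have hne : B (g.1 w) v ≠ 0 := fun e => hw (g.1.map_eq_zero_iff.1 (by rw [h, e, zero_smul]))
    exact ⟨Units.mk0 _ hne, h⟩
  let f : M →* Fˣ := (ptScalar hwv).comp (Subgroup.inclusion hpt)
  have h2 := f.ker.index_mul_card
  rw [Subgroup.index_ker] at h2
  rw [← h2]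
  refine Nat.mul_le_mul (Nat.card_le_card_of_injective (fun t => ⟨((t : Fˣ) : F), ?_⟩)
    fun t t' e => Subtype.ext (Units.ext (congrArg Subtype.val e :))) ?_
  · obtain ⟨g, hg⟩ := t.2
    rw [← hg]
    have h3 := ptScalar_spec hwv (Subgroup.inclusion hpt g)
    have h4 : ((ptScalar hwv (Subgroup.inclusion hpt g) : Fˣ) : F) = B ((g : Iso B).1 w) v := by
      rw [show (g : Iso B).1 w = _ from h3, map_smul, LinearMap.smul_apply, hwv, smul_eq_mul,
        mul_one]
    show ((ptScalar hwv (Subgroup.inclusion hpt g) : Fˣ) : F) ∈ Sc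
    rw [h4]
    exact hSc _ g.2
  · have key : ∀ g : f.ker, ∃ c : F, ((g : M) : Iso B) = T hB w c := by
      intro g
      have hg : ((g : M) : Iso B).1 w = w := by
        have h3 := ptScalar_spec hwv (Subgroup.inclusion hpt (g : M))
        rw [show ptScalar hwv (Subgroup.inclusion hpt (g : M)) = 1 from g.2] at h3
        simpa using h3
      refine ⟨-(B (((g : M) : Iso B).1 v) v), Iso.ext' fun x => ?_⟩
      have h3 : B w (((g : M) : Iso B).1 v) = 1 := by
        rw [← hwv]; conv_rhs => rw [← Iso.map_form ((g : M) : Iso B), hg]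
      have h4 := plane_coord hB hwv h1 (((g : M) : Iso B).1 v)
      rw [h3, one_smul] at h4
      rw [T_apply, hB.flip w x]
      conv_lhs => rw [plane_coord hB hwv h1 x, map_add, map_smul, map_smul, hg, h4]
      conv_rhs => lhs; rw [plane_coord hB hwv h1 x]
      module
    choose c hc using key
    refine Nat.card_le_card_of_injective (fun g => (⟨c g, ?_⟩ : Z0 hB M w)) fun g g' e => ?_
    · show T hB w (c g) ∈ M
      rw [← hc]; exact (g : M).2
    · refine Subtype.ext (Subtype.ext ?_)
      rw [hc, hc, show c g = c g' from congrArg Subtype.val e]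

/-- A group stabilising a spanning additive subgroup. -/
theorem plane_span {w₁ w₂ : V} {W : AddSubgroup V} (h1' : w₁ ∈ W) (h2' : w₂ ∈ W)
    (hne : B w₁ w₂ ≠ 0) (h1 : Nat.card V ≤ Nat.card F * Nat.card F) (M : Subgroup (Iso B))
    (hM : ∀ g ∈ M, ∀ x ∈ W, g.1 x ∈ W) (k : ℕ)
    (hk : ∀ K : AddSubgroup V, K < W → k * Nat.card K ≤ Nat.card W) :
    k * Nat.card M ≤ Nat.card W * Nat.card W := by
  classical
  have := Fintype.ofFinite W
  have hcoord : ∀ x : V, ∃ s t : F, x = s • w₁ + t • w₂ := by
    have hinj : Function.Injective fun p : F × F => p.1 • w₁ + p.2 • w₂ := by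
      intro p p' e
      have e1 := congrArg (fun x => B x w₂) e
      have e2 := congrArg (fun x => B w₁ x) e
      simp only [map_add, map_smul, LinearMap.add_apply, LinearMap.smul_apply, smul_eq_mul,
        hB.alt, mul_zero, add_zero, zero_add] at e1 e2
      exact Prod.ext (mul_right_cancel₀ hne e1) (mul_right_cancel₀ hne e2)
    have hbij := hinj.bijective_of_nat_card_le (by rwa [Nat.card_prod])
    intro x
    obtain ⟨p, hp⟩ := hbij.2 x
    exact ⟨p.1, p.2, hp.symm⟩
  have hle : Nat.card M ≤ Nat.card (Σ x : W, {y : W // B (x : V) y = B w₁ w₂}) := by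
    refine Nat.card_le_card_of_injective (fun g => ⟨⟨_, hM _ g.2 _ h1'⟩, ⟨_, hM _ g.2 _ h2'⟩,
      Iso.map_form _ _ _⟩) fun g g' e => Subtype.ext (Iso.ext' fun x => ?_)
    have e1 := congrArg (fun p : (Σ x : W, {y : W // B (x : V) y = B w₁ w₂}) => (p.1 : V)) e
    have e2 := congrArg (fun p : (Σ x : W, {y : W // B (x : V) y = B w₁ w₂}) => ((p.2.1 : W) : V)) e
    obtain ⟨s, t, rfl⟩ := hcoord x
    simp only at e1 e2
    simp only [map_add, map_smul, e1, e2]
  have hfib : ∀ x : W, k * Nat.card {y : W // B (x : V) y = B w₁ w₂} ≤ Nat.card W := by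
    intro x
    rcases isEmpty_or_nonempty {y : W // B (x : V) y = B w₁ w₂} with h | ⟨⟨y₀, hy₀⟩⟩
    · simp
    let K : AddSubgroup V := W ⊓ (LinearMap.ker (B (x : V))).toAddSubgroup
    have hK : K < W := lt_of_le_of_ne inf_le_left fun e => hne (by
      have : (y₀ : V) ∈ K := by rw [e]; exact y₀.2
      rw [← hy₀]; exact this.2)
    refine le_trans (Nat.mul_le_mul_left k ?_) (hk K hK)
    refine Nat.card_le_card_of_injective (fun y => (⟨((y.1 : W) : V) - (y₀ : V),
      W.sub_mem y.1.2 y₀.2, ?_⟩ : K)) fun y y' e => ?_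
    · show B (x : V) (((y.1 : W) : V) - (y₀ : V)) = 0
      rw [map_sub, y.2, hy₀, sub_self]
    · exact Subtype.ext (Subtype.ext (sub_left_injective (congrArg Subtype.val e :)))
  refine (Nat.mul_le_mul_left k hle).trans ?_
  rw [Nat.card_sigma, Finset.mul_sum]
  refine (Finset.sum_le_card_nsmul _ _ _ fun x _ => hfib x).trans (le_of_eq ?_)
  rw [Finset.card_univ, ← Nat.card_eq_fintype_card, smul_eq_mul]

end Cfsg.Agent.Lib.MinIndexSp
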