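import Cfsg.Agent.Lib.MinIndexSp.Sizes

/-!
# Minimal index in symplectic groups: four-dimensional case with a root group
-/

set_option autoImplicit false
set_option linter.unusedSectionVars false
set_option linter.unusedSimpArgs false

namespace Cfsg.Agent.Lib.MinIndexSp

open LinearMap (BilinForm)

variable {F : Type*} [Field F] {V : Type*} [AddCommGroup V] [Module F V] {B : BilinForm F V}
variable (hB : Good B) {H : Subgroup (Iso B)}
variable [Finite F] [Finite V]
include hB

theorem card_comp_eq {a b c d : V} (hab : B a b = 1) (hcd : B c d = 1) :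
    Nat.card (comp B a b) = Nat.card (comp B c d) :=
  Nat.eq_of_mul_eq_mul_right (Nat.mul_pos Nat.card_pos Nat.card_pos)
    ((card_eq_comp hB hab).symm.trans (card_eq_comp hB hcd))

theorem card_comp_comp {a b : V} (hab : B a b = 1)
    (hS : Nat.card (comp B a b) = Nat.card F * Nat.card F) {w v : comp B a b}
    (hwv : form B a b w v = 1) : Nat.card (comp (form B a b) w v) = 1 := by
  refine Nat.eq_of_mul_eq_mul_right (Nat.mul_pos (Nat.card_pos (α := F)) (Nat.card_pos (α := F))) ?_
  rw [← card_eq_comp (form_good hB hab) hwv, hS, one_mul]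

/-- In dimension four a subgroup with a root group is big. -/
theorem big_of_root (hH : H ≠ ⊤) (hq : 3 ≤ Nat.card F) {a b : V} (hab : B a b = 1)
    (hS : Nat.card (comp B a b) = Nat.card F * Nat.card F) {e : V} (he : e ≠ 0)
    (hre : Root hB H e) : Big H := by
  have hSall : ∀ {c d : V}, B c d = 1 → Nat.card (comp B c d) = Nat.card F * Nat.card F :=
    fun hcd => (card_comp_eq hB hcd hab).trans hS
  by_cases horth : ∀ u v, Root hB H u → Root hB H v → B u v = 0
  · by_cases hline : ∀ w, Root hB H w → ∃ s : F, w = s • e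
    · refine big_of_le_Pt hB he fun g hg => ?_
      obtain ⟨s, hs⟩ := hline _ (hre.map hB hg)
      have hs0 : s ≠ 0 := fun h => he (g.1.map_eq_zero_iff.1 (by rw [hs, h, zero_smul]))
      exact ⟨Units.mk0 s hs0, hs⟩
    push Not at hline
    obtain ⟨f, hrf, hf⟩ := hline
    have hef : B e f = 0 := horth e f hre hrf
    obtain ⟨e', hee⟩ := hB.exists_one he
    have hfb : f = ((pr hB hee f : comp B e e') : V) + B f e' • e := by
      rw [coe_pr, hef]; module
    set f₀ : comp B e e' := pr hB hee f with hf₀
    have hf₀0 : f₀ ≠ 0 := fun h => hf _ (by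
      conv_lhs => rw [hfb, h, ZeroMemClass.coe_zero, zero_add])
    have hB' := form_good hB hee
    obtain ⟨h₀, hh₀⟩ := hB'.exists_one hf₀0
    have h1 := card_comp_comp hB hee (hSall hee) hh₀
    -- roots lie in a plane
    have hperp : ∀ w, B e w = 0 → B f w = 0 → ∃ s t : F, w = s • e + t • f := by
      intro w hew hfw
      have hw : w = ((pr hB hee w : comp B e e') : V) + B w e' • e := by
        rw [coe_pr, hew]; module
      have h2 : form B e e' f₀ (pr hB hee w) = 0 := by
        show B (f₀ : V) (pr hB hee w : V) = 0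
        rw [hw, hfb] at hfw
        simpa [hB.alt, (mem_comp.1 (pr hB hee w).2).1, hB.symm0 (mem_comp.1 f₀.2).1] using hfw
      have h3 : ∃ t : F, pr hB hee w = t • f₀ := by
        have h := (Nat.card_eq_one_iff_unique.1 h1).1.elim (pr hB' hh₀ (pr hB hee w)) 0
        have h' := congrArg Subtype.val h
        rw [coe_pr, ZeroMemClass.coe_zero, h2, zero_smul, sub_zero, sub_eq_zero] at h'
        exact ⟨_, h'⟩
      obtain ⟨t, ht⟩ := h3
      refine ⟨B w e' - t * B f e', t, ?_⟩
      generalize B f e' = α at hfb ⊢
      generalize B w e' = β at hw ⊢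
      rw [hw, hfb, ht, Submodule.coe_smul]
      module
    let rep : Option F → comp B e e' := fun i => i.elim h₀ fun s => f₀ + s • h₀
    have hrep0 : ∀ i, rep i ≠ 0 := by
      rintro (_ | s) h
      · change h₀ = 0 at h
        rw [h, map_zero] at hh₀
        exact zero_ne_one hh₀
      · change f₀ + s • h₀ = 0 at h
        have h2 := congrArg (fun x => form B e e' x h₀) h
        simp only [map_add, LinearMap.add_apply, hh₀, map_smul, LinearMap.smul_apply, hB'.alt,
          smul_zero, add_zero, map_zero, LinearMap.zero_apply] at h2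
        exact one_ne_zero h2
    have hrep : ∀ i j (β : F), rep j = β • rep i → i = j := by
      intro i j β h
      have h2 := congrArg (fun x => form B e e' x h₀) h
      have h3 := congrArg (fun x => form B e e' f₀ x) h
      rcases i with _ | s <;> rcases j with _ | t <;>
        simp only [rep, Option.elim_none, Option.elim_some, map_add, map_smul,
          LinearMap.add_apply, LinearMap.smul_apply, hh₀, hB'.alt, smul_eq_mul, mul_zero,
          mul_one, add_zero, zero_add] at h2 h3
      · rfl
      · exact absurd h2 one_ne_zero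
      · rw [← h2, zero_mul] at h3
        exact absurd h3 one_ne_zero
      · rw [← h2, one_mul] at h3
        rw [h3]
    choose γ hγ using fun i => exists_map hB' hf₀0 (hrep0 i)
    let fam : Option F → Fix (B := B) e := fun i =>
      ⟨ext hB hee (γ i) 1, show _ = e by rw [ext_apply_a]; simp⟩
    have hfam : ∀ i, (fam i : Iso B).1 f = (rep i : V) + B f e' • e := fun i => by
      conv_lhs => rw [hfb]
      rw [map_add, map_smul, show (fam i : Iso B).1 e = e from (fam i).2]
      show (ext hB hee (γ i) 1).1 (f₀ : V) + _ = _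
      rw [ext_apply_comp, hγ]
    have hcount := index_mul_ge hB he H ((Submodule.span F {e, f} : Set V) \ {0}) ?_ fam ?_
    · have hX : Nat.card ↥((Submodule.span F {e, f} : Set V) \ {0})
          ≤ Nat.card F * Nat.card F - 1 := by
        rw [Nat.card_coe_set_eq, Set.ncard_sdiff (by simp), Set.ncard_singleton]
        refine Nat.sub_le_sub_right ?_ 1
        rw [← Nat.card_prod, ← Nat.card_coe_set_eq]
        refine Nat.card_le_card_of_surjective (fun p : F × F => (⟨p.1 • e + p.2 • f,
          Submodule.mem_span_pair.2 ⟨_, _, rfl⟩⟩ : ↥((Submodule.span F {e, f} : Submodule F V) : Set V))) ?_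
        rintro ⟨l, hl⟩
        obtain ⟨s, t, rfl⟩ := Submodule.mem_span_pair.1 hl
        exact ⟨(s, t), rfl⟩
      rw [Finite.card_option] at hcount
      unfold Big
      obtain ⟨k, hk⟩ : ∃ k, Nat.card F = k + 1 := ⟨Nat.card F - 1, by omega⟩
      rw [hk] at hcount hX
      rw [hk, show k + 1 - 1 = k by omega]
      have e1 : (k + 1) * (k + 1) - 1 = k * (k + 2) := by
        rw [show (k + 1) * (k + 1) = k * (k + 2) + 1 by ring, Nat.add_sub_cancel]
      rw [e1] at hX
      refine Nat.le_of_mul_le_mul_right (c := k + 2) ?_ (Nat.succ_pos _)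
      calc (Nat.card V - 1) * (k + 2) ≤ H.index * Nat.card _ := hcount
        _ ≤ H.index * (k * (k + 2)) := Nat.mul_le_mul_left _ hX
        _ = k * H.index * (k + 2) := by ring
    · intro g hg
      have h := hre.map hB hg
      obtain ⟨s, t, hst⟩ := hperp _ (horth _ _ hre h) (horth _ _ hrf h)
      exact ⟨Submodule.mem_span_pair.2 ⟨s, t, hst.symm⟩, fun h0 => he (g.1.map_eq_zero_iff.1 h0)⟩
    · intro i j hij
      have h := hrf.map hB hij
      obtain ⟨s, t, hst⟩ := hperp _ (horth _ _ hre h) (horth _ _ hrf h)
      have h2 := congrArg (fam i : Iso B).1 hst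
      rw [Iso.mul_apply, Iso.apply_inv, map_add, map_smul, map_smul,
        show (fam i : Iso B).1 e = e from (fam i).2, hfam, hfam] at h2
      have h3 := congrArg (pr hB hee) h2
      simp only [map_add, map_smul, pr_a, smul_zero, add_zero, zero_add, pr_comp] at h3
      exact hrep i j t h3
  · push Not at horth
    obtain ⟨u, v, hu, hv, huv⟩ := horth
    set v' : V := (B u v)⁻¹ • v with hv'
    have huv' : B u v' = 1 := by rw [hv', map_smul, smul_eq_mul, inv_mul_cancel₀ huv]
    have hv'r : Root hB H v' := hv.smul hB _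
    have hall : ∀ s t : F, Root hB H (s • u + t • v') := by
      intro s t
      by_cases hs : s = 0
      · rw [hs, zero_smul, zero_add]; exact hv'r.smul hB t
      · rw [show s • u + t • v' = s • (u + (s⁻¹ * t) • v') by
          rw [smul_add, ← mul_smul s (s⁻¹ * t) v', ← mul_assoc, mul_inv_cancel₀ hs, one_mul]]
        exact (hu.add hB hv'r (by rw [huv']; exact one_ne_zero) _).smul hB s
    obtain ⟨w, hw⟩ : ∃ w : comp B u v', w ≠ 0 := by
      by_contra h
      push Not at h
      have h1 : Nat.card (comp B u v') = 1 :=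
        Nat.card_eq_one_iff_unique.2 ⟨⟨fun x y => (h x).trans (h y).symm⟩, ⟨0⟩⟩
      have h2 := hSall huv'
      have h3 : 3 * 3 ≤ Nat.card F * Nat.card F := Nat.mul_le_mul hq hq
      omega
    obtain ⟨z, hz⟩ := (form_good hB huv').exists_one hw
    have hwz : B (w : V) (z : V) = 1 := hz
    have hu' : ∀ x : comp B u v', B (x : V) u = 0 ∧ B (x : V) v' = 0 := fun x =>
      ⟨hB.symm0 (mem_comp.1 x.2).1, hB.symm0 (mem_comp.1 x.2).2⟩
    let φ : F × F → comp B (w : V) (z : V) := fun p => ⟨p.1 • u + p.2 • v', mem_comp.2
      ⟨by simp [(hu' w).1, (hu' w).2], by simp [(hu' z).1, (hu' z).2]⟩⟩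
    have hinj : Function.Injective φ := by
      intro p p' e
      have e' := congrArg Subtype.val e
      have e1 := congrArg (fun x => B x v') e'
      have e2 := congrArg (fun x => B u x) e'
      simp only [φ, map_add, map_smul, LinearMap.add_apply, LinearMap.smul_apply, smul_eq_mul,
        hB.alt, huv', mul_zero, mul_one, add_zero, zero_add] at e1 e2
      exact Prod.ext e1 e2
    have hbij := hinj.bijective_of_nat_card_le (by rw [Nat.card_prod, hSall hwz])
    refine big_of_comp_roots hB hH hwz hq ?_ fun x hx => ?_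
    · intro h
      have h1 : Nat.card (comp B (w : V) (z : V)) = 1 := by rw [h]; exact Nat.card_unique
      have h2 := hSall hwz
      have h3 : 3 * 3 ≤ Nat.card F * Nat.card F := Nat.mul_le_mul hq hq
      omega
    · obtain ⟨⟨s, t⟩, hst⟩ := hbij.2 ⟨x, hx⟩
      have : x = s • u + t • v' := (congrArg Subtype.val hst).symm
      rw [this]
      exact hall s t

end Cfsg.Agent.Lib.MinIndexSp
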