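import Cfsg.Agent.Lib.MinIndexSp.Step
import Cfsg.Agent.Lib.MinIndexSp.Plane
import Cfsg.Agent.Lib.MinIndexSp.Roots

/-!
# Minimal index in symplectic groups: four-dimensional case, `W` inside a line
-/

set_option autoImplicit false
set_option linter.unusedSectionVars false
set_option linter.unusedSimpArgs false

namespace Cfsg.Agent.Lib.MinIndexSp

open LinearMap (BilinForm)

/-- Counting with two homomorphisms on one group. -/
theorem card_two_homs {A P Q : Type*} [Group A] [Group P] [Group Q] (f : A →* P) (g : A →* Q) :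
    Nat.card f.range * Nat.card (f.ker.map g) = (g.ker ⊓ f.ker).index := by
  have e : f.ker.map g = (g.comp f.ker.subtype).range := by
    rw [MonoidHom.range_comp, Subgroup.range_subtype]
  have e2 : (g.comp f.ker.subtype).ker = g.ker.subgroupOf f.ker := rfl
  rw [e, ← Subgroup.index_ker, ← Subgroup.index_ker, e2, mul_comm]
  show g.ker.relIndex f.ker * _ = _
  rw [← Subgroup.inf_relIndex_right, Subgroup.relIndex_mul_index inf_le_right]

variable {F : Type*} [Field F] {V : Type*} [AddCommGroup V] [Module F V] {B : BilinForm F V}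
variable (hB : Good B) {H : Subgroup (Iso B)} {a b : V}
include hB

theorem R_scale {x : V} (hx : B a x = 0) (t c : F) :
    R hB (t • a) x c = R hB a (t • x) (t * t * c) := by
  refine Iso.ext' fun v => ?_
  rw [R_apply hB (by rw [map_smul, LinearMap.smul_apply, hx, smul_zero]),
    R_apply hB (by rw [map_smul, hx, smul_zero])]
  simp only [map_smul, LinearMap.smul_apply, smul_eq_mul]
  module

variable [Finite F] [Finite V]

/-- The weak bound over three elements. -/
theorem weak_three (hq : Nat.card F = 3) (hab : B a b = 1)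
    (hS : Nat.card (comp B a b) = Nat.card F * Nat.card F) (ha : ¬ Root hB H a) :
    27 ≤ H.index := by
  have h2 : (2 : F) ≠ 0 := by
    intro h
    have : CharP F 2 := CharTwo.of_one_ne_zero_of_two_eq_zero one_ne_zero h
    have := Fintype.ofFinite F
    obtain ⟨n, hn⟩ := FiniteField.card F 2
    rw [Nat.card_eq_fintype_card, hn.2] at hq
    have : 2 ∣ 2 ^ (n : ℕ) := dvd_pow_self 2 n.pos.ne'
    omega
  have hidx := index_ge hB H hab
  have hW := W_sq_le hB hab ha h2
  have hZ : Nat.card (Z0 hB H a) = 1 := by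
    have h := (Z0_card hB (H := H) ha).1
    have h0 : 0 < Nat.card (Z0 hB H a) := Nat.card_pos
    omega
  have hG : 0 < (D H hab).index := Nat.pos_of_ne_zero Subgroup.index_ne_zero_of_finite
  have hW3 : Nat.card (W hB H a b) ≤ (M hB H hab).index := by
    have hM0 : 0 < (M hB H hab).index := Nat.pos_of_ne_zero Subgroup.index_ne_zero_of_finite
    by_cases hM1 : (M hB H hab).index = 1
    · rw [← card_W0 hB, W0_eq_bot hB hab hq.ge ha (Subgroup.index_eq_one.1 hM1), hM1,
        AddSubgroup.card_bot]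
    · have h3 := M_index_ne_two hB hab (H := H) h2
      rw [hS, hq] at hW
      have : Nat.card (W hB H a b) ≤ 3 := Nat.mul_self_le_mul_self_iff.1 hW
      omega
  rw [hZ, mul_one, hS, hq] at hidx
  refine Nat.le_of_mul_le_mul_right ?_ (Nat.card_pos (α := W hB H a b))
  calc 27 * Nat.card (W hB H a b) ≤ 27 * (M hB H hab).index := Nat.mul_le_mul_left _ hW3
    _ = 1 * (M hB H hab).index * (3 * 3 * 3) := by ring
    _ ≤ (D H hab).index * (M hB H hab).index * (3 * 3 * 3) := by gcongr; omega
    _ ≤ _ := hidx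

theorem card_four (hab : B a b = 1) (hS : Nat.card (comp B a b) = Nat.card F * Nat.card F) :
    Nat.card V - 1 = (Nat.card F - 1) * ((Nat.card F + 1) * (Nat.card F * Nat.card F + 1)) := by
  rw [card_eq_comp hB hab, hS]
  obtain ⟨k, hk⟩ : ∃ k, Nat.card F = k + 1 := ⟨Nat.card F - 1, by
    have := Finite.one_lt_card (α := F); omega⟩
  rw [hk, show k + 1 - 1 = k by omega]
  have : (k + 1) * (k + 1) * ((k + 1) * (k + 1))
      = k * ((k + 1 + 1) * ((k + 1) * (k + 1) + 1)) + 1 := by ring
  rw [this, Nat.add_sub_cancel]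

/-- The numerical criterion in characteristic two. -/
theorem crit_even (hab : B a b = 1) (hS : Nat.card (comp B a b) = Nat.card F * Nat.card F)
    (ha : ¬ Root hB H a) (h2 : (2 : F) = 0)
    (h : (Nat.card F + 1) * (Nat.card F * Nat.card F + 1) * Nat.card (W hB H a b)
      ≤ (M hB H hab).index * (Nat.card F * Nat.card F * Nat.card F)) : Big H := by
  have hidx := index_ge hB H hab
  have hZ := (D_index hB (H := H) hab ha).2.1 h2
  rw [hS] at hidx
  unfold Big
  rw [card_four hB hab hS]
  refine Nat.mul_le_mul_left _ ?_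
  refine Nat.le_of_mul_le_mul_right ?_ (Nat.mul_pos (Nat.card_pos (α := W hB H a b))
    (Nat.card_pos (α := Z0 hB H a)))
  refine le_trans ?_ hidx
  calc _ = (Nat.card F + 1) * (Nat.card F * Nat.card F + 1) * Nat.card (W hB H a b)
        * Nat.card (Z0 hB H a) := by ring
    _ ≤ (M hB H hab).index * (Nat.card F * Nat.card F * Nat.card F) * (D H hab).index :=
        Nat.mul_le_mul h hZ
    _ = _ := by ring

/-- The numerical criterion. -/
theorem crit (hq : 4 ≤ Nat.card F) (hab : B a b = 1)
    (hS : Nat.card (comp B a b) = Nat.card F * Nat.card F) (ha : ¬ Root hB H a)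
    (h : 3 * Nat.card (W hB H a b) ≤ (M hB H hab).index ∨
      ((2 : F) = 0 ∧ 2 * Nat.card (W hB H a b) ≤ (M hB H hab).index)) : Big H := by
  rcases h with h | ⟨h2, h⟩
  · have hidx := index_ge hB H hab
    have hZ := (D_index hB (H := H) hab ha).1
    rw [hS] at hidx
    unfold Big
    rw [card_four hB hab hS]
    refine Nat.mul_le_mul_left _ ?_
    obtain ⟨k, hk⟩ : ∃ k, Nat.card F = k + 4 := ⟨Nat.card F - 4, by omega⟩
    rw [hk] at hidx ⊢
    refine Nat.le_of_mul_le_mul_right ?_ (Nat.mul_pos (Nat.mul_pos two_pos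
      (Nat.card_pos (α := W hB H a b))) (Nat.card_pos (α := Z0 hB H a)))
    calc (k + 4 + 1) * ((k + 4) * (k + 4) + 1) * (2 * Nat.card (W hB H a b) * Nat.card (Z0 hB H a))
        = 2 * ((k + 4 + 1) * ((k + 4) * (k + 4) + 1)) * Nat.card (Z0 hB H a)
          * Nat.card (W hB H a b) := by ring
      _ ≤ 3 * ((k + 4) * (k + 4) * (k + 4)) * (2 * (D H hab).index)
          * Nat.card (W hB H a b) := by
            refine Nat.mul_le_mul_right _ (Nat.mul_le_mul ?_ (by omega))
            nlinarith
      _ = 2 * (D H hab).index * (3 * Nat.card (W hB H a b)) * ((k + 4) * (k + 4) * (k + 4)) := by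
          ring
      _ ≤ 2 * (D H hab).index * (M hB H hab).index * ((k + 4) * (k + 4) * (k + 4)) := by gcongr
      _ = 2 * ((D H hab).index * (M hB H hab).index * ((k + 4) * (k + 4) * (k + 4))) := by ring
      _ ≤ 2 * (H.index * (Nat.card (W hB H a b) * Nat.card (Z0 hB H a))) :=
          Nat.mul_le_mul_left _ hidx
      _ = _ := by ring
  · refine crit_even hB hab hS ha h2 ?_
    obtain ⟨k, hk⟩ : ∃ k, Nat.card F = k + 4 := ⟨Nat.card F - 4, by omega⟩
    rw [hk]
    calc _ ≤ 2 * ((k + 4) * (k + 4) * (k + 4)) * Nat.card (W hB H a b) :=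
          Nat.mul_le_mul_right _ (by nlinarith)
      _ = 2 * Nat.card (W hB H a b) * ((k + 4) * (k + 4) * (k + 4)) := by ring
      _ ≤ _ := Nat.mul_le_mul_right _ h

/-- `W` is a full line stabilised by a full unipotent group. -/
theorem big_of_full_line (hq : 4 ≤ Nat.card F) (hab : B a b = 1)
    (hS : Nat.card (comp B a b) = Nat.card F * Nat.card F)
    (hnr : ∀ u : V, u ≠ 0 → ¬ Root hB H u) {w v : comp B a b} (hwv : form B a b w v = 1)
    (hW : ∀ x : comp B a b, x ∈ W0 hB H a b ↔ form B a b w x = 0)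
    (hU : ∀ c : F, T (form_good hB hab) w c ∈ M hB H hab) : Big H := by
  classical
  have ha0 : a ≠ 0 := fun h => by simp [h] at hab
  have hB' := form_good hB hab
  have h1 := card_comp_comp hB hab hS hwv
  have hwa : B a (w : V) = 0 := (mem_comp.1 w.2).1
  have hva : B a (v : V) = 0 := (mem_comp.1 v.2).1
  have hwv' : B (w : V) (v : V) = 1 := hwv
  have hlineW : ∀ r : F, r • w ∈ W0 hB H a b := fun r => by
    rw [hW, map_smul, hB'.alt, smul_zero]
  -- vectors of `Wt`
  have hWtline : ∀ y ∈ Wt hB H a, ∃ r s : F, y = r • (w : V) + s • a := by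
    intro y hy
    have hya : B a y = 0 := hy.1
    have hp : pr hB hab y ∈ W0 hB H a b := by
      rw [mem_W0, coe_pr, hya, zero_smul, sub_zero, sub_eq_add_neg, ← neg_smul]
      exact Wt_add_a hB hy _
    have h2 := plane_perp hB' hwv h1 ((hW _).1 hp)
    refine ⟨form B a b (pr hB hab y) v, B y b, ?_⟩
    have h3 := congrArg Subtype.val h2
    rw [coe_pr, hya, zero_smul, sub_zero, sub_eq_iff_eq_add, Submodule.coe_smul] at h3
    exact h3
  -- the stabiliser of the point in `H` moves `w` within `span(w, a)`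
  let A : Subgroup (Pt (B := B) a) := H.subgroupOf (Pt a)
  have hAw : ∀ g : A, ∃ β δ : F, β ≠ 0 ∧ ((g : Pt (B := B) a) : Iso B).1 (w : V)
      = β • (w : V) + δ • a := by
    intro g
    set g' : Iso B := ((g : Pt (B := B) a) : Iso B) with hg'
    set t := ptScalar hab (g : Pt (B := B) a) with ht
    have hga : g'.1 a = (t : F) • a := ptScalar_spec hab (g : Pt (B := B) a)
    have hgwa : B a (g'.1 w) = 0 := by
      have h := Iso.map_form g' a (w : V)
      rw [hga, map_smul, LinearMap.smul_apply, hwa] at h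
      exact (smul_eq_zero.1 h).resolve_left t.ne_zero
    obtain ⟨-, c, hc⟩ := (mem_W0 hB).1 (show w ∈ W0 hB H a b by simpa using hlineW 1)
    have h := H.mul_mem (H.mul_mem (show g' ∈ H from g.2) hc) (H.inv_mem (show g' ∈ H from g.2))
    rw [R_conj hB _ hwa, hga, R_scale hB hgwa] at h
    obtain ⟨r, s, hrs⟩ := hWtline _ ⟨by rw [map_smul, hgwa, smul_zero], _, h⟩
    have e : g'.1 (w : V) = ((t : F)⁻¹ * r) • (w : V) + ((t : F)⁻¹ * s) • a := by
      rw [mul_smul, mul_smul, ← smul_add, ← hrs, inv_smul_smul₀ t.ne_zero]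
    refine ⟨_, _, fun h0 => ?_, e⟩
    rw [h0, zero_smul, zero_add] at e
    have h2 := congrArg (fun y => B y (g'.1 (v : V))) e
    simp only [Iso.map_form, map_smul, LinearMap.smul_apply, hwv', smul_eq_mul] at h2
    have h3 : B a (g'.1 (v : V)) = 0 := by
      have h := Iso.map_form g' a (v : V)
      rw [hga, map_smul, LinearMap.smul_apply, hva] at h
      exact (smul_eq_zero.1 h).resolve_left t.ne_zero
    rw [h3, mul_zero] at h2
    exact one_ne_zero h2
  have hval : ∀ g : A, ∀ β δ : F, ((g : Pt (B := B) a) : Iso B).1 (w : V)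
      = β • (w : V) + δ • a → B (((g : Pt (B := B) a) : Iso B).1 (w : V)) (v : V) = β := by
    intro g β δ e
    rw [e]; simp [hwv', hva]
  let βh : A →* Fˣ :=
    { toFun := fun g => Units.mk0 (B (((g : Pt (B := B) a) : Iso B).1 (w : V)) (v : V)) (by
        obtain ⟨β, δ, hβ, e⟩ := hAw g
        rwa [hval g β δ e])
      map_one' := Units.ext (by simpa using hwv')
      map_mul' := fun g g' => Units.ext (by
        obtain ⟨β, δ, -, e⟩ := hAw g
        obtain ⟨β', δ', -, e'⟩ := hAw g'
        show B (((g : Pt (B := B) a) : Iso B).1 (((g' : Pt (B := B) a) : Iso B).1 (w : V))) (v : V)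
          = B (((g : Pt (B := B) a) : Iso B).1 (w : V)) (v : V)
            * B (((g' : Pt (B := B) a) : Iso B).1 (w : V)) (v : V)
        rw [e', map_add, map_smul, map_smul, e, ptScalar_spec hab (g : Pt (B := B) a)]
        simp [hwv', hva, mul_comm]) }
  let α : A →* Fˣ := (ptScalar hab).comp A.subtype
  have hα : α.range = D H hab := by
    show α.range = A.map (ptScalar hab)
    rw [MonoidHom.range_comp, Subgroup.range_subtype]
  by_cases hsc : ∃ g : A, βh g = 1 ∧ (α g : F) * (α g : F) ≠ 1
  · -- a scalar forces a root group at `w`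
    exfalso
    obtain ⟨g, hβ1, ht1⟩ := hsc
    set g₁ : Iso B := ((g : Pt (B := B) a) : Iso B) with hg₁
    set t : F := (α g : F) with ht
    have hga : g₁.1 a = t • a := ptScalar_spec hab (g : Pt (B := B) a)
    have ht0 : t ≠ 0 := (α g).ne_zero
    have ht1' : (1 : F) - t ≠ 0 := fun h => ht1 (by rw [← sub_eq_zero.1 h, one_mul])
    obtain ⟨β, δ, -, hgw⟩ := hAw g
    obtain rfl : β = 1 := by
      rw [← hval g β δ hgw]; exact congrArg (fun u : Fˣ => (u : F)) hβ1
    rw [one_smul, ← hg₁] at hgw
    set w' : V := (w : V) + (δ / (1 - t)) • a with hw'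
    have hgw' : g₁.1 w' = w' := by
      rw [hw', map_add, map_smul, hgw, hga]
      match_scalars <;> field_simp
      ring
    have hw'a : B a w' = 0 := by simp [hw', hwa, hB.alt]
    have hprw' : pr hB hab w' = w := by rw [hw', map_add, map_smul, pr_comp, pr_a]; simp
    have hw'0 : w' ≠ 0 := fun h => by
      rw [h, map_zero] at hprw'
      rw [← hprw', map_zero] at hwv
      exact zero_ne_one hwv
    refine hnr w' hw'0 fun c => ?_
    obtain ⟨k, hk, hkc⟩ := hU c
    have hTa : (T hB w' c).1 a = a := by rw [T_apply, hw'a]; simp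
    have hsame : compHom hB hab ⟨T hB w' c, hTa⟩ = T hB' w c := Iso.ext' fun x => by
      rw [compHom_apply, T_apply, T_apply]
      show pr hB hab ((x : V) + (c * B (x : V) w') • w') = _
      rw [map_add, map_smul, pr_comp, hprw', hw', map_add, map_smul,
        show B (x : V) a = 0 from hB.symm0 (mem_comp.1 x.2).1, smul_zero, add_zero]
      rfl
    have hrad : (T hB w' c)⁻¹ * (k : Iso B) ∈ Rad hB a := by
      have : (⟨T hB w' c, hTa⟩ : Fix (B := B) a)⁻¹ * k ∈ (compHom hB hab).ker := by
        rw [MonoidHom.mem_ker, map_mul, map_inv, hsame, hkc, inv_mul_cancel]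
      rwa [compHom_ker hB hab, Subgroup.mem_subgroupOf] at this
    obtain ⟨x, z, hxa, hxb, hxe⟩ := eq_R hB hab _ hrad.1 hrad.2
    have hkeq : (k : Iso B) = T hB w' c * R hB a x z := by rw [← hxe, mul_inv_cancel_left]
    have hcomm : g₁ * T hB w' c * g₁⁻¹ = T hB w' c := by rw [T_conj, hgw']
    have hgxa : B a (g₁.1 x) = 0 := by
      have h := Iso.map_form g₁ a x
      rw [hga, map_smul, LinearMap.smul_apply, hxa] at h
      exact (smul_eq_zero.1 h).resolve_left ht0
    have hH1 : (R hB a x z)⁻¹ * (g₁ * R hB a x z * g₁⁻¹) ∈ H := by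
      have hg : g₁ ∈ H := g.2
      have h := H.mul_mem (H.inv_mem (show (k : Iso B) ∈ H from hk))
        (H.mul_mem (H.mul_mem hg (show (k : Iso B) ∈ H from hk)) (H.inv_mem hg))
      rw [hkeq, show g₁ * (T hB w' c * R hB a x z) * g₁⁻¹
        = T hB w' c * (g₁ * R hB a x z * g₁⁻¹) by rw [← conj_mul, hcomm]] at h
      simpa [mul_assoc] using h
    rw [R_conj hB _ hxa, hga, R_scale hB hgxa, R_inv hB hxa,
      R_mul hB (by simp [hxa]) (by simp [hgxa])] at hH1
    have hmemWt : -x + t • g₁.1 x ∈ Wt hB H a := ⟨by simp [hxa, hgxa], _, hH1⟩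
    -- `x` lies on the line
    have hxW : x ∈ Wt hB H a := by
      set x₀ : comp B a b := ⟨x, hxa, hxb⟩
      have h2 : form B a b w (pr hB hab (g₁.1 x) - x₀) = 0 := by
        show B (w : V) ((pr hB hab (g₁.1 x) : V) - x) = 0
        have h3 := Iso.map_form g₁ w' x
        rw [hgw'] at h3
        rw [hw'] at h3
        simp only [map_add, map_smul, LinearMap.add_apply, LinearMap.smul_apply, hgxa, hxa,
          smul_zero, add_zero] at h3
        rw [coe_pr, hgxa, zero_smul, sub_zero]
        simp [h3, hB.symm0 hwa]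
      obtain ⟨r, hr⟩ : ∃ r : F, pr hB hab (g₁.1 x) - x₀ = r • w := ⟨_, plane_perp hB' hwv h1 h2⟩
      have h4 : (t - 1) • x₀ ∈ W0 hB H a b := by
        have h5 : pr hB hab (-x + t • g₁.1 x) ∈ W0 hB H a b := by
          rw [mem_W0, coe_pr, hmemWt.1, zero_smul, sub_zero, sub_eq_add_neg, ← neg_smul]
          exact Wt_add_a hB hmemWt _
        have h6 := (W0 hB H a b).sub_mem h5 (hlineW (t * r))
        rw [map_add, map_neg, map_smul, show pr hB hab x = x₀ from pr_comp hB hab x₀,
          eq_add_of_sub_eq hr] at h6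
        convert h6 using 1
        module
      rw [hW, map_smul, smul_eq_zero] at h4
      have h7 := h4.resolve_left fun h => ht1' (by linear_combination -h)
      exact (mem_W0 hB).1 ((hW x₀).2 h7)
    obtain ⟨-, c₀, hc₀⟩ := hxW
    obtain ⟨ζ, hζ⟩ : ∃ ζ, T hB w' c * T hB a ζ ∈ H := by
      have h := H.mul_mem (show (k : Iso B) ∈ H from hk) (H.inv_mem hc₀)
      rw [hkeq, mul_assoc, R_inv hB hxa, R_mul hB hxa (by simp [hxa]), add_neg_cancel,
        R_zero_eq_T] at h
      exact ⟨_, h⟩
    have hstab : ∀ y, y ∈ Z0 hB H a → t * t * y ∈ Z0 hB H a := fun y hy =>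
      D_sq hB hab (t := α g) (by rw [← hα]; exact ⟨g, rfl⟩) hy
    have hu : (t * t - 1) * ζ ∈ Z0 hB H a := by
      have hg : g₁ ∈ H := g.2
      have h := H.mul_mem (H.inv_mem hζ) (H.mul_mem (H.mul_mem hg hζ) (H.inv_mem hg))
      rw [← conj_mul, hcomm, T_conj, hga, T_smul, mul_inv_rev, mul_assoc, inv_mul_cancel_left,
        T_inv, ← T_add] at h
      show T hB a _ ∈ H
      convert h using 2
      ring
    have hpow : ∀ i : ℕ, ((t * t) ^ i - 1) * ζ ∈ Z0 hB H a := by
      intro i
      induction i with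
      | zero => simp
      | succ i ih =>
        convert (Z0 hB H a).add_mem (hstab _ ih) hu using 1
        ring
    have hζ0 : ζ ∈ Z0 hB H a := by
      have hs := (Z0 hB H a).sum_mem (t := Finset.range (Nat.card F - 1)) fun i _ => hpow i
      have hgeom : ∑ i ∈ Finset.range (Nat.card F - 1), (t * t) ^ i = 0 := by
        have h := geom_sum_mul (t * t) (Nat.card F - 1)
        have := Fintype.ofFinite F
        rw [Nat.card_eq_fintype_card, FiniteField.pow_card_sub_one_eq_one _ (mul_ne_zero ht0 ht0),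
          sub_self, mul_eq_zero] at h
        rw [Nat.card_eq_fintype_card]
        exact h.resolve_right (sub_ne_zero.2 ht1)
      rw [← Finset.sum_mul, Finset.sum_sub_distrib, hgeom, Finset.sum_const, Finset.card_range,
        nsmul_eq_mul, mul_one, zero_sub] at hs
      have hq1 : ((Nat.card F - 1 : ℕ) : F) = -1 := by
        have := Fintype.ofFinite F
        rw [Nat.cast_sub (by omega), Nat.card_eq_fintype_card, FiniteField.cast_card_eq_zero]
        simp
      rwa [hq1, neg_neg, one_mul] at hs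
    have h := H.mul_mem hζ (H.inv_mem (show T hB a ζ ∈ H from hζ0))
    rwa [mul_inv_cancel_right] at h
  · -- few scalars
    push Not at hsc
    let Sc : Set F := {s | ∃ g : A, α g = 1 ∧ s = (βh g : F)}
    have hScard : Nat.card Sc ≤ Nat.card (α.ker.map βh) := by
      refine Nat.card_le_card_of_surjective (fun u => (⟨((u : Fˣ) : F), ?_⟩ : Sc)) ?_
      · obtain ⟨g, hg, hu⟩ := u.2
        exact ⟨g, hg, by rw [hu]⟩
      · rintro ⟨s, g, hg, rfl⟩
        exact ⟨⟨βh g, Subgroup.mem_map_of_mem _ hg⟩, rfl⟩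
    have hM : Nat.card (M hB H hab) ≤ Nat.card Sc * Nat.card F := by
      refine (plane_line hB' hwv h1 (M hB H hab) (fun γ hγ => ?_) Sc fun γ hγ => ?_).trans
        (Nat.mul_le_mul_left _ (Nat.card_le_card_of_injective _ Subtype.val_injective))
      · exact (hW _).1 (M_W0 hB hab hγ ((hW w).2 (hB'.alt w)))
      · obtain ⟨h, hh, rfl⟩ := hγ
        have hpt : (h : Iso B) ∈ Pt (B := B) a := ⟨1, by
          rw [show (h : Iso B).1 a = a from h.2]; simp⟩
        refine ⟨⟨⟨h, hpt⟩, hh⟩, Units.ext (ptScalar_eq hab _ (by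
          show (h : Iso B).1 a = _
          rw [show (h : Iso B).1 a = a from h.2]; simp)), ?_⟩
        show B ((pr hB hab ((h : Iso B).1 (w : V)) : comp B a b) : V) (v : V) = B ((h : Iso B).1 w) v
        rw [coe_pr]
        simp [hva, fix_perp hB h.2 hwa]
    have hD : Nat.card (D H hab) * Nat.card (α.ker.map βh)
        ≤ (Nat.card F - 1) * Nat.card (βh.ker.map α) := by
      have h := card_two_homs α βh
      rw [hα] at h
      rw [h, inf_comm, ← card_two_homs βh α, ← Nat.card_units]
      exact Nat.mul_le_mul_right _ (Nat.card_le_card_of_injective _ Subtype.val_injective)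
    have he : 3 * (Nat.card (Z0 hB H a) * Nat.card (βh.ker.map α)) ≤ 2 * Nat.card F := by
      have hmem : ∀ u : βh.ker.map α, ((u : Fˣ) : F) * (u : Fˣ) = 1 := by
        rintro ⟨_, g, hg, rfl⟩
        exact hsc g hg
      have hZ := Z0_card hB (H := H) (hnr a ha0)
      by_cases h2 : (2 : F) = 0
      · have h1' : Nat.card (βh.ker.map α) ≤ 1 := by
          refine Finite.card_le_one_iff_subsingleton.2 ⟨fun u u' => Subtype.ext (Units.ext ?_)⟩
          rcases mul_self_eq_mul_self_iff.1 ((hmem u).trans (hmem u').symm) with h | h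
          · exact h
          · rw [h, neg_eq_iff_add_eq_zero, ← two_mul, h2, zero_mul]
        have := Nat.mul_le_mul_left (Nat.card (Z0 hB H a)) h1'
        omega
      · have h1' : Nat.card (βh.ker.map α) ≤ 2 := by
          rw [show (2 : ℕ) = Nat.card Bool by simp]
          refine Nat.card_le_card_of_injective (fun u => decide (((u : Fˣ) : F) = 1))
            fun u u' e => Subtype.ext (Units.ext ?_)
          rw [decide_eq_decide] at e
          rcases mul_self_eq_one_iff.1 (hmem u) with h | h <;>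
            rcases mul_self_eq_one_iff.1 (hmem u') with h' | h'
          · rw [h, h']
          · rw [e.1 h, h]
          · rw [e.2 h', h']
          · rw [h, h']
        have := Nat.mul_le_mul_left (Nat.card (Z0 hB H a)) h1'
        have := hZ.2 h2
        omega
    have hidx := index_ge hB H hab
    have hWc : Nat.card (W hB H a b) = Nat.card F := by
      rw [← card_W0 hB]
      refine (Nat.card_eq_of_bijective (fun r => (⟨r • w, hlineW r⟩ : W0 hB H a b)) ⟨?_, ?_⟩).symm
      · intro r r' e
        have := congrArg (fun x => form B a b x v) (congrArg Subtype.val e)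
        simpa [hwv] using this
      · rintro ⟨x, hx⟩
        exact ⟨_, Subtype.ext (plane_perp hB' hwv h1 ((hW x).1 hx)).symm⟩
    have hMi := plane_index hB' hwv h1 (M hB H hab)
    have hG : (D H hab).index * Nat.card (D H hab) = Nat.card F - 1 := by
      rw [Subgroup.index_mul_card, Nat.card_units]
    rw [hS, hWc] at hidx
    unfold Big
    rw [card_four hB hab hS]
    refine Nat.mul_le_mul_left _ ?_
    set q := Nat.card F
    set Z := Nat.card (Z0 hB H a)
    set G := (D H hab).index
    set Mi := (M hB H hab).index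
    set e := Nat.card (βh.ker.map α)
    set S := Nat.card (α.ker.map βh)
    set Dc := Nat.card (D H hab)
    obtain ⟨j, hj⟩ : ∃ j, q = j + 4 := ⟨q - 4, by omega⟩
    have hq1 : q - 1 = j + 3 := by omega
    have hqq : q * q - 1 = (j + 3) * (j + 5) := by
      rw [hj, show (j + 4) * (j + 4) = (j + 3) * (j + 5) + 1 by ring, Nat.add_sub_cancel]
    have hMS : (j + 3) * (j + 5) ≤ Mi * S := by
      refine Nat.le_of_mul_le_mul_right (c := q) ?_ (by omega)
      rw [← hqq, ← hMi, mul_assoc]
      exact Nat.mul_le_mul_left _ (hM.trans (Nat.mul_le_mul_right _ hScard))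
    have h1 : (j + 3) * (j + 5) * (q * q) ≤ H.index * (Z * e) := by
      refine Nat.le_of_mul_le_mul_left (c := (j + 3) * q) ?_ (Nat.mul_pos (Nat.succ_pos _) (by omega))
      calc (j + 3) * q * ((j + 3) * (j + 5) * (q * q))
          = (j + 3) * ((j + 3) * (j + 5)) * (q * q * q) := by ring
        _ ≤ G * Dc * (Mi * S) * (q * q * q) := by rw [hG, hq1]; gcongr
        _ = G * Mi * (q * q * q) * (Dc * S) := by ring
        _ ≤ H.index * (q * Z) * (Dc * S) := Nat.mul_le_mul_right _ hidx
        _ ≤ H.index * (q * Z) * ((j + 3) * e) := Nat.mul_le_mul_left _ (hq1 ▸ hD)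
        _ = _ := by ring
    have h3 : (q * q + 1) * (Z * e) ≤ (j + 3) * (q * q) := by
      refine Nat.le_of_mul_le_mul_left (c := 3) ?_ three_pos
      calc 3 * ((q * q + 1) * (Z * e)) = (q * q + 1) * (3 * (Z * e)) := by ring
        _ ≤ (q * q + 1) * (2 * q) := Nat.mul_le_mul_left _ he
        _ ≤ _ := by rw [hj]; nlinarith
    refine Nat.le_of_mul_le_mul_right (c := Z * e) ?_ (Nat.mul_pos Nat.card_pos Nat.card_pos)
    calc (q + 1) * (q * q + 1) * (Z * e) ≤ (q + 1) * ((j + 3) * (q * q)) := by
          rw [mul_assoc]; exact Nat.mul_le_mul_left _ h3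
      _ = (j + 3) * (j + 5) * (q * q) := by rw [hj]; ring
      _ ≤ _ := h1

/-- `W` inside a line. -/
theorem big_of_line (hH : H ≠ ⊤) (hq : 4 ≤ Nat.card F) (hab : B a b = 1)
    (hS : Nat.card (comp B a b) = Nat.card F * Nat.card F)
    (hnr : ∀ u : V, u ≠ 0 → ¬ Root hB H u) {w : comp B a b} (hw : w ≠ 0)
    (hline : ∀ x ∈ W0 hB H a b, form B a b w x = 0) : Big H := by
  classical
  have ha : ¬ Root hB H a := hnr a fun h => by simp [h] at hab
  have hB' := form_good hB hab
  obtain ⟨v, hwv⟩ := hB'.exists_one hw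
  have h1 := card_comp_comp hB hab hS hwv
  by_cases hM : M hB H hab = ⊤
  · refine big_of_M_top hB hH hab (by omega) ha hM (fun e => hw ?_) (fun h => by omega)
    exact Subtype.ext ((Submodule.eq_bot_iff _).1 e _ w.2)
  have hMi1 : (M hB H hab).index ≠ 1 := fun e => hM (Subgroup.index_eq_one.1 e)
  have hMi0 : (M hB H hab).index ≠ 0 := Subgroup.index_ne_zero_of_finite
  by_cases hW1 : W0 hB H a b = ⊥
  · refine crit hB hq hab hS ha ?_
    rw [← card_W0 hB, hW1, AddSubgroup.card_bot]
    by_cases h2 : (2 : F) = 0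
    · exact Or.inr ⟨h2, by omega⟩
    · have := M_index_ne_two hB (H := H) hab h2
      exact Or.inl (by omega)
  let R0 : AddSubgroup F :=
    (W0 hB H a b).comap ((LinearMap.id (R := F) (M := F)).smulRight w).toAddMonoidHom
  have hR0 : ∀ r, r ∈ R0 ↔ r • w ∈ W0 hB H a b := fun r => Iff.rfl
  have hrep : ∀ x ∈ W0 hB H a b, x = form B a b x v • w := fun x hx =>
    plane_perp hB' hwv h1 (hline x hx)
  have hRc : Nat.card R0 = Nat.card (W hB H a b) := by
    rw [← card_W0 hB]
    refine Nat.card_eq_of_bijective (fun r => (⟨(r : F) • w, r.2⟩ : W0 hB H a b)) ⟨?_, ?_⟩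
    · intro r r' e
      have := congrArg (fun x => form B a b x v) (congrArg Subtype.val e)
      exact Subtype.ext (by simpa [hwv] using this)
    · rintro ⟨x, hx⟩
      exact ⟨⟨_, (hR0 _).2 (by rwa [← hrep x hx])⟩, Subtype.ext (hrep x hx).symm⟩
  -- every element fixes the line
  obtain ⟨⟨x₁, hx₁⟩, hx₁0⟩ := (W0 hB H a b).ne_bot_iff_exists_ne_zero.1 hW1
  have hx₁0' : form B a b x₁ v ≠ 0 := fun h => hx₁0 (Subtype.ext (by
    show x₁ = 0
    exact (hrep x₁ hx₁).trans (by rw [h, zero_smul])))
  have hfix : ∀ g ∈ M hB H hab, form B a b w (g.1 w) = 0 := by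
    intro g hg
    have h := hline _ (M_W0 hB hab hg hx₁)
    rw [hrep x₁ hx₁, map_smul, map_smul, smul_eq_mul] at h
    exact (mul_eq_zero.1 h).resolve_left hx₁0'
  have hMi := plane_index hB' hwv h1 (M hB H hab)
  obtain ⟨j, hj⟩ : ∃ j, Nat.card F = j + 4 := ⟨Nat.card F - 4, by omega⟩
  have hqq : Nat.card F * Nat.card F - 1 = (j + 3) * (j + 5) := by
    rw [hj, show (j + 4) * (j + 4) = (j + 3) * (j + 5) + 1 by ring, Nat.add_sub_cancel]
  by_cases hR : R0 = ⊤
  · by_cases hU : ∀ c : F, T hB' w c ∈ M hB H hab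
    · refine big_of_full_line hB hq hab hS hnr hwv (fun x => ⟨hline x, fun hx => ?_⟩) hU
      rw [plane_perp hB' hwv h1 hx, ← hR0, hR]
      trivial
    · have hlt : Z0 hB' (M hB H hab) w < ⊤ := lt_of_le_of_ne le_top fun e => hU fun c => by
        show c ∈ Z0 hB' (M hB H hab) w
        rw [e]; trivial
      have hp := proper_card (F := F) (V := F) hlt
      rw [AddSubgroup.card_top] at hp
      have hM' : Nat.card (M hB H hab) ≤ (j + 3) * Nat.card (Z0 hB' (M hB H hab) w) := by
        refine (plane_line hB' hwv h1 _ hfix {s | s ≠ 0} fun g hg h0 => ?_).trans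
          (Nat.mul_le_mul_right _ (le_of_eq ?_))
        · have h := plane_perp hB' hwv h1 (hfix g hg)
          rw [h0, zero_smul] at h
          exact hw (g.1.map_eq_zero_iff.1 h)
        · show Nat.card {s : F // s ≠ 0} = _
          rw [Nat.card_congr (unitsEquivNeZero (G₀ := F)).symm, Nat.card_units]
          omega
      refine crit hB hq hab hS ha ?_
      rw [← hRc, hR, AddSubgroup.card_top]
      have key : ∀ p : ℕ, p * Nat.card (Z0 hB' (M hB H hab) w) ≤ Nat.card F →
          p * Nat.card F ≤ (M hB H hab).index := by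
        intro p hp
        refine le_trans (Nat.mul_le_mul_left p (Nat.le_succ _)) ?_
        refine Nat.le_of_mul_le_mul_right (c := (j + 3) * Nat.card F) ?_
          (Nat.mul_pos (Nat.succ_pos _) (by omega))
        calc p * (Nat.card F + 1) * ((j + 3) * Nat.card F)
            = p * ((j + 3) * (j + 5) * Nat.card F) := by rw [hj]; ring
          _ = p * ((M hB H hab).index * Nat.card (M hB H hab)) := by rw [hMi, hqq]
          _ ≤ p * ((M hB H hab).index * ((j + 3) * Nat.card (Z0 hB' (M hB H hab) w))) := by gcongr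
          _ = (M hB H hab).index * (j + 3) * (p * Nat.card (Z0 hB' (M hB H hab) w)) := by ring
          _ ≤ (M hB H hab).index * (j + 3) * Nat.card F := Nat.mul_le_mul_left _ hp
          _ = _ := by ring
      by_cases h2 : (2 : F) = 0
      · exact Or.inr ⟨h2, key 2 hp.1⟩
      · exact Or.inl (key 3 (hp.2 h2))
  · have hR0' : R0 ≠ ⊥ := fun h => hx₁0' (by
      have : form B a b x₁ v ∈ R0 := (hR0 _).2 (by rwa [← hrep x₁ hx₁])
      rwa [h, AddSubgroup.mem_bot] at this)
    let Sc : Set F := {c | c ≠ 0 ∧ ∀ r ∈ R0, c * r ∈ R0}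
    have hs := scalar_stab R0 hR0' hR Sc fun c hc => hc
    have hM' : Nat.card (M hB H hab) ≤ Nat.card Sc * Nat.card F := by
      refine (plane_line hB' hwv h1 _ hfix Sc fun g hg => ?_).trans
        (Nat.mul_le_mul_left _ (Nat.card_le_card_of_injective _ Subtype.val_injective))
      have h := plane_perp hB' hwv h1 (hfix g hg)
      refine ⟨fun h0 => hw (g.1.map_eq_zero_iff.1 (by rw [h, h0, zero_smul])), fun r hr => ?_⟩
      have h3 := M_W0 hB hab hg ((hR0 r).1 hr)
      rw [map_smul, h, smul_smul, mul_comm] at h3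
      exact (hR0 _).2 h3
    refine crit hB hq hab hS ha (Or.inl ?_)
    rw [← hRc]
    have h4 : (j + 3) * (j + 5) ≤ (M hB H hab).index * Nat.card Sc := by
      refine Nat.le_of_mul_le_mul_right (c := Nat.card F) ?_ (by omega)
      rw [← hqq, ← hMi, mul_assoc]
      exact Nat.mul_le_mul_left _ hM'
    refine Nat.le_of_mul_le_mul_right (c := Nat.card Sc) ?_ ?_
    · refine le_trans ?_ h4
      rw [mul_assoc]
      calc 3 * (Nat.card R0 * Nat.card Sc) ≤ 3 * (j + 2) := by
            refine Nat.mul_le_mul_left _ ?_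
            omega
        _ ≤ _ := by nlinarith
    · haveI : Nonempty Sc := ⟨⟨1, one_ne_zero, fun r hr => by rwa [one_mul]⟩⟩
      exact Nat.card_pos

end Cfsg.Agent.Lib.MinIndexSp
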