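import Cfsg.Agent.Lib.MinIndexSp.Local

/-!
# Minimal index in symplectic groups: generation, points and subgroups with many root groups
-/

set_option autoImplicit false
set_option linter.unusedSectionVars false
set_option linter.unusedSimpArgs false

namespace Cfsg.Agent.Lib.MinIndexSp

open LinearMap (BilinForm)

variable {F : Type*} [Field F] {V : Type*} [AddCommGroup V] [Module F V] {B : BilinForm F V}
variable (hB : Good B)

/-- `H` has at least as large an index as the stabiliser of a point. -/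
def Big (H : Subgroup (Iso B)) : Prop := Nat.card V - 1 ≤ (Nat.card F - 1) * H.index

include hB

theorem exists_common {u v : V} {U : Submodule F V} (hu : ∃ w ∈ U, B u w ≠ 0)
    (hv : ∃ w ∈ U, B v w ≠ 0) : ∃ w ∈ U, B u w ≠ 0 ∧ B v w ≠ 0 := by
  obtain ⟨w, hw, huw⟩ := hu
  obtain ⟨z, hz, hvz⟩ := hv
  by_cases h1 : B v w = 0
  · by_cases h2 : B u z = 0
    · exact ⟨w + z, U.add_mem hw hz, by simpa [h2] using huw, by simpa [h1] using hvz⟩
    · exact ⟨z, hz, h2, hvz⟩
  · exact ⟨w, hw, huw, h1⟩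

/-- Transvections at a nondegenerate subspace of root vectors move its vectors around. -/
theorem exists_move {H : Subgroup (Iso B)} (U : Submodule F V) (hU : ∀ v ∈ U, Root hB H v)
    (hnd : ∀ x ∈ U, x ≠ 0 → ∃ w ∈ U, B x w ≠ 0) {x y : V} (hx : x ∈ U) (hy : y ∈ U) (hx0 : x ≠ 0)
    (hy0 : y ≠ 0) :
    ∃ k ∈ H, k.1 x = y ∧ ∀ l, (∀ u ∈ U, B l u = 0) → k.1 l = l := by
  have step : ∀ p ∈ U, ∀ r ∈ U, B p r ≠ 0 →
      ∃ k ∈ H, k.1 p = r ∧ ∀ l, (∀ u ∈ U, B l u = 0) → k.1 l = l := by
    intro p hp r hr h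
    refine ⟨T hB (r - p) (B p r)⁻¹, hU _ (U.sub_mem hr hp) _, ?_, fun l hl => ?_⟩
    · rw [T_apply, map_sub, hB.alt, sub_zero, inv_mul_cancel₀ h, one_smul, add_sub_cancel]
    · rw [T_apply, hl _ (U.sub_mem hr hp), mul_zero, zero_smul, add_zero]
  obtain ⟨w, hw, hxw, hyw⟩ := exists_common hB (hnd x hx hx0) (hnd y hy hy0)
  obtain ⟨k, hk, hkx, hkl⟩ := step x hx w hw hxw
  obtain ⟨k', hk', hky, hkl'⟩ := step w hw y hy (by rwa [hB.flip, neg_ne_zero])
  exact ⟨k' * k, H.mul_mem hk' hk, by rw [Iso.mul_apply, hkx, hky],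
    fun l hl => by rw [Iso.mul_apply, hkl l hl, hkl' l hl]⟩

theorem exists_map {x y : V} (hx : x ≠ 0) (hy : y ≠ 0) : ∃ g : Iso B, g.1 x = y := by
  obtain ⟨k, -, hk, -⟩ := exists_move hB (H := ⊤) ⊤ (fun v _ c => Subgroup.mem_top _)
    (fun x _ hx => (hB.exists_ne hx).imp fun w hw => ⟨trivial, hw⟩) (x := x) (y := y) trivial
    trivial hx hy
  exact ⟨k, hk⟩

theorem comp_nd {a b : V} (hab : B a b = 1) :
    ∀ x ∈ comp B a b, x ≠ 0 → ∃ w ∈ comp B a b, B x w ≠ 0 := by
  intro x hx hx0
  obtain ⟨w, hw⟩ := (form_good hB hab).exists_ne (v := (⟨x, hx⟩ : comp B a b))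
    (fun e => hx0 (congrArg Subtype.val e))
  exact ⟨w, w.2, hw⟩

variable [Finite F] [Finite V]

theorem card_eq_comp {a b : V} (hab : B a b = 1) :
    Nat.card V = Nat.card (comp B a b) * (Nat.card F * Nat.card F) := by
  rw [← Nat.card_prod, ← Nat.card_prod]
  refine Nat.card_congr
    { toFun := fun v => (pr hB hab v, B a v, B v b)
      invFun := fun p => (p.1 : V) + p.2.1 • b + p.2.2 • a
      left_inv := fun v => by
        show ((pr hB hab v : comp B a b) : V) + _ + _ = v
        rw [coe_pr]; abel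
      right_inv := fun ⟨u, s, t⟩ => by
        have h1 : B a (u : V) = 0 := u.2.1
        have h2 : B (u : V) b = 0 := hB.symm0 u.2.2
        refine Prod.ext ?_ (Prod.ext ?_ ?_)
        · simp [pr_comp, pr_a, show pr hB hab b = 0 from Subtype.ext (by
            rw [coe_pr, hab, hB.alt]; simp)]
        · simp [h1, hab, hB.alt]
        · simp [h2, hab, hB.alt] }

theorem card_comp_lt {a b : V} (hab : B a b = 1) : Nat.card (comp B a b) < Nat.card V := by
  have h : 1 < Nat.card F := Finite.one_lt_card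
  have h2 : 1 < Nat.card F * Nat.card F := one_lt_mul'' h h
  rw [card_eq_comp hB hab]
  exact lt_mul_of_one_lt_right Nat.card_pos h2

omit hB [Finite F] in
/-- All transvections generate the isometry group. -/
theorem eq_top_of_roots.{u, w} {F : Type u} [Field F] [Finite F] :
    ∀ (n : ℕ) {V : Type w} [AddCommGroup V] [Module F V] [Finite V] {B : BilinForm F V}
      (hB : Good B), Nat.card V ≤ n → ∀ H : Subgroup (Iso B), (∀ v, Root hB H v) → H = ⊤ := by
  intro n
  induction n with
  | zero =>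
    intro V _ _ _ B hB hn
    have : 0 < Nat.card V := Nat.card_pos
    omega
  | succ n ih =>
    intro V _ _ _ B hB hn H hH
    refine eq_top_iff.2 fun g _ => ?_
    by_cases h0 : ∀ v : V, v = 0
    · rw [show g = 1 from Iso.ext' fun v => (h0 _).trans (h0 _).symm]
      exact H.one_mem
    push Not at h0
    obtain ⟨a, ha⟩ := h0
    obtain ⟨b, hab⟩ := hB.exists_one ha
    obtain ⟨k, hk, hka, -⟩ := exists_move hB ⊤ (fun v _ => hH v)
      (fun x _ hx => (hB.exists_ne hx).imp fun w hw => ⟨trivial, hw⟩) (x := g.1 a) (y := a)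
      trivial trivial (fun e => ha (by simpa using congrArg (g⁻¹).1 e)) ha
    have hM : M hB H hab = ⊤ := by
      refine ih (form_good hB hab) (by have := card_comp_lt hB hab; omega) _ fun v c => ?_
      refine ⟨⟨T hB (v : V) c, show _ = a by rw [T_apply, v.2.1]; simp⟩,
        show T hB (v : V) c ∈ H from hH _ c, Iso.ext' fun x => ?_⟩
      rw [compHom_apply, T_apply, T_apply, map_add, map_smul, pr_comp, pr_comp]
      rfl
    let g' : Fix (B := B) a := ⟨k * g, show _ = a by rw [Iso.mul_apply, hka]⟩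
    obtain ⟨h, hh, he⟩ : compHom hB hab g' ∈ M hB H hab := hM ▸ Subgroup.mem_top _
    have hr : ((h⁻¹ * g' : Fix (B := B) a) : Iso B) ∈ Rad hB a := by
      have : h⁻¹ * g' ∈ (compHom hB hab).ker := by
        rw [MonoidHom.mem_ker, map_mul, map_inv, he, inv_mul_cancel]
      rwa [compHom_ker hB hab, Subgroup.mem_subgroupOf] at this
    obtain ⟨x, c, hx, -, hxe⟩ := eq_R hB hab _ hr.1 hr.2
    have hmem : ((h⁻¹ * g' : Fix (B := B) a) : Iso B) ∈ H := by
      rw [hxe]
      exact H.mul_mem (H.mul_mem (H.mul_mem (hH _ _) (hH _ _)) (hH _ _)) (hH _ _)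
    rw [Subgroup.coe_mul, Subgroup.coe_inv] at hmem
    have := H.mul_mem (show (h : Iso B) ∈ H from hh) hmem
    rw [mul_inv_cancel_left] at this
    exact (H.mul_mem_cancel_left hk).1 this

theorem exists_nonroot {H : Subgroup (Iso B)} (hH : H ≠ ⊤) :
    ∃ a b : V, B a b = 1 ∧ ¬ Root hB H a := by
  by_contra h
  push Not at h
  refine hH (eq_top_of_roots _ hB le_rfl H fun v => ?_)
  by_cases hv : v = 0
  · rw [hv]; exact root_zero hB H
  · obtain ⟨w, hw⟩ := hB.exists_one hv
    exact h v w hw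

theorem index_Fix {a : V} (ha : a ≠ 0) : (Fix (B := B) a).index = Nat.card V - 1 := by
  have hst : MulAction.stabilizer (Iso B) a = Fix a := rfl
  have ho : MulAction.orbit (Iso B) a = {v : V | v ≠ 0} := by
    ext y
    constructor
    · rintro ⟨g, rfl⟩ e
      exact ha (g.1.map_eq_zero_iff.1 e)
    · intro hy
      obtain ⟨g, hg⟩ := exists_map hB ha hy
      exact ⟨g, hg⟩
  rw [← hst, MulAction.index_stabilizer, ho,
    show {v : V | v ≠ 0} = ({0} : Set V)ᶜ from rfl, Set.ncard_compl, Set.ncard_singleton]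

theorem index_Pt {a : V} (ha : a ≠ 0) :
    (Nat.card F - 1) * (Pt (B := B) a).index = Nat.card V - 1 := by
  obtain ⟨b, hab⟩ := hB.exists_one ha
  have hle : Fix (B := B) a ≤ Pt a := fun g (hg : g.1 a = a) => ⟨1, by simpa using hg⟩
  rw [← index_Fix hB ha, ← Subgroup.relIndex_mul_index hle]
  congr 1
  have e : ((Fix (B := B) a).subgroupOf (Pt a)).index = Nat.card (ptScalar (B := B) hab).range := by
    rw [← ptScalar_ker hab, Subgroup.index_ker]
  rw [Subgroup.relIndex, e, MonoidHom.range_eq_top.2 (ptScalar_surjective hB hab),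
    Subgroup.card_top, Nat.card_units]

theorem big_of_le_Pt {H : Subgroup (Iso B)} {a : V} (ha : a ≠ 0) (h : H ≤ Pt a) : Big H := by
  unfold Big
  rw [← index_Pt hB ha]
  exact Nat.mul_le_mul_left _ (Nat.le_of_dvd (Nat.pos_of_ne_zero Subgroup.index_ne_zero_of_finite)
    (Subgroup.index_dvd_of_le h))

/-- Double counting with a vector. -/
theorem index_mul_ge {a : V} (ha : a ≠ 0) (S : Subgroup (Iso B)) (X : Set V)
    (hX : ∀ g ∈ S, g.1 a ∈ X) {ι : Type*} (f : ι → Fix (B := B) a)
    (hf : ∀ i j, ((f i : Iso B))⁻¹ * f j ∈ S → i = j) :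
    (Nat.card V - 1) * Nat.card ι ≤ S.index * Nat.card X := by
  have h1 : (Fix (B := B) a).relIndex S ≤ Nat.card X := by
    have hst : MulAction.stabilizer S a = (Fix (B := B) a).subgroupOf S := rfl
    rw [Subgroup.relIndex, ← hst, MulAction.index_stabilizer, ← Nat.card_coe_set_eq]
    exact Nat.card_mono X.toFinite (by rintro _ ⟨g, rfl⟩; exact hX g g.2)
  have h2 : Nat.card ι ≤ S.relIndex (Fix (B := B) a) := by
    refine Nat.card_le_card_of_injective
      (fun i => (QuotientGroup.mk (f i) : Fix (B := B) a ⧸ S.subgroupOf (Fix a))) fun i j e => ?_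
    have := QuotientGroup.eq.1 e
    rw [Subgroup.mem_subgroupOf] at this
    exact hf i j this
  have h3 : S.relIndex (Fix (B := B) a) * (Fix (B := B) a).index
      = (Fix (B := B) a).relIndex S * S.index := by
    rw [← Subgroup.inf_relIndex_right S, ← Subgroup.inf_relIndex_left (H := S) (K := Fix a),
      Subgroup.relIndex_mul_index inf_le_right, Subgroup.relIndex_mul_index inf_le_left]
  rw [← index_Fix hB ha]
  calc _ ≤ (Fix (B := B) a).index * S.relIndex (Fix a) := Nat.mul_le_mul_left _ h2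
    _ = S.index * (Fix (B := B) a).relIndex S := by rw [mul_comm, h3, mul_comm]
    _ ≤ _ := Nat.mul_le_mul_left _ h1

/-- A subgroup with all root groups of a hyperplane-pair complement is big. -/
theorem big_of_comp_roots {H : Subgroup (Iso B)} (hH : H ≠ ⊤) {a b : V} (hab : B a b = 1)
    (hq : 3 ≤ Nat.card F) (hne : comp B a b ≠ ⊥) (hroot : ∀ v ∈ comp B a b, Root hB H v) :
    Big H := by
  classical
  let U := comp B a b
  let L : Submodule F V := Submodule.span F {a, b}
  have hba : B b a = -1 := by rw [hB.flip a b, hab]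
  have hLU : ∀ l ∈ L, ∀ u ∈ U, B l u = 0 := by
    intro l hl u hu
    obtain ⟨s, t, rfl⟩ := Submodule.mem_span_pair.1 hl
    obtain ⟨hua, hub⟩ := mem_comp.1 hu
    simp [hua, hub]
  have hUL : ∀ u ∈ U, ∀ l ∈ L, B u l = 0 := fun u hu l hl => hB.symm0 (hLU l hl u hu)
  have hsplit : ∀ v, ∃ u ∈ U, ∃ l ∈ L, v = u + l := fun v => by
    refine ⟨_, proj_mem hB hab v, B a v • b + B v b • a, ?_, by abel⟩
    exact L.add_mem (L.smul_mem _ (Submodule.subset_span (by simp)))
      (L.smul_mem _ (Submodule.subset_span (by simp)))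
  have hLnd : ∀ x ∈ L, x ≠ 0 → ∃ w ∈ L, B x w ≠ 0 := by
    intro x hx hx0
    obtain ⟨w, hw⟩ := hB.exists_ne hx0
    obtain ⟨u, hu, l, hl, rfl⟩ := hsplit w
    refine ⟨l, hl, ?_⟩
    rwa [map_add, hLU x hx u hu, zero_add] at hw
  obtain ⟨u₀, hu₀, hu₀0⟩ := Submodule.exists_mem_ne_zero_of_ne_bot hne
  -- mixed roots can be moved in the complement
  have hmix : ∀ u ∈ U, u ≠ 0 → ∀ l ∈ L, Root hB H (u + l) → ∀ u' ∈ U, u' ≠ 0 →
      Root hB H (u' + l) := by
    intro u hu hu0 l hl h u' hu' hu'0
    obtain ⟨k, hk, hku, hkl⟩ := exists_move hB U hroot (comp_nd hB hab) hu hu' hu0 hu'0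
    have := h.map hB hk
    rwa [map_add, hku, hkl l fun x hx => hLU l hl x hx] at this
  have hcoord : ∀ e₁ ∈ L, ∀ e₂ ∈ L, B e₁ e₂ ≠ 0 → ∀ l ∈ L,
      l = (B l e₂ / B e₁ e₂) • e₁ + (B e₁ l / B e₁ e₂) • e₂ := by
    intro e₁ h1 e₂ h2 hne' l hl
    obtain ⟨s1, t1, rfl⟩ := Submodule.mem_span_pair.1 h1
    obtain ⟨s2, t2, rfl⟩ := Submodule.mem_span_pair.1 h2
    obtain ⟨s3, t3, rfl⟩ := Submodule.mem_span_pair.1 hl
    simp only [map_add, map_smul, LinearMap.add_apply, LinearMap.smul_apply, smul_eq_mul, hB.alt,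
      hab, hba, mul_zero, zero_add, add_zero, mul_neg, mul_one] at hne' ⊢
    match_scalars <;> · field_simp; ring
  have hL_of_two : ∀ e₁ ∈ L, ∀ e₂ ∈ L, B e₁ e₂ ≠ 0 → Root hB H e₁ → Root hB H e₂ →
      ∀ l ∈ L, Root hB H l := by
    intro e₁ h1 e₂ h2 hne' r1 r2 l hl
    rw [hcoord e₁ h1 e₂ h2 hne' l hl]
    by_cases hs : B l e₂ / B e₁ e₂ = 0
    · rw [hs, zero_smul, zero_add]; exact r2.smul hB _
    · rw [← smul_inv_smul₀ hs ((B e₁ l / B e₁ e₂) • e₂), ← smul_add, smul_smul]
      exact (r1.add hB r2 hne' _).smul hB _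
  obtain ⟨t₁, ht0, ht1⟩ : ∃ t : F, t ≠ 0 ∧ t ≠ 1 := by
    have := Fintype.ofFinite F
    obtain ⟨t, -, ht⟩ := Finset.exists_mem_notMem_of_card_lt_card
      (s := ({0, 1} : Finset F)) (t := Finset.univ)
      (by rw [Finset.card_univ, ← Nat.card_eq_fintype_card]
          exact lt_of_le_of_lt Finset.card_le_two hq)
    simp only [Finset.mem_insert, Finset.mem_singleton, not_or] at ht
    exact ⟨t, ht.1, ht.2⟩
  -- two mixed roots in independent directions
  have hmm : ∀ l ∈ L, ∀ l' ∈ L, B l l' ≠ 0 → ∀ u ∈ U, u ≠ 0 → ∀ u' ∈ U, u' ≠ 0 →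
      Root hB H (u + l) → Root hB H (u' + l') → ∀ x ∈ L, Root hB H x := by
    intro l hl l' hl' hb u hu hu0 u' hu' hu'0 hr hr'
    have key : ∀ s : F, s ≠ 0 → Root hB H (l + s • l') := by
      intro s hs
      have h1 := hr'.smul hB s
      rw [smul_add] at h1
      have h2 := hmix _ (U.smul_mem s hu') (smul_ne_zero hs hu'0) _ (L.smul_mem s hl') h1 (-u)
        (U.neg_mem hu) (neg_ne_zero.2 hu0)
      have := hr.add hB h2 (by
        simp only [map_add, LinearMap.add_apply, map_neg, map_smul, LinearMap.smul_apply,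
          smul_eq_mul, hB.alt, hUL u hu l' hl', hB.symm0 (hUL u hu l hl), hUL u hu l hl,
          mul_zero, neg_zero, zero_add, add_zero]
        exact mul_ne_zero hs hb) 1
      rwa [one_smul, show u + l + (-u + s • l') = l + s • l' by abel] at this
    refine hL_of_two _ (L.add_mem hl (L.smul_mem 1 hl')) _ (L.add_mem hl (L.smul_mem t₁ hl')) ?_
      (key 1 one_ne_zero) (key t₁ ht0)
    simp only [map_add, map_smul, LinearMap.add_apply, LinearMap.smul_apply, smul_eq_mul, hB.alt,
      hB.flip l l', mul_zero, zero_add, add_zero, one_mul, mul_neg]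
    rw [show -(B l l') + t₁ * B l l' = (t₁ - 1) * B l l' by ring]
    exact mul_ne_zero (sub_ne_zero.2 ht1) hb
  -- a pure and a mixed root
  have hpm : ∀ l ∈ L, ∀ l' ∈ L, B l' l ≠ 0 → Root hB H l → ∀ u ∈ U, u ≠ 0 →
      Root hB H (u + l') → ∀ x ∈ L, Root hB H x := by
    intro l hl l' hl' hb hr u hu hu0 hr'
    have h2 := hr'.add hB hr (by
      rw [map_add, LinearMap.add_apply, hUL u hu l hl, zero_add]; exact hb) 1
    rw [one_smul, add_assoc] at h2
    refine hmm l' hl' _ (L.add_mem hl' hl) ?_ u hu hu0 u hu hu0 hr' h2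
    rwa [map_add, hB.alt, zero_add]
  have hdecomp : ∀ v, Root hB H v → v ∈ U ∨ v ∈ L ∨
      ∃ u ∈ U, u ≠ 0 ∧ ∃ l ∈ L, l ≠ 0 ∧ v = u + l := by
    intro v _
    obtain ⟨u, hu, l, hl, rfl⟩ := hsplit v
    rcases eq_or_ne u 0 with rfl | h0
    · exact Or.inr (Or.inl (by rwa [zero_add]))
    · rcases eq_or_ne l 0 with rfl | h1
      · exact Or.inl (by rwa [add_zero])
      · exact Or.inr (Or.inr ⟨u, hu, h0, l, hl, h1, rfl⟩)
  by_cases hstab : ∀ v, Root hB H v → v ∈ U ∨ v ∈ L
  · -- the stabiliser of the pair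
    have hperp : ∀ v, (∀ u ∈ U, B v u = 0) → v ∈ L := by
      intro v hv
      obtain ⟨u, hu, l, hl, rfl⟩ := hsplit v
      by_cases h0 : u = 0
      · rwa [h0, zero_add]
      obtain ⟨w, hw, hne'⟩ := comp_nd hB hab u hu h0
      refine absurd ?_ hne'
      have := hv w hw
      rwa [map_add, LinearMap.add_apply, hLU l hl w hw, add_zero] at this
    have haU : a ∉ U := fun h => by
      have := (mem_comp.1 h).2
      rw [hba] at this
      exact one_ne_zero (neg_eq_zero.1 this)
    have haL : a ∈ L := Submodule.subset_span (by simp)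
    have hUcard : Nat.card F * Nat.card F ≤ Nat.card U := by
      obtain ⟨w, hw, hne'⟩ := comp_nd hB hab u₀ hu₀ hu₀0
      rw [← Nat.card_prod]
      refine Nat.card_le_card_of_injective
        (fun p : F × F => (⟨p.1 • u₀ + p.2 • w, U.add_mem (U.smul_mem _ hu₀) (U.smul_mem _ hw)⟩ : U))
        fun p q e => ?_
      have e' := congrArg Subtype.val e
      dsimp only at e'
      have h1 := congrArg (fun v => B v w) e'
      have h2 := congrArg (fun v => B u₀ v) e'
      simp only [map_add, map_smul, LinearMap.add_apply, LinearMap.smul_apply, smul_eq_mul, hB.alt,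
        mul_zero, add_zero, zero_add] at h1 h2
      exact Prod.ext (mul_right_cancel₀ hne' h1) (mul_right_cancel₀ hne' h2)
    have hLcard : Nat.card L ≤ Nat.card F * Nat.card F := by
      rw [← Nat.card_prod]
      refine Nat.card_le_card_of_surjective (fun p : F × F => (⟨p.1 • a + p.2 • b,
        Submodule.mem_span_pair.2 ⟨_, _, rfl⟩⟩ : L)) ?_
      rintro ⟨l, hl⟩
      obtain ⟨s, t, rfl⟩ := Submodule.mem_span_pair.1 hl
      exact ⟨(s, t), rfl⟩
    -- images of the complement
    have himg : ∀ g ∈ H, U.map (g.1 : V →ₗ[F] V) = U ∨ U.map (g.1 : V →ₗ[F] V) = L := by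
      intro g hg
      have hc : Nat.card (U.map (g.1 : V →ₗ[F] V)) = Nat.card U :=
        Nat.card_congr (Submodule.equivMapOfInjective _ g.1.injective U).symm.toEquiv
      by_cases h1 : U.map (g.1 : V →ₗ[F] V) ≤ U
      · exact Or.inl (SetLike.ext' (Set.eq_of_subset_of_ncard_le h1 (by
          rw [← Nat.card_coe_set_eq, ← Nat.card_coe_set_eq]; exact hc.ge) (Set.toFinite _)))
      · right
        obtain ⟨x, hx, hxU⟩ := SetLike.not_le_iff_exists.1 h1
        have hr : ∀ y ∈ U.map (g.1 : V →ₗ[F] V), y ∈ U ∨ y ∈ L := by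
          rintro _ ⟨y, hy, rfl⟩
          exact hstab _ ((hroot y hy).map hB hg)
        have hle : U.map (g.1 : V →ₗ[F] V) ≤ L := by
          intro y hy
          rcases hr y hy with hyU | hyL
          · rcases hr _ (Submodule.add_mem _ hx hy) with h | h
            · exact absurd (by simpa using U.sub_mem h hyU) hxU
            · simpa using L.sub_mem h ((hr x hx).resolve_left hxU)
          · exact hyL
        refine SetLike.ext' (Set.eq_of_subset_of_ncard_le hle ?_ (Set.toFinite _))
        rw [← Nat.card_coe_set_eq, ← Nat.card_coe_set_eq]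
        exact hLcard.trans (hUcard.trans hc.ge)
    let S : Subgroup (Iso B) :=
      { carrier := {g | U.map (g.1 : V →ₗ[F] V) = U}
        one_mem' := Submodule.map_id U
        mul_mem' := fun {g h} hg hh => by
          show U.map ((g * h).1 : V →ₗ[F] V) = U
          rw [show ((g * h).1 : V →ₗ[F] V) = (g.1 : V →ₗ[F] V).comp (h.1 : V →ₗ[F] V) from rfl,
            Submodule.map_comp, show U.map (h.1 : V →ₗ[F] V) = U from hh,
            show U.map (g.1 : V →ₗ[F] V) = U from hg]
        inv_mem' := fun {g} hg => by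
          show U.map ((g⁻¹).1 : V →ₗ[F] V) = U
          conv_lhs => rw [← show U.map (g.1 : V →ₗ[F] V) = U from hg]
          rw [← Submodule.map_comp]
          convert Submodule.map_id U
          exact LinearMap.ext fun v => Iso.inv_apply' g v }
    have h2 : S.relIndex H ≤ 2 := by
      rw [Subgroup.relIndex, Subgroup.index, show (2 : ℕ) = Nat.card Bool by simp]
      refine Nat.card_le_card_of_injective
        (Quotient.lift (fun g : H => decide ((g : Iso B) ∈ S)) ?_) ?_
      · intro g h e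
        rw [← Quotient.eq_iff_equiv] at e
        have := QuotientGroup.eq.1 e
        rw [Subgroup.mem_subgroupOf, Subgroup.coe_mul, Subgroup.coe_inv] at this
        refine decide_eq_decide.2 ⟨fun hg => ?_, fun hh => ?_⟩
        · simpa using S.mul_mem hg this
        · simpa using S.mul_mem hh (S.inv_mem this)
      · rintro ⟨g⟩ ⟨h⟩ e
        refine QuotientGroup.eq.2 ?_
        rw [Subgroup.mem_subgroupOf, Subgroup.coe_mul, Subgroup.coe_inv]
        change decide _ = decide _ at e
        rw [decide_eq_decide] at e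
        by_cases hg : (g : Iso B) ∈ S
        · exact S.mul_mem (S.inv_mem hg) (e.1 hg)
        · have hg' := (himg _ g.2).resolve_left hg
          have hh' := (himg _ h.2).resolve_left fun hh => hg (e.2 hh)
          show U.map (((g : Iso B)⁻¹ * (h : Iso B)).1 : V →ₗ[F] V) = U
          rw [show (((g : Iso B)⁻¹ * (h : Iso B)).1 : V →ₗ[F] V)
            = (((g : Iso B)⁻¹).1 : V →ₗ[F] V).comp ((h : Iso B).1 : V →ₗ[F] V) from rfl,
            Submodule.map_comp, hh', ← hg', ← Submodule.map_comp]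
          convert Submodule.map_id U
          exact LinearMap.ext fun v => Iso.inv_apply' _ v
    have hind : S.index ≤ 2 * H.index := by
      have h3 : S.index ≤ (S ⊓ H).index := Nat.le_of_dvd
        (Nat.pos_of_ne_zero Subgroup.index_ne_zero_of_finite) (Subgroup.index_dvd_of_le inf_le_left)
      rw [← Subgroup.relIndex_mul_index (inf_le_right : S ⊓ H ≤ H), Subgroup.inf_relIndex_right] at h3
      exact h3.trans (Nat.mul_le_mul_right _ h2)
    have ha : a ≠ 0 := fun h => by simp [h] at hab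
    have hcount := index_mul_ge hB ha S ((L : Set V) \ {0}) ?_
      (fun x : U => (⟨R hB a (x : V) 0, R_fix hB x.2.1 0⟩ : Fix (B := B) a)) ?_
    · have hX : Nat.card ↥((L : Set V) \ {0}) = Nat.card L - 1 := by
        rw [Nat.card_coe_set_eq, Set.ncard_sdiff (by simp), Set.ncard_singleton,
          ← Nat.card_coe_set_eq]
        rfl
      rw [hX] at hcount
      unfold Big
      obtain ⟨k, hk⟩ : ∃ k, Nat.card F = k + 3 := ⟨Nat.card F - 3, by omega⟩
      rw [hk] at hUcard hLcard ⊢
      have h4 : (Nat.card V - 1) * ((k + 3) * (k + 3))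
          ≤ 2 * H.index * ((k + 3) * (k + 3) - 1) :=
        calc _ ≤ (Nat.card V - 1) * Nat.card U := Nat.mul_le_mul_left _ hUcard
          _ ≤ S.index * (Nat.card L - 1) := hcount
          _ ≤ _ := Nat.mul_le_mul hind (Nat.sub_le_sub_right hLcard 1)
      have h5 : 2 * (k + 4) ≤ (k + 3) * (k + 3) := by nlinarith
      have e : (k + 3) * (k + 3) - 1 = (k + 2) * (k + 4) := by
        rw [show (k + 3) * (k + 3) = (k + 2) * (k + 4) + 1 by ring, Nat.add_sub_cancel]
      rw [e] at h4
      rw [show k + 3 - 1 = k + 2 by omega]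
      have h6 := (Nat.mul_le_mul_left (Nat.card V - 1) h5).trans h4
      refine Nat.le_of_mul_le_mul_left (?_ : 2 * (k + 4) * (Nat.card V - 1) ≤ 2 * (k + 4) * ((k + 2) * H.index)) (Nat.mul_pos two_pos (Nat.succ_pos (k + 3)))
      calc 2 * (k + 4) * (Nat.card V - 1) = (Nat.card V - 1) * (2 * (k + 4)) := by ring
        _ ≤ _ := h6
        _ = 2 * (k + 4) * ((k + 2) * H.index) := by ring
    · intro g hg
      refine ⟨hperp _ fun u hu => ?_, fun h => ha (g.1.map_eq_zero_iff.1 h)⟩
      have hu' : u ∈ U.map (g.1 : V →ₗ[F] V) := by rw [show U.map _ = U from hg]; exact hu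
      obtain ⟨u', hu'', rfl⟩ := hu'
      show B (g.1 a) (g.1 u') = 0
      rw [Iso.map_form, hLU a haL u' hu'']
    · intro x y hS
      rw [R_inv hB x.2.1, R_mul hB (by simp [(mem_comp.1 x.2).1]) y.2.1] at hS
      have hd : B a (-(x : V) + y) = 0 := by simp [(mem_comp.1 x.2).1, (mem_comp.1 y.2).1]
      by_contra hxy
      have hne' : -(x : V) + y ≠ 0 := by
        rw [neg_add_eq_sub, sub_ne_zero]; exact fun e => hxy (Subtype.ext e.symm)
      obtain ⟨w, hw, hbw⟩ := comp_nd hB hab _ (U.add_mem (U.neg_mem x.2) y.2) hne'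
      have hmem : (R hB a (-(x : V) + y) (-0 + 0 + B (y : V) (-(x : V)))).1 w ∈ U := by
        have := Submodule.mem_map_of_mem (f := ((R hB a (-(x : V) + y)
          (-0 + 0 + B (y : V) (-(x : V)))).1 : V →ₗ[F] V)) hw
        rwa [show U.map _ = U from hS] at this
      rw [R_apply hB hd, hB.symm0 hw.1, zero_smul, add_zero, mul_zero, add_zero] at hmem
      have := U.sub_mem hmem hw
      rw [add_sub_cancel_left] at this
      refine haU ((Submodule.smul_mem_iff U ?_).1 this)
      rwa [hB.flip, neg_ne_zero]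
  · push Not at hstab
    obtain ⟨v, hv, hvU, hvL⟩ := hstab
    obtain ⟨u, hu, hu0, l, hl, hl0, rfl⟩ :=
      ((hdecomp v hv).resolve_left hvU).resolve_left hvL
    by_cases hall : ∀ x ∈ L, Root hB H x
    · exfalso
      refine hH (eq_top_of_roots _ hB le_rfl H fun w => ?_)
      obtain ⟨u', hu', l', hl', rfl⟩ := hsplit w
      by_cases h0 : u' = 0
      · rw [h0, zero_add]; exact hall _ hl'
      by_cases h1 : l' = 0
      · rw [h1, add_zero]; exact hroot _ hu'
      obtain ⟨k, hk, hkl, hku⟩ := exists_move hB L hall hLnd hl hl' hl0 h1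
      have h2 := (hmix u hu hu0 l hl hv u' hu' h0).map hB hk
      rwa [map_add, hkl, hku u' fun x hx => hUL u' hu' x hx] at h2
    · -- all roots are orthogonal to `l`
      have horth : ∀ w, Root hB H w → B w l = 0 := by
        intro w hw
        obtain ⟨u', hu', l', hl', rfl⟩ := hsplit w
        rw [map_add, LinearMap.add_apply, hUL u' hu' l hl, zero_add]
        by_contra hb
        apply hall
        by_cases h0 : u' = 0
        · rw [h0, zero_add] at hw
          exact hpm l' hl' l hl (by rwa [hB.flip, neg_ne_zero]) hw u hu hu0 hv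
        · exact hmm l' hl' l hl hb u' hu' h0 u hu hu0 hw hv
      refine big_of_le_Pt hB hl0 fun h hh => ?_
      have hperp' : ∀ w, Root hB H w → B (h.1 l) w = 0 := fun w hw => by
        have := horth _ (hw.map hB (H.inv_mem hh))
        rw [← Iso.map_form h, Iso.apply_inv] at this
        exact hB.symm0 this
      obtain ⟨u', hu', l', hl', he⟩ := hsplit (h.1 l)
      have hu'0 : u' = 0 := by
        by_contra h0
        obtain ⟨w, hw, hne'⟩ := comp_nd hB hab u' hu' h0
        have := hperp' w (hroot w hw)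
        rw [he, map_add, LinearMap.add_apply, hLU l' hl' w hw, add_zero] at this
        exact hne' this
      rw [hu'0, zero_add] at he
      have h3 : B l' l = 0 := by
        have := hperp' _ hv
        rwa [he, map_add, hLU l' hl' u hu, zero_add] at this
      have hl'0 : l' ≠ 0 := fun e => hl0 (h.1.map_eq_zero_iff.1 (by rw [he, e]))
      obtain ⟨z, hz, hne'⟩ := hLnd l hl hl0
      have h4 := hcoord l hl z hz hne' l'  hl'
      rw [hB.symm0 h3, zero_div, zero_smul, add_zero] at h4
      have hc : B l' z / B l z ≠ 0 := fun e => hl'0 (by rw [h4, e, zero_smul])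
      exact ⟨Units.mk0 _ hc, by rw [Units.val_mk0, he, ← h4]⟩

end Cfsg.Agent.Lib.MinIndexSp
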