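import Cfsg.Agent.Lib.MinIndexSp.Basic
import Cfsg.Agent.Lib.MinIndexSp.Count

/-!
# Minimal index in symplectic groups: the stabiliser of a point and its action
-/

set_option autoImplicit false
set_option linter.unusedSectionVars false
set_option linter.unusedSimpArgs false

namespace Cfsg.Agent.Lib.MinIndexSp

open LinearMap (BilinForm)

variable {F : Type*} [Field F] {V : Type*} [AddCommGroup V] [Module F V] {B : BilinForm F V}
variable (hB : Good B) {a b : V}

/-- The orthogonal complement of `a` and `b`. -/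
def comp (B : BilinForm F V) (a b : V) : Submodule F V := LinearMap.ker (B a) ⊓ LinearMap.ker (B b)

theorem mem_comp {v : V} : v ∈ comp B a b ↔ B a v = 0 ∧ B b v = 0 := Iff.rfl

/-- The restricted form. -/
def form (B : BilinForm F V) (a b : V) : BilinForm F (comp B a b) :=
  B.compl₁₂ (comp B a b).subtype (comp B a b).subtype

@[simp] theorem form_apply (u v : comp B a b) : form B a b u v = B (u : V) v := rfl

include hB in
theorem proj_mem (hab : B a b = 1) (v : V) : v - B a v • b - B v b • a ∈ comp B a b := by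
  rw [mem_comp]
  constructor
  · simp [hab, hB.alt]
  · simp [hB.alt, hB.flip a b, hab, hB.flip b v]

/-- Projection to the complement. -/
noncomputable def pr (hab : B a b = 1) : V →ₗ[F] comp B a b :=
  LinearMap.codRestrict _
    (LinearMap.id - (B a).smulRight b - ((B.flip b)).smulRight a) (fun v => proj_mem hB hab v)

theorem coe_pr (hab : B a b = 1) (v : V) :
    ((pr hB hab v : comp B a b) : V) = v - B a v • b - B v b • a := rfl

theorem pr_comp (hab : B a b = 1) (v : comp B a b) : pr hB hab (v : V) = v := by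
  have h : B a (v : V) = 0 ∧ B b (v : V) = 0 := v.2
  apply Subtype.ext
  rw [coe_pr, h.1, hB.symm0 h.2]
  simp

theorem pr_a (hab : B a b = 1) : pr hB hab a = 0 := by
  apply Subtype.ext; rw [coe_pr, hB.alt, hab]; simp

theorem form_good (hB : Good B) (hab : B a b = 1) : Good (form B a b) where
  alt v := hB.alt _
  nd v hv := by
    apply Subtype.ext
    refine hB.nd _ fun w => ?_
    have h : B a (v : V) = 0 ∧ B b (v : V) = 0 := v.2
    have h1 := hv (pr hB hab w)
    rw [form_apply, coe_pr] at h1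
    simpa [hB.symm0 h.1, hB.symm0 h.2] using h1

/-- The stabiliser of the point `a`. -/
def Pt (a : V) : Subgroup (Iso B) where
  carrier := {g | ∃ t : Fˣ, g.1 a = (t : F) • a}
  one_mem' := ⟨1, by simp⟩
  mul_mem' := fun {g h} ⟨s, hs⟩ ⟨t, ht⟩ => ⟨s * t, by
    rw [Iso.mul_apply, ht, map_smul, hs, smul_smul, mul_comm, Units.val_mul]⟩
  inv_mem' := fun {g} ⟨t, ht⟩ => ⟨t⁻¹, by
    have h := congrArg (g⁻¹).1 ht
    rw [Iso.inv_apply', map_smul] at h
    conv_rhs => rw [h]
    rw [smul_smul, Units.inv_mul, one_smul]⟩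

/-- The stabiliser of the vector `a`. -/
def Fix (a : V) : Subgroup (Iso B) where
  carrier := {g | g.1 a = a}
  one_mem' := rfl
  mul_mem' := fun {g h} hg hh => by
    show (g * h).1 a = a
    rw [Iso.mul_apply, show h.1 a = a from hh, show g.1 a = a from hg]
  inv_mem' := fun {g} hg => by
    show (g⁻¹).1 a = a
    conv_lhs => rw [← show g.1 a = a from hg]
    exact Iso.inv_apply' g a

/-- The radical of the stabiliser of `a`. -/
def Rad (hB : Good B) (a : V) : Subgroup (Iso B) where
  carrier := {g | g.1 a = a ∧ ∀ v, B a v = 0 → ∃ e : F, g.1 v = v + e • a}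
  one_mem' := ⟨rfl, fun v _ => ⟨0, by simp⟩⟩
  mul_mem' := fun {g h} hg hh => ⟨by rw [Iso.mul_apply, hh.1, hg.1], fun v hv => by
    obtain ⟨e, he⟩ := hh.2 v hv
    obtain ⟨d, hd⟩ := hg.2 v hv
    exact ⟨d + e, by rw [Iso.mul_apply, he, map_add, map_smul, hd, hg.1, add_smul]; abel⟩⟩
  inv_mem' := fun {g} hg => by
    have h1 : (g⁻¹).1 a = a := by
      conv_lhs => rw [← hg.1]
      exact Iso.inv_apply' g a
    refine ⟨h1, fun v hv => ?_⟩
    obtain ⟨e, he⟩ := hg.2 v hv
    refine ⟨-e, ?_⟩
    have h := congrArg (g⁻¹).1 he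
    rw [Iso.inv_apply', map_add, map_smul, h1] at h
    rw [neg_smul, ← sub_eq_add_neg, eq_sub_iff_add_eq]
    exact h.symm

include hB in
theorem R_mem_Rad {x : V} (hx : B a x = 0) (c : F) : R hB a x c ∈ Rad hB a :=
  ⟨R_fix hB hx c, fun v hv => ⟨B v x + c * B v a, by
    rw [R_apply hB hx, hB.symm0 hv]; simp⟩⟩

/-- The scalar by which an element of `Pt a` acts on `a`. -/
noncomputable def ptScalar (hab : B a b = 1) : Pt (B := B) a →* Fˣ where
  toFun g := g.2.choose
  map_one' := by
    have key : ∀ g : Pt (B := B) a, (g.2.choose : F) = B ((g : Iso B).1 a) b := fun g => by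
      conv_rhs => rw [g.2.choose_spec]
      simp [hab]
    apply Units.ext
    rw [key]
    simpa using hab
  map_mul' g h := by
    have key : ∀ g : Pt (B := B) a, (g.2.choose : F) = B ((g : Iso B).1 a) b := fun g => by
      conv_rhs => rw [g.2.choose_spec]
      simp [hab]
    apply Units.ext
    rw [key, Units.val_mul, key g, key h, Subgroup.coe_mul, Iso.mul_apply]
    obtain ⟨s, hs⟩ := g.2
    obtain ⟨t, ht⟩ := h.2
    rw [ht, map_smul, hs]
    simp [hab, mul_comm]

theorem ptScalar_spec (hab : B a b = 1) (g : Pt (B := B) a) :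
    (g : Iso B).1 a = (ptScalar hab g : F) • a := g.2.choose_spec

theorem ptScalar_eq (hab : B a b = 1) (g : Pt (B := B) a) {t : F}
    (h : (g : Iso B).1 a = t • a) : (ptScalar hab g : F) = t := by
  rw [ptScalar_spec hab] at h
  have := congrArg (fun w => B w b) h
  simpa [hab] using this

include hB in
theorem fix_perp {g : Iso B} (hg : g.1 a = a) {v : V} (hv : B a v = 0) : B a (g.1 v) = 0 := by
  rw [← hg, Iso.map_form, hv]

/-- The action of the stabiliser of `a` on the complement. -/
noncomputable def compHom (hab : B a b = 1) : Fix (B := B) a →* Iso (form B a b) :=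
  let L : Fix (B := B) a → comp B a b →ₗ[F] comp B a b := fun g =>
    (pr hB hab).comp (((g : Iso B).1 : V →ₗ[F] V).comp (comp B a b).subtype)
  have hmul : ∀ g h v, L g (L h v) = L (g * h) v := fun g h v => by
    show pr hB hab ((g : Iso B).1 ((pr hB hab ((h : Iso B).1 (v : V)) : comp B a b) : V)) = _
    rw [coe_pr, fix_perp hB h.2 v.2.1]
    simp only [zero_smul, sub_zero, map_sub, map_smul, show (g : Iso B).1 a = a from g.2, pr_a,
      smul_zero]
    rfl
  have hone : ∀ v, L 1 v = v := fun v => pr_comp hB hab v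
  { toFun := fun g =>
      ⟨LinearEquiv.ofLinearMap (L g) (L g⁻¹)
        (LinearMap.ext fun v => by
          rw [LinearMap.comp_apply, hmul, mul_inv_cancel, hone]; rfl)
        (LinearMap.ext fun v => by
          rw [LinearMap.comp_apply, hmul, inv_mul_cancel, hone]; rfl),
      fun u v => by
        show B ((pr hB hab ((g : Iso B).1 (u : V)) : comp B a b) : V)
          ((pr hB hab ((g : Iso B).1 (v : V)) : comp B a b) : V) = B (u : V) v
        rw [coe_pr, coe_pr, fix_perp hB g.2 u.2.1, fix_perp hB g.2 v.2.1]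
        simp only [zero_smul, sub_zero, map_sub, map_smul, LinearMap.sub_apply,
          LinearMap.smul_apply, hB.alt, smul_zero, fix_perp hB g.2 v.2.1,
          hB.symm0 (fix_perp hB g.2 u.2.1)]
        exact Iso.map_form _ _ _⟩
    map_one' := Iso.ext' fun v => hone v
    map_mul' := fun g h => Iso.ext' fun v => (hmul g h v).symm }

theorem compHom_apply (hab : B a b = 1) (g : Fix (B := B) a) (v : comp B a b) :
    ((compHom hB hab g).1 v) = pr hB hab ((g : Iso B).1 (v : V)) := rfl

/-- Extension of an isometry of the complement, scaling `a` by `t`. -/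
noncomputable def ext (hab : B a b = 1) (g : Iso (form B a b)) (t : Fˣ) : Iso B :=
  let L : Iso (form B a b) → Fˣ → V →ₗ[F] V := fun g t =>
    ((comp B a b).subtype.comp ((g.1 : comp B a b →ₗ[F] comp B a b).comp (pr hB hab)))
      + (B a).smulRight ((↑(t⁻¹) : F) • b) + (B.flip b).smulRight ((t : F) • a)
  have hL : ∀ g t v, L g t v = ((g.1 (pr hB hab v) : comp B a b) : V)
      + B a v • (↑(t⁻¹) : F) • b + B v b • (t : F) • a := fun _ _ _ => rfl
  have hcomp : ∀ g t v, L g⁻¹ t⁻¹ (L g t v) = v := fun g t v => by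
    have h2 : ∀ u : comp B a b, B a (u : V) = 0 ∧ B (u : V) b = 0 := fun u =>
      ⟨u.2.1, hB.symm0 u.2.2⟩
    have e1 : B a (L g t v) = B a v * (↑(t⁻¹) : F) := by
      simp [hL, (h2 _).1, hB.alt, hab]
    have e2 : B (L g t v) b = B v b * (t : F) := by
      simp [hL, (h2 _).2, hB.alt, hab]
    have e3 : pr hB hab (L g t v) = g.1 (pr hB hab v) := by
      apply Subtype.ext
      rw [coe_pr, e1, e2, hL]
      simp only [smul_smul]
      abel
    rw [hL, e3, Iso.inv_apply', e1, e2, coe_pr, inv_inv]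
    simp only [smul_smul, mul_assoc, Units.inv_mul, Units.mul_inv, mul_one]
    abel
  ⟨LinearEquiv.ofLinearMap (L g t) (L g⁻¹ t⁻¹)
    (LinearMap.ext fun v => by
      have := hcomp g⁻¹ t⁻¹ v
      rw [inv_inv, inv_inv] at this
      exact this)
    (LinearMap.ext fun v => hcomp g t v),
  fun u v => by
    show B (L g t u) (L g t v) = B u v
    have hg : B ((g.1 (pr hB hab u) : comp B a b) : V) ((g.1 (pr hB hab v) : comp B a b) : V)
        = B ((pr hB hab u : comp B a b) : V) ((pr hB hab v : comp B a b) : V) :=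
      Iso.map_form g (pr hB hab u) (pr hB hab v)
    have h2 : ∀ x : comp B a b, B a (x : V) = 0 ∧ B b (x : V) = 0 ∧ B (x : V) a = 0 ∧
      B (x : V) b = 0 := fun x => ⟨x.2.1, x.2.2, hB.symm0 x.2.1, hB.symm0 x.2.2⟩
    have hba : B b a = -1 := by rw [hB.flip a b, hab]
    rw [hL, hL]
    simp only [map_add, map_smul, LinearMap.add_apply, LinearMap.smul_apply, smul_eq_mul, hg,
      (h2 _).1, (h2 _).2.1, (h2 _).2.2.1, (h2 _).2.2.2, hB.alt, hab, hba, mul_zero, add_zero,
      zero_add]
    rw [coe_pr, coe_pr]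
    simp only [map_sub, map_smul, LinearMap.sub_apply, LinearMap.smul_apply, smul_eq_mul, hB.alt,
      hab, hba, hB.flip a v, hB.flip a u, hB.flip v b, hB.flip u b]
    have e1 : (t : F) * (↑(t⁻¹) : F) = 1 := by simp
    linear_combination (-(B a u) * B v b + B u b * B a v) * e1⟩

theorem ext_apply_a (hab : B a b = 1) (g : Iso (form B a b)) (t : Fˣ) :
    (ext hB hab g t).1 a = (t : F) • a := by
  show ((g.1 (pr hB hab a) : comp B a b) : V) + B a a • (↑(t⁻¹) : F) • b + B a b • (t : F) • a = _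
  simp [pr_a, hB.alt, hab]

theorem ext_apply_comp (hab : B a b = 1) (g : Iso (form B a b)) (t : Fˣ) (v : comp B a b) :
    (ext hB hab g t).1 (v : V) = (g.1 v : V) := by
  show ((g.1 (pr hB hab (v : V)) : comp B a b) : V) + B a (v : V) • (↑(t⁻¹) : F) • b
      + B (v : V) b • (t : F) • a = _
  rw [pr_comp, v.2.1, hB.symm0 v.2.2]
  simp

theorem ptScalar_surjective (hB : Good B) (hab : B a b = 1) :
    Function.Surjective (ptScalar (B := B) hab) := fun t =>
  ⟨⟨ext hB hab 1 t, t, ext_apply_a hB hab 1 t⟩,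
    Units.ext (ptScalar_eq hab _ (ext_apply_a hB hab 1 t))⟩

theorem compHom_surjective (hab : B a b = 1) : Function.Surjective (compHom hB hab) := fun g =>
  ⟨⟨ext hB hab g 1, show _ = a by rw [ext_apply_a]; simp⟩, Iso.ext' fun v => by
    rw [compHom_apply, ext_apply_comp, pr_comp]⟩

theorem ptScalar_ker (hab : B a b = 1) :
    (ptScalar (B := B) hab).ker = (Fix (B := B) a).subgroupOf (Pt a) := by
  ext g
  rw [MonoidHom.mem_ker, Subgroup.mem_subgroupOf]
  constructor
  · intro h
    show (g : Iso B).1 a = a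
    rw [ptScalar_spec hab g, h]; simp
  · intro h
    exact Units.ext (ptScalar_eq hab g (by rw [show (g : Iso B).1 a = a from h]; simp))

theorem compHom_ker (hab : B a b = 1) :
    (compHom hB hab).ker = (Rad hB a).subgroupOf (Fix a) := by
  ext g
  rw [MonoidHom.mem_ker, Subgroup.mem_subgroupOf]
  constructor
  · intro h
    refine ⟨g.2, fun v hv => ?_⟩
    have h1 : pr hB hab ((g : Iso B).1 ((pr hB hab v : comp B a b) : V)) = pr hB hab v := by
      rw [← compHom_apply, h]; rfl
    have h2 := congrArg Subtype.val h1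
    rw [coe_pr, coe_pr, hv] at h2
    simp only [zero_smul, sub_zero, map_sub, map_smul, show (g : Iso B).1 a = a from g.2] at h2
    refine ⟨B ((g : Iso B).1 v) b - B v b, ?_⟩
    simp only [hB.alt, hab, LinearMap.sub_apply, LinearMap.smul_apply, smul_eq_mul, mul_zero,
      mul_one, sub_zero, fix_perp hB g.2 hv, zero_smul] at h2
    rw [← sub_eq_zero] at h2 ⊢
    rw [← h2]
    module
  · intro h
    refine Iso.ext' fun v => ?_
    obtain ⟨e, he⟩ := h.2 _ v.2.1
    rw [compHom_apply, he, map_add, map_smul, pr_a, smul_zero, add_zero, pr_comp]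
    rfl

variable (H : Subgroup (Iso B))

/-- The vectors `x` occurring in `H ∩ Rad a`. -/
def Wt (a : V) : AddSubgroup V where
  carrier := {x | B a x = 0 ∧ ∃ c, R hB a x c ∈ H}
  zero_mem' := ⟨map_zero _, 0, by rw [R_zero]; exact H.one_mem⟩
  add_mem' := fun {x y} ⟨hx, c, hc⟩ ⟨hy, d, hd⟩ =>
    ⟨by rw [map_add, hx, hy, add_zero], c + d + B y x, by
      rw [← R_mul hB hx hy]; exact H.mul_mem hc hd⟩
  neg_mem' := fun {x} ⟨hx, c, hc⟩ =>
    ⟨by rw [map_neg, hx, neg_zero], -c, by rw [← R_inv hB hx]; exact H.inv_mem hc⟩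

/-- The part of `Wt` in the complement. -/
def W (a b : V) : AddSubgroup V := Wt hB H a ⊓ (comp B a b).toAddSubgroup

/-- The scalars of the transvections at `a` in `H`. -/
def Z0 (a : V) : AddSubgroup F where
  carrier := {c | T hB a c ∈ H}
  zero_mem' := by show T hB a 0 ∈ H; rw [T_zero]; exact H.one_mem
  add_mem' := fun {c d} hc hd => by show T hB a (c + d) ∈ H; rw [T_add]; exact H.mul_mem hc hd
  neg_mem' := fun {c} hc => by show T hB a (-c) ∈ H; rw [← T_inv]; exact H.inv_mem hc

theorem Z0_ne_top (ha : ¬ Root hB H a) : Z0 hB H a ≠ ⊤ := fun h => ha fun c =>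
  show c ∈ Z0 hB H a from h ▸ AddSubgroup.mem_top c

/-- The image of `H` on the complement. -/
noncomputable def M (hab : B a b = 1) : Subgroup (Iso (form B a b)) :=
  (H.subgroupOf (Fix a)).map (compHom hB hab)

/-- The scalars by which `H` acts on `a`. -/
noncomputable def D (hab : B a b = 1) : Subgroup Fˣ := (H.subgroupOf (Pt a)).map (ptScalar hab)

variable [Finite F] [Finite V]

instance : Finite (Iso B) := Finite.of_injective (fun g : Iso B => (g.1 : V → V))
  fun _ _ h => Subtype.ext (DFunLike.coe_injective h)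

theorem card_Rad (hab : B a b = 1) :
    Nat.card (Rad hB a) = Nat.card (comp B a b) * Nat.card F := by
  rw [← Nat.card_prod]
  refine (Nat.card_eq_of_bijective
    (fun p : comp B a b × F => (⟨R hB a (p.1 : V) p.2, R_mem_Rad hB p.1.2.1 p.2⟩ : Rad hB a))
    ⟨?_, ?_⟩).symm
  · rintro ⟨x, c⟩ ⟨y, d⟩ e
    obtain ⟨h1, h2⟩ := R_inj hB hab x.2.1 y.2.1 x.2.2 y.2.2 (congrArg Subtype.val e :)
    exact Prod.ext (Subtype.ext h1) h2
  · rintro ⟨g, hga, hg⟩
    obtain ⟨x, c, hx, hxb, he⟩ := eq_R hB hab g hga hg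
    exact ⟨(⟨x, hx, hxb⟩, c), Subtype.ext he.symm⟩

theorem card_inf_Rad (hab : B a b = 1) :
    Nat.card (H ⊓ Rad hB a : Subgroup (Iso B)) = Nat.card (W hB H a b) * Nat.card (Z0 hB H a) := by
  have hW : ∀ x : W hB H a b, B a (x : V) = 0 := fun x => x.2.2.1
  choose φ hφ using fun x : W hB H a b => x.2.1.2
  rw [← Nat.card_prod]
  refine (Nat.card_eq_of_bijective (fun p : W hB H a b × Z0 hB H a =>
    (⟨R hB a (p.1 : V) (φ p.1 + p.2), ?_, R_mem_Rad hB (hW _) _⟩ :
      (H ⊓ Rad hB a : Subgroup (Iso B)))) ⟨?_, ?_⟩).symm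
  · have e : R hB a (p.1 : V) (φ p.1 + p.2) = R hB a (p.1 : V) (φ p.1) * T hB a (p.2 : F) := by
      rw [← R_zero_eq_T, R_mul hB (hW _) (map_zero _)]
      simp
    rw [e]
    exact H.mul_mem (hφ _) p.2.2
  · rintro ⟨x, c⟩ ⟨y, d⟩ e
    obtain ⟨h1, h2⟩ := R_inj hB hab (hW x) (hW y) x.2.2.2 y.2.2.2 (congrArg Subtype.val e :)
    obtain rfl : x = y := Subtype.ext h1
    exact Prod.ext rfl (Subtype.ext (add_left_cancel h2))
  · rintro ⟨g, hgH, hga, hg⟩
    obtain ⟨x, c, hx, hxb, rfl⟩ := eq_R hB hab g hga hg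
    let x' : W hB H a b := ⟨x, ⟨hx, c, hgH⟩, hx, hxb⟩
    have hz : c - φ x' ∈ Z0 hB H a := by
      show T hB a _ ∈ H
      have := H.mul_mem (H.inv_mem (hφ x')) hgH
      rw [R_inv hB hx, R_mul hB (by simp [hx]) hx] at this
      rw [← R_zero_eq_T]
      simpa [x', hB.alt, neg_add_eq_sub] using this
    exact ⟨(x', ⟨_, hz⟩), Subtype.ext (by simp [x'])⟩

theorem card_Wt (hab : B a b = 1) :
    Nat.card (Wt hB H a) = Nat.card (W hB H a b) * Nat.card F := by
  have hshift : ∀ x ∈ Wt hB H a, ∀ d : F, x + d • a ∈ Wt hB H a := by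
    rintro x ⟨hx, c, hc⟩ d
    refine ⟨by simp [hx, hB.alt], c - 2 * d, ?_⟩
    rwa [R_shift hB hx, sub_add_cancel]
  rw [← Nat.card_prod]
  refine (Nat.card_eq_of_bijective (fun p : W hB H a b × F =>
    (⟨(p.1 : V) + p.2 • a, hshift _ p.1.2.1 _⟩ : Wt hB H a)) ⟨?_, ?_⟩).symm
  · rintro ⟨x, c⟩ ⟨y, d⟩ e
    have e' := congrArg Subtype.val e
    dsimp only at e'
    have h1 := congrArg (fun w => B b w) e'
    have hx0 : B b (x : V) = 0 := (x.2.2 : B a (x : V) = 0 ∧ B b (x : V) = 0).2
    have hy0 : B b (y : V) = 0 := (y.2.2 : B a (y : V) = 0 ∧ B b (y : V) = 0).2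
    simp only [map_add, map_smul, hx0, hy0, hB.flip a b, hab, smul_eq_mul, zero_add] at h1
    obtain rfl : c = d := by linear_combination -h1
    exact Prod.ext (Subtype.ext (add_right_cancel e')) rfl
  · rintro ⟨x, hx⟩
    refine ⟨(⟨x + B b x • a, hshift x hx _, ?_⟩, -(B b x)), Subtype.ext ?_⟩
    · show B a _ = 0 ∧ B b _ = 0
      simp [hx.1, hB.alt, hB.flip a b, hab]
    · show x + B b x • a + -(B b x) • a = x
      module

/-- The orbit bound. -/
theorem index_ge (hab : B a b = 1) :
    (D H hab).index * (M hB H hab).index * (Nat.card (comp B a b) * Nat.card F)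
      ≤ H.index * (Nat.card (W hB H a b) * Nat.card (Z0 hB H a)) := by
  have h1 : H.relIndex (Pt a) = (D H hab).index * H.relIndex (Fix a) := by
    have h := index_of_hom (ptScalar hab) (H.subgroupOf (Pt (B := B) a))
    rw [MonoidHom.range_eq_top.2 (ptScalar_surjective hB hab), Subgroup.index_top, mul_one,
      ptScalar_ker hab, Subgroup.relIndex_subgroupOf] at h
    · exact h
    · exact fun g (hg : g.1 a = a) => ⟨1, by simpa using hg⟩
  have h2 : H.relIndex (Fix a) = (M hB H hab).index * H.relIndex (Rad hB a) := by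
    have h := index_of_hom (compHom hB hab) (H.subgroupOf (Fix (B := B) a))
    rw [MonoidHom.range_eq_top.2 (compHom_surjective hB hab), Subgroup.index_top, mul_one,
      compHom_ker hB hab, Subgroup.relIndex_subgroupOf] at h
    · exact h
    · exact fun g hg => hg.1
  have h3 : H.relIndex (Rad hB a) * Nat.card (H ⊓ Rad hB a : Subgroup (Iso B))
      = Nat.card (Rad hB a) := by
    rw [← Subgroup.inf_relIndex_right H (Rad hB a), Subgroup.relIndex, mul_comm,
      ← Nat.card_congr (Subgroup.subgroupOfEquivOfLe (inf_le_right : H ⊓ Rad hB a ≤ _)).toEquiv]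
    exact Subgroup.card_mul_index _
  have h4 : H.relIndex (Pt a) ≤ H.index := by
    rw [← Subgroup.relIndex_top_right]
    exact Subgroup.relIndex_le_of_le_right le_top (Subgroup.index_ne_zero_of_finite)
  rw [← card_Rad hB hab, ← card_inf_Rad hB H hab, ← h3]
  calc _ = H.relIndex (Pt a) * Nat.card (H ⊓ Rad hB a : Subgroup (Iso B)) := by rw [h1, h2]; ring
    _ ≤ _ := Nat.mul_le_mul_right _ h4

end Cfsg.Agent.Lib.MinIndexSp
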