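import Cfsg.Agent.Lib.MinIndexSp.Four
import Cfsg.Agent.Lib.Forms.Bridge

/-!
# Minimal index in symplectic groups: induction and transfer to matrices
-/

set_option autoImplicit false
set_option linter.unusedSectionVars false
set_option linter.unusedSimpArgs false

namespace Cfsg.Agent.Lib.MinIndexSp

open LinearMap (BilinForm)
open Matrix

/-- The induction. -/
theorem min_index.{u, w} {F : Type u} [Field F] [Finite F] (hq : 3 ≤ Nat.card F) :
    ∀ (n : ℕ) {V : Type w} [AddCommGroup V] [Module F V] [Finite V] {B : BilinForm F V}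
      (_ : Good B), Nat.card V ≤ n → Nat.card F ^ 4 ≤ Nat.card V → ∀ H : Subgroup (Iso B), H ≠ ⊤ →
      2 * Nat.card V ≤ 3 * ((Nat.card F - 1) * H.index) ∧
      ((2 : F) = 0 → Nat.card V - 1 ≤ (Nat.card F - 1) * H.index) ∧
      ((Nat.card F = 3 → Nat.card F ^ 6 ≤ Nat.card V) → Big H) := by
  intro n
  induction n with
  | zero =>
    intro V _ _ _ B hB hn
    have : 0 < Nat.card V := Nat.card_pos
    omega
  | succ n ih =>
    intro V _ _ _ B hB hn hV H hH
    obtain ⟨a, b, hab, ha⟩ := exists_nonroot hB hH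
    have hV81 : 3 ^ 4 ≤ Nat.card V := le_trans (Nat.pow_le_pow_left hq 4) hV
    have key : Big H → 2 * Nat.card V ≤ 3 * ((Nat.card F - 1) * H.index) ∧
        ((2 : F) = 0 → Nat.card V - 1 ≤ (Nat.card F - 1) * H.index) ∧
        ((Nat.card F = 3 → Nat.card F ^ 6 ≤ Nat.card V) → Big H) := fun h => by
      have h' : Nat.card V - 1 ≤ (Nat.card F - 1) * H.index := h
      exact ⟨by omega, fun _ => h', fun _ => h⟩
    have hc := card_eq_comp hB hab
    rcases card_comp_cases hB hab with hS | hS | hS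
    · exfalso
      rw [hc, hS, one_mul, show Nat.card F * Nat.card F = Nat.card F ^ 2 by ring] at hV
      have := Nat.pow_lt_pow_right (show 1 < Nat.card F by omega) (show 2 < 4 by norm_num)
      omega
    · obtain ⟨h4, h3⟩ := four hB hH hq hab hS
      by_cases h : 4 ≤ Nat.card F
      · exact key (h4 h)
      · have hq3 : Nat.card F = 3 := by omega
        have h27 := h3 hq3
        rw [hc, hS, hq3]
        refine ⟨by omega, fun h2 => ?_, fun h6 => absurd (h6 rfl) (by norm_num)⟩
        exfalso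
        have : CharP F 2 := CharTwo.of_one_ne_zero_of_two_eq_zero one_ne_zero h2
        have := Fintype.ofFinite F
        obtain ⟨k, hk⟩ := FiniteField.card F 2
        rw [Nat.card_eq_fintype_card, hk.2] at hq3
        have : 2 ∣ 2 ^ (k : ℕ) := dvd_pow_self 2 k.pos.ne'
        omega
    · refine key (step hB hH hab hq ha hS fun {c d} hcd H' hH' => ?_)
      have h1 := ih (form_good hB hcd)
        (by have := card_comp_lt hB hcd; omega)
        (le_of_le_of_eq hS (card_comp_eq hB hab hcd)) H' hH'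
      exact ⟨h1.1, h1.2.1⟩

variable {F : Type*} [Field F] {m : ℕ}

open Cfsg.Agent.Lib.Forms (sympBilin sympBilin_apply sympBilin_isAlt sympBilin_goodForm)

theorem sympBilin_good : Good (sympBilin m F) :=
  ⟨fun v => sympBilin_isAlt v, fun v hv => sympBilin_goodForm.nondeg v hv⟩

/-- Symplectic matrices as isometries. -/
noncomputable def spHom (m : ℕ) (F : Type*) [Field F] :
    Matrix.symplecticGroup (Fin m) F →* Iso (sympBilin m F) where
  toFun g :=
    ⟨LinearEquiv.ofLinearMap (Matrix.toLin' (g : Matrix (Fin m ⊕ Fin m) (Fin m ⊕ Fin m) F))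
      (Matrix.toLin' ((g⁻¹ : Matrix.symplecticGroup (Fin m) F) :
        Matrix (Fin m ⊕ Fin m) (Fin m ⊕ Fin m) F))
      (by rw [← Matrix.toLin'_mul, ← Submonoid.coe_mul, mul_inv_cancel]; exact Matrix.toLin'_one)
      (by rw [← Matrix.toLin'_mul, ← Submonoid.coe_mul, inv_mul_cancel]; exact Matrix.toLin'_one),
    fun u v => by
      show sympBilin m F (Matrix.toLin' _ u) (Matrix.toLin' _ v) = _
      rw [Matrix.toLin'_apply, Matrix.toLin'_apply, sympBilin_apply, sympBilin_apply]
      exact Cfsg.Agent.Lib.Forms.mem_symplecticGroup_iff_preserves.1 g.2 u v⟩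
  map_one' := Iso.ext' fun v => by
    show Matrix.toLin' (1 : Matrix (Fin m ⊕ Fin m) (Fin m ⊕ Fin m) F) v = v
    simp
  map_mul' g h := Iso.ext' fun v => by
    show Matrix.toLin' ((g : Matrix (Fin m ⊕ Fin m) (Fin m ⊕ Fin m) F) * (h : Matrix (Fin m ⊕ Fin m) (Fin m ⊕ Fin m) F)) v
      = Matrix.toLin' (g : Matrix (Fin m ⊕ Fin m) (Fin m ⊕ Fin m) F)
          (Matrix.toLin' (h : Matrix (Fin m ⊕ Fin m) (Fin m ⊕ Fin m) F) v)
    rw [Matrix.toLin'_mul, LinearMap.comp_apply]

theorem spHom_bijective : Function.Bijective (spHom m F) := by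
  refine ⟨fun g h e => Subtype.ext (Matrix.toLin'.injective (LinearMap.ext fun v =>
    congrArg (fun f : Iso (sympBilin m F) => f.1 v) e)), fun f => ?_⟩
  refine ⟨⟨LinearMap.toMatrix' (f.1 : (Fin m ⊕ Fin m → F) →ₗ[F] (Fin m ⊕ Fin m → F)), ?_⟩,
    Iso.ext' fun v => ?_⟩
  · rw [Cfsg.Agent.Lib.Forms.mem_symplecticGroup_iff_preserves]
    intro u v
    rw [← Matrix.toLin'_apply, ← Matrix.toLin'_apply, Matrix.toLin'_toMatrix', ← sympBilin_apply,
      ← sympBilin_apply]
    exact f.2 u v
  · show Matrix.toLin' (LinearMap.toMatrix' _) v = f.1 v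
    rw [Matrix.toLin'_toMatrix']
    rfl

/-- The bridge. -/
noncomputable def spEquiv (m : ℕ) (F : Type*) [Field F] :
    Matrix.symplecticGroup (Fin m) F ≃* Iso (sympBilin m F) :=
  MulEquiv.ofBijective (spHom m F) spHom_bijective

/-- Central isometries fix every point. -/
theorem central_le_Pt {V : Type*} [AddCommGroup V] [Module F V] {B : BilinForm F V} (hB : Good B)
    {g : Iso B} (hg : ∀ h : Iso B, g * h = h * g) {a : V} (ha : a ≠ 0) : g ∈ Pt (B := B) a := by
  obtain ⟨b, hab⟩ := hB.exists_one ha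
  have h := T_conj hB g a 1
  rw [hg, mul_inv_cancel_right] at h
  have h2 := congrArg (fun f : Iso B => f.1 b) h
  rw [T_apply, T_apply, one_mul, one_mul, add_right_inj, hB.flip a b, hab] at h2
  have hne : B b (g.1 a) ≠ 0 := fun e => ha (by rw [e, zero_smul] at h2; simpa using h2)
  refine ⟨Units.mk0 (-1 / B b (g.1 a)) (div_ne_zero (neg_ne_zero.2 one_ne_zero) hne), ?_⟩
  rw [Units.val_mk0, div_eq_inv_mul, mul_smul, h2, smul_smul, inv_mul_cancel₀ hne, one_smul]

variable [Fintype F]

theorem card_sympSpace : Nat.card (Fin m ⊕ Fin m → F) = Nat.card F ^ (2 * m) := by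
  rw [Nat.card_fun, Nat.card_sum, Nat.card_fin, two_mul]

/-- The lower bound for the projective group. -/
theorem psp_index_ge (hm : 2 ≤ m) (hq : 3 ≤ Nat.card F) (h63 : Nat.card F = 3 → 3 ≤ m)
    (H : Subgroup (Cfsg.PSp m F)) (hH : H ≠ ⊤) :
    Nat.card F ^ (2 * m) - 1 ≤ (Nat.card F - 1) * H.index := by
  let π := QuotientGroup.mk' (Subgroup.center (Matrix.symplecticGroup (Fin m) F))
  have hπ : Function.Surjective π := QuotientGroup.mk'_surjective _
  let H' : Subgroup (Iso (sympBilin m F)) :=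
    (H.comap π).comap (spEquiv m F).symm.toMonoidHom
  have hi : H'.index = H.index := by
    rw [Subgroup.index_comap_of_surjective _ (spEquiv m F).symm.surjective,
      Subgroup.index_comap_of_surjective _ hπ]
  have hne : H' ≠ ⊤ := fun e => hH (Subgroup.index_eq_one.1 (by rw [← hi, e, Subgroup.index_top]))
  have hge : ∀ k, k ≤ 2 * m → Nat.card F ^ k ≤ Nat.card (Fin m ⊕ Fin m → F) := fun k hk => by
    rw [card_sympSpace]; exact Nat.pow_le_pow_right (by omega) hk
  have h := ((min_index hq _ (sympBilin_good (m := m) (F := F)) le_rfl (hge 4 (by omega)) H' hne).2.2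
    fun h => hge 6 (by have := h63 h; omega))
  unfold Big at h
  rwa [card_sympSpace, hi] at h

/-- The point stabiliser. -/
theorem psp_index_point (hm : 1 ≤ m) : ∃ H : Subgroup (Cfsg.PSp m F),
    (Nat.card F - 1) * H.index = Nat.card F ^ (2 * m) - 1 := by
  let a : Fin m ⊕ Fin m → F := Pi.single (Sum.inl ⟨0, hm⟩) 1
  have ha : a ≠ 0 := fun h => (one_ne_zero : (1 : F) ≠ 0) (by
    have := congrFun h (Sum.inl ⟨0, hm⟩)
    simpa [a] using this)
  let P : Subgroup (Matrix.symplecticGroup (Fin m) F) :=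
    (Pt (B := sympBilin m F) a).comap (spEquiv m F).toMonoidHom
  have hc : Subgroup.center (Matrix.symplecticGroup (Fin m) F) ≤ P := fun g hg => by
    refine central_le_Pt sympBilin_good (fun h => ?_) ha
    obtain ⟨h', rfl⟩ := (spEquiv m F).surjective h
    show spEquiv m F g * spEquiv m F h' = spEquiv m F h' * spEquiv m F g
    rw [← map_mul, ← map_mul, Subgroup.mem_center_iff.1 hg h']
  refine ⟨P.map (QuotientGroup.mk' _), ?_⟩
  rw [Subgroup.index_map_eq _ (QuotientGroup.mk'_surjective _) (by rwa [QuotientGroup.ker_mk']),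
    show P.index = (Pt (B := sympBilin m F) a).index from
      Subgroup.index_comap_of_surjective _ (spEquiv m F).surjective,
    index_Pt sympBilin_good ha, card_sympSpace]

end Cfsg.Agent.Lib.MinIndexSp
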