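import Cfsg.Agent.Lib.MinIndexSp.Sizes

/-!
# Minimal index in symplectic groups over two elements: quadratic forms polarising to the form
-/

set_option autoImplicit false
set_option linter.unusedSectionVars false
set_option linter.unusedSimpArgs false

namespace Cfsg.Agent.Lib.MinIndexSp

open LinearMap (BilinForm)

variable {F : Type*} [Field F] [Finite F] (hF : Nat.card F = 2)
include hF

theorem two_elem (x : F) : x = 0 ∨ x = 1 := by
  by_contra h
  push Not at h
  have hle : Nat.card (Fin 3) ≤ Nat.card F := by
    refine Nat.card_le_card_of_injective ![0, 1, x] fun i j e => ?_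
    fin_cases i <;> fin_cases j <;> simp [h.1.symm, h.2.symm, h.1, h.2] at e ⊢
  rw [Nat.card_fin, hF] at hle
  omega

theorem two_zero : (2 : F) = 0 := by
  rcases two_elem hF (2 : F) with h | h
  · exact h
  · exfalso; exact one_ne_zero (show (1 : F) = 0 by linear_combination h)

theorem add_self_two (x : F) : x + x = 0 := by rw [← two_mul, two_zero hF, zero_mul]

theorem eq_one_of_ne {x : F} (h : x ≠ 0) : x = 1 := (two_elem hF x).resolve_left h

variable {V : Type*} [AddCommGroup V] [Module F V] {B : BilinForm F V}

theorem vec_add_self (x : V) : x + x = 0 := by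
  rw [← two_smul F, two_zero hF, zero_smul]

theorem vec_neg (x : V) : -x = x := neg_eq_of_add_eq_zero_left (vec_add_self hF x)

variable (hB : Good B)
include hB

theorem form_comm_two (u v : V) : B u v = B v u := by
  rw [hB.flip v u, neg_eq_iff_add_eq_zero, add_self_two hF]

omit hF hB in
/-- The stabiliser of a function on the space. -/
def OFix (B : BilinForm F V) (f : V → F) : Subgroup (Iso B) where
  carrier := {g | ∀ x, f (g.1 x) = f x}
  one_mem' := fun _ => rfl
  mul_mem' := fun {g h} hg hh x => by rw [Iso.mul_apply, hg, hh]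
  inv_mem' := fun {g} hg x => by
    have := hg ((g⁻¹).1 x)
    rw [Iso.apply_inv] at this
    exact this.symm

omit hF hB in
/-- A quadratic form with polar form `B`. -/
def IsQuad (B : BilinForm F V) (f : V → F) : Prop := ∀ u v, f (u + v) = f u + f v + B u v

variable {f : V → F}

theorem IsQuad.map_zero' (hf : IsQuad B f) : f 0 = 0 := by
  have h := hf 0 0
  rw [add_zero, map_zero, add_zero, add_self_two hF] at h
  exact h

theorem IsQuad.shift (hf : IsQuad B f) (c : V) : IsQuad B fun x => f x + B c x := by
  intro u v
  show f (u + v) + B c (u + v) = _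
  rw [hf, map_add]; ring

theorem IsQuad.shift_apply (hf : IsQuad B f) (c x : V) : f x + B c x = f (x + c) + f c := by
  rw [hf, form_comm_two hF hB x c]
  linear_combination (f c) * (-(two_zero hF))

/-- A transvection shifts the form. -/
theorem IsQuad.apply_T (hf : IsQuad B f) {c : V} (hc : f c = 0) (x : V) :
    f ((T hB c 1).1 x) = f x + B c x := by
  rw [T_apply, one_mul]
  rcases two_elem hF (B x c) with h | h
  · rw [h, zero_smul, add_zero, form_comm_two hF hB c x, h, add_zero]
  · rw [h, one_smul, hf, hc, add_zero, h, form_comm_two hF hB c x, h]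

variable [Finite V]

theorem dual_surj (l : V →ₗ[F] F) : ∃ c : V, ∀ x, B c x = l x := by
  have hinj : Function.Injective (B : V →ₗ[F] V →ₗ[F] F) := by
    intro u v e
    rw [← sub_eq_zero]
    exact hB.nd _ fun w => by rw [map_sub, LinearMap.sub_apply, e, sub_self]
  obtain ⟨c, hc⟩ := (LinearMap.injective_iff_surjective_of_finrank_eq_finrank
    Subspace.dual_finrank_eq.symm).1 hinj l
  exact ⟨c, fun x => by rw [hc]⟩

/-- The square of the Gauss sum. -/
theorem IsQuad.zeros_bound (hf : IsQuad B f) {s : ℕ} (hs : s * s = Nat.card V) :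
    Nat.card {x // f x = 0} + Nat.card {x // f x = 1} = Nat.card V ∧
    (Nat.card {x // f x = 0} + s = Nat.card {x // f x = 1} ∨
      Nat.card {x // f x = 1} + s = Nat.card {x // f x = 0}) := by
  classical
  have := Fintype.ofFinite V
  let χ : F → ℤ := fun z => if z = 0 then 1 else -1
  have hχ : ∀ y z, χ (y + z) = χ y * χ z := by
    intro y z
    rcases two_elem hF y with rfl | rfl <;> rcases two_elem hF z with rfl | rfl <;>
      simp [χ, add_self_two hF]
  set n0 := Nat.card {x // f x = 0}
  set n1 := Nat.card {x // f x = 1}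
  have e0 : n0 = (Finset.univ.filter fun x => f x = 0).card := by
    simp only [n0, Nat.card_eq_fintype_card, Fintype.card_subtype]
  have e1 : n1 = (Finset.univ.filter fun x => ¬ f x = 0).card := by
    simp only [n1, Nat.card_eq_fintype_card, Fintype.card_subtype]
    congr 1
    ext x
    simp only [Finset.mem_filter, Finset.mem_univ, true_and]
    exact ⟨fun h => by rw [h]; exact one_ne_zero, fun h => eq_one_of_ne hF h⟩
  have hsum : n0 + n1 = Nat.card V := by
    rw [e0, e1, Finset.card_filter_add_card_filter_not, Finset.card_univ,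
      Nat.card_eq_fintype_card]
  refine ⟨hsum, ?_⟩
  have hS : ∑ x, χ (f x) = (n0 : ℤ) - n1 := by
    simp only [χ, Finset.sum_ite, Finset.sum_const, e0, e1]
    simp [sub_eq_add_neg]
  have hsq : (∑ x, χ (f x)) * (∑ x, χ (f x)) = (Nat.card V : ℤ) := by
    rw [Finset.sum_mul_sum]
    calc ∑ u, ∑ v, χ (f u) * χ (f v) = ∑ u, ∑ d, χ (f d) * χ (B u d) := by
          refine Finset.sum_congr rfl fun u _ => ?_
          rw [← Equiv.sum_comp (Equiv.addLeft u) fun v => χ (f u) * χ (f v)]
          refine Finset.sum_congr rfl fun d _ => ?_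
          rw [← hχ, ← hχ, Equiv.coe_addLeft, hf, ← add_assoc, ← add_assoc, add_self_two hF,
            zero_add]
      _ = ∑ d, χ (f d) * ∑ u, χ (B u d) := by
          rw [Finset.sum_comm]; simp only [Finset.mul_sum]
      _ = _ := by
          rw [Finset.sum_eq_single (0 : V)]
          · rw [hf.map_zero' hF hB]
            simp [χ, Nat.card_eq_fintype_card]
          · intro d _ hd
            obtain ⟨w, hw⟩ := hB.exists_ne hd
            have hw' : B w d = 1 := eq_one_of_ne hF (by rwa [form_comm_two hF hB])
            have h := Equiv.sum_comp (Equiv.addLeft w) fun u => χ (B u d)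
            simp only [Equiv.coe_addLeft, map_add, LinearMap.add_apply, hw', hχ,
              ← Finset.mul_sum] at h
            rw [show χ 1 = -1 by simp [χ]] at h
            rw [show ∑ u, χ (B u d) = 0 by linarith, mul_zero]
          · simp
  rw [hS, ← hs, Nat.cast_mul] at hsq
  rcases mul_self_eq_mul_self_iff.1 hsq with h | h
  · right; omega
  · left; omega

theorem IsQuad.many_zeros (hf : IsQuad B f) {s : ℕ} (hs : s * s = Nat.card V) :
    Nat.card V ≤ 2 * Nat.card {x // f x = 0} + s := by
  obtain ⟨h1, h2⟩ := hf.zeros_bound hF hB hs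
  omega

/-- The transvections at zeros of `f` are inequivalent modulo its stabiliser. -/
theorem IsQuad.zeros_le (hf : IsQuad B f) :
    Nat.card {x // f x = 0} ≤ (OFix B f).index := by
  refine Nat.card_le_card_of_injective
    (fun c => (QuotientGroup.mk (T hB (c : V) 1) : Iso B ⧸ OFix B f)) fun c d e => ?_
  have h := QuotientGroup.eq.1 e
  refine Subtype.ext (sub_eq_zero.1 (hB.nd _ fun x => ?_))
  have h1 := h ((T hB (d : V) 1).1 x)
  rw [Iso.mul_apply, T_inv, show (-1 : F) = 1 by
    rw [neg_eq_iff_add_eq_zero, add_self_two hF]] at h1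
  have h2 : (T hB (d : V) 1).1 ((T hB (d : V) 1).1 x) = x := by
    rw [← Iso.mul_apply, ← T_add, add_self_two hF, T_zero, Iso.one_apply]
  rw [h2, hf.apply_T hF hB c.2, hf.apply_T hF hB d.2] at h1
  rw [map_sub, LinearMap.sub_apply, sub_eq_zero]
  linear_combination h1

/-- If the zeros are fewer than the ones, they count the index. -/
theorem IsQuad.index_eq (hf : IsQuad B f)
    (hne : Nat.card {x // f x = 0} ≠ Nat.card {x // f x = 1}) :
    (OFix B f).index = Nat.card {x // f x = 0} := by
  refine le_antisymm ?_ (hf.zeros_le hF hB)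
  refine Nat.card_le_card_of_surjective
    (fun c : {x // f x = 0} => (QuotientGroup.mk (T hB (c : V) 1) : Iso B ⧸ OFix B f)) ?_
  rintro ⟨g⟩
  -- the difference of `f ∘ g⁻¹` and `f` is linear
  let d : V → F := fun x => f ((g⁻¹).1 x) + f x
  have hd : ∀ u v, d (u + v) = d u + d v := by
    intro u v
    simp only [d, map_add, hf _ _, Iso.map_form]
    linear_combination (B u v) * two_zero hF
  let l : V →ₗ[F] F :=
    { toFun := d
      map_add' := hd
      map_smul' := fun r x => by
        rcases two_elem hF r with rfl | rfl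
        · simp [d, hf.map_zero' hF hB]
        · simp }
  obtain ⟨c, hc⟩ := dual_surj hF hB l
  have hcd : ∀ x, f x + B c x = f ((g⁻¹).1 x) := fun x => by
    rw [hc]
    show f x + (f ((g⁻¹).1 x) + f x) = _
    linear_combination f x * two_zero hF
  have hfc : f c = 0 := by
    rcases two_elem hF (f c) with h | h
    · exact h
    refine absurd ?_ hne
    refine Nat.card_congr (((g⁻¹).1.toEquiv.subtypeEquiv (q := fun y => f y = 0)
      (p := fun x => f x + B c x = 0) fun x => by rw [hcd]; rfl).symm.trans
      ((Equiv.addRight c).subtypeEquiv fun x => ?_))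
    show f x + B c x = 0 ↔ f (x + c) = 1
    rw [hf.shift_apply hF hB, h]
    constructor
    · intro e; linear_combination e - two_zero hF
    · intro e; linear_combination e + two_zero hF
  refine ⟨⟨c, hfc⟩, QuotientGroup.eq.2 fun x => ?_⟩
  have h2 := hf.apply_T hF hB hfc ((T hB c 1).1 ((g : Iso B).1 x))
  rw [← Iso.mul_apply, ← T_add, add_self_two hF, T_zero, Iso.one_apply] at h2
  rw [Iso.mul_apply, T_inv, show (-1 : F) = 1 by
    rw [neg_eq_iff_add_eq_zero, add_self_two hF],
    hf.apply_T hF hB hfc, hcd, Iso.inv_apply']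

end Cfsg.Agent.Lib.MinIndexSp
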