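import Cfsg.Agent.Lib.MinIndexSp.Facts

/-!
# Minimal index in symplectic groups: sizes, isotropy, complements
-/

set_option autoImplicit false
set_option linter.unusedSectionVars false
set_option linter.unusedSimpArgs false

namespace Cfsg.Agent.Lib.MinIndexSp

open LinearMap (BilinForm)

variable {F : Type*} [Field F] {V : Type*} [AddCommGroup V] [Module F V] {B : BilinForm F V}

/-- A proper subgroup of an additive subgroup of a vector space has index at least the
characteristic. -/
theorem proper_card [Finite V] {K W : AddSubgroup V} (h : K < W) :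
    2 * Nat.card K ≤ Nat.card W ∧
      ((2 : F) ≠ 0 → [Finite F] → 3 * Nat.card K ≤ Nat.card W) := by
  have hK : Nat.card (K.addSubgroupOf W) = Nat.card K :=
    Nat.card_congr (AddSubgroup.addSubgroupOfEquivOfLe h.le).toEquiv
  have hcard := (K.addSubgroupOf W).card_mul_index
  rw [hK] at hcard
  have hi1 : (K.addSubgroupOf W).index ≠ 1 := by
    rw [Ne, AddSubgroup.index_eq_one, AddSubgroup.addSubgroupOf_eq_top]
    exact not_le_of_gt h
  have hi0 : (K.addSubgroupOf W).index ≠ 0 := AddSubgroup.index_ne_zero_of_finite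
  refine ⟨?_, fun h2 _ => ?_⟩
  · rw [← hcard, mul_comm 2]
    exact Nat.mul_le_mul_left _ (by omega)
  · have hi2 : (K.addSubgroupOf W).index ≠ 2 := by
      intro e
      obtain ⟨x, hx, hxK⟩ := SetLike.exists_of_lt h
      haveI := Fintype.ofFinite F
      obtain ⟨p, hp⟩ := CharP.exists F
      obtain ⟨n, hpp, hn⟩ := FiniteField.card F p
      have hodd : ¬ 2 ∣ p := by
        intro hd
        obtain rfl : 2 = p := (Nat.prime_dvd_prime_iff_eq Nat.prime_two hpp).1 hd
        exact h2 (CharP.cast_eq_zero F 2)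
      have hx2 : x + x ∈ K := by
        have := AddSubgroup.add_self_mem_of_index_two e (⟨x, hx⟩ : W)
        exact this
      have hpx : (p : ℕ) • x = 0 := by
        rw [← Nat.cast_smul_eq_nsmul F, CharP.cast_eq_zero, zero_smul]
      refine hxK ?_
      have : ((p + 1) / 2) • (x + x) ∈ K := K.nsmul_mem hx2 _
      rwa [← two_nsmul, ← mul_nsmul', show (p + 1) / 2 * 2 = p + 1 by omega, succ_nsmul, hpx,
        zero_add] at this
    rw [← hcard, mul_comm 3]
    exact Nat.mul_le_mul_left _ (by omega)

variable (hB : Good B) {H : Subgroup (Iso B)} {a b : V}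
include hB

variable [Finite F] [Finite V]

theorem Z0_card (ha : ¬ Root hB H a) :
    2 * Nat.card (Z0 hB H a) ≤ Nat.card F ∧
      ((2 : F) ≠ 0 → 3 * Nat.card (Z0 hB H a) ≤ Nat.card F) := by
  have h := proper_card (F := F) (V := F) (K := Z0 hB H a) (W := ⊤)
    (lt_of_le_of_ne le_top (Z0_ne_top hB H ha))
  rw [AddSubgroup.card_top] at h
  exact ⟨h.1, fun h2 => h.2 h2⟩

/-- In odd characteristic `W` is isotropic modulo `Z0`. -/
theorem W_sq_le (hab : B a b = 1) (ha : ¬ Root hB H a) (h2 : (2 : F) ≠ 0) :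
    Nat.card (W hB H a b) * Nat.card (W hB H a b) ≤ Nat.card (comp B a b) := by
  let K : AddSubgroup F :=
    { carrier := {c | 2 * c ∈ Z0 hB H a}
      zero_mem' := by show 2 * (0 : F) ∈ Z0 hB H a; rw [mul_zero]; exact (Z0 hB H a).zero_mem
      add_mem' := fun {c d} hc hd => by
        show 2 * (c + d) ∈ Z0 hB H a; rw [mul_add]; exact (Z0 hB H a).add_mem hc hd
      neg_mem' := fun {c} hc => by
        show 2 * (-c) ∈ Z0 hB H a; rw [mul_neg]; exact (Z0 hB H a).neg_mem hc }
  have hK : K ≠ ⊤ := fun e => Z0_ne_top hB H ha (eq_top_iff.2 fun z _ => by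
    have : z / 2 ∈ K := e ▸ AddSubgroup.mem_top _
    have h' : 2 * (z / 2) ∈ Z0 hB H a := this
    rwa [mul_div_cancel₀ _ h2] at h')
  have := pairing B (comp B a b) (W hB H a b) (W hB H a b) inf_le_right inf_le_right K hK
    (fun x hx y hy => two_form_mem hB hy.1 hx.1) ⊥ (fun x hx h => by
      by_contra h0
      obtain ⟨w, hw, hne⟩ := comp_nd hB hab x hx.2 h0
      exact hne (h w hw))
  rwa [AddSubgroup.card_bot, mul_one] at this

theorem card_comp_ge (hab : B a b = 1) {x : V} (hx : x ∈ comp B a b) (hx0 : x ≠ 0) :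
    Nat.card F * Nat.card F ≤ Nat.card (comp B a b) := by
  obtain ⟨w, hw⟩ := (form_good hB hab).exists_one (v := (⟨x, hx⟩ : comp B a b))
    (fun e => hx0 (congrArg Subtype.val e))
  rw [card_eq_comp (form_good hB hab) hw]
  exact Nat.le_mul_of_pos_left _ Nat.card_pos

/-- The complement has size `1`, `q²` or at least `q⁴`. -/
theorem card_comp_cases (hab : B a b = 1) :
    Nat.card (comp B a b) = 1 ∨ Nat.card (comp B a b) = Nat.card F * Nat.card F ∨
      Nat.card F ^ 4 ≤ Nat.card (comp B a b) := by
  by_cases h0 : ∀ x : comp B a b, x = 0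
  · left
    rw [Nat.card_eq_one_iff_unique]
    exact ⟨⟨fun x y => (h0 x).trans (h0 y).symm⟩, ⟨0⟩⟩
  · right
    push Not at h0
    obtain ⟨x, hx⟩ := h0
    obtain ⟨y, hy⟩ := (form_good hB hab).exists_one hx
    rw [card_eq_comp (form_good hB hab) hy]
    by_cases h1 : ∀ z : comp (form B a b) x y, z = 0
    · left
      have : Nat.card (comp (form B a b) x y) = 1 := by
        rw [Nat.card_eq_one_iff_unique]
        exact ⟨⟨fun z w => (h1 z).trans (h1 w).symm⟩, ⟨0⟩⟩
      rw [this, one_mul]
    · right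
      push Not at h1
      obtain ⟨z, hz⟩ := h1
      have := card_comp_ge (form_good hB hab) hy z.2 (fun e => hz (Subtype.ext e))
      calc Nat.card F ^ 4 = Nat.card F * Nat.card F * (Nat.card F * Nat.card F) := by ring
        _ ≤ _ := Nat.mul_le_mul_right _ this

theorem M_index_ne_two (hab : B a b = 1) (h2 : (2 : F) ≠ 0) : (M hB H hab).index ≠ 2 := by
  intro e
  have htop : M hB H hab = ⊤ := by
    refine eq_top_of_roots _ (form_good hB hab) le_rfl _ fun v c => ?_
    have := Subgroup.mul_self_mem_of_index_two e (T (form_good hB hab) v (c / 2))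
    rwa [← T_add, ← two_mul, mul_div_cancel₀ _ h2] at this
  rw [htop, Subgroup.index_top] at e
  exact absurd e (by norm_num)

end Cfsg.Agent.Lib.MinIndexSp
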