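import Cfsg.Agent.Lib.MinIndexSp.Sizes

/-!
# Minimal index in symplectic groups: the inductive step
-/

set_option autoImplicit false
set_option linter.unusedSectionVars false
set_option linter.unusedSimpArgs false

namespace Cfsg.Agent.Lib.MinIndexSp

open LinearMap (BilinForm)

variable {F : Type*} [Field F] {V : Type*} [AddCommGroup V] [Module F V] {B : BilinForm F V}
variable (hB : Good B) {H : Subgroup (Iso B)} {a b : V}
include hB

/-- A transvection subgroup in `H` acting on `W`. -/
theorem root_conj {r x : V} (har : B a r = 0) (hr : Root hB H r) (hx : x ∈ Wt hB H a) (d : F)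
    (hs : B x r ≠ 0) : R hB a (d • r) (-(d * B x r)) ∈ H := by
  obtain ⟨hxa, c, hc⟩ := hx
  have h := H.mul_mem (H.mul_mem (H.mul_mem (hr (d / B x r)) hc) (H.inv_mem (hr (d / B x r))))
    (H.inv_mem hc)
  rw [R_conj hB _ hxa, show (T hB r (d / B x r)).1 a = a by rw [T_apply, har]; simp,
    show (T hB r (d / B x r)).1 x = x + d • r by rw [T_apply, div_mul_cancel₀ _ hs],
    R_inv hB hxa, R_mul hB (by simp [hxa, har]) (by simp [hxa])] at h
  convert h using 2
  · abel
  · simp [hB.alt, mul_comm]

variable [Finite F] [Finite V]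

/-- A point `r` orthogonal to `a` with small `W`. -/
theorem exists_small (hab : B a b = 1) (hq : 3 ≤ Nat.card F) (ha : ¬ Root hB H a)
    (hS : Nat.card F ^ 4 ≤ Nat.card (comp B a b))
    (hbig : Nat.card (comp B a b) ≤ Nat.card F * Nat.card (W hB H a b)) :
    ∃ r b' : V, B r b' = 1 ∧ ¬ Root hB H r ∧
      2 * Nat.card (W hB H r b') ≤ Nat.card F ^ 3 := by
  classical
  have hq0 : 0 < Nat.card F := Nat.card_pos
  obtain ⟨u₀, hu₀⟩ : ∃ u : comp B a b, u ≠ 0 := by
    by_contra h
    push Not at h
    have : Nat.card (comp B a b) = 1 := by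
      rw [Nat.card_eq_one_iff_unique]
      exact ⟨⟨fun x y => (h x).trans (h y).symm⟩, ⟨0⟩⟩
    have h1 : 3 ^ 4 ≤ Nat.card F ^ 4 := Nat.pow_le_pow_left hq 4
    omega
  -- the point `r`
  obtain ⟨r, hr, hK, hroot, hker⟩ : ∃ r, ∃ hr : r ∈ comp B a b,
      Kr hB H a (mem_comp.1 hr).1 ≠ ⊤ ∧ ¬ Root hB H r ∧
      ((∀ y ∈ comp B a b, y ∈ Wt hB H a) ∨
        2 * Nat.card {d : F | d • r ∈ Wt hB H a} ≤ Nat.card F) := by
    by_cases hall : ∀ y ∈ comp B a b, y ∈ Wt hB H a
    · have hex : ∃ r, ∃ hr : r ∈ comp B a b, Kr hB H a (mem_comp.1 hr).1 ≠ ⊤ := by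
        by_contra hcon
        push Not at hcon
        refine ha fun z => ?_
        obtain ⟨v, hv⟩ := (form_good hB hab).exists_one hu₀
        have hmem : ∀ y : comp B a b, R hB a (y : V) 0 ∈ H := fun y => by
          have h : (1 : F) ∈ Kr hB H a (mem_comp.1 y.2).1 := by
            rw [hcon (y : V) y.2]; trivial
          change R hB a ((1 : F) • (y : V)) 0 ∈ H at h
          rwa [one_smul] at h
        have h1 := H.mul_mem (H.mul_mem (hmem v) (hmem (z • u₀)))
          (H.inv_mem (hmem (v + z • u₀)))
        rw [R_mul hB (mem_comp.1 v.2).1 (mem_comp.1 (z • u₀).2).1,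
          R_inv hB (mem_comp.1 (v + z • u₀).2).1,
          R_mul hB (by simp [(mem_comp.1 v.2).1, (mem_comp.1 u₀.2).1])
            (by simp [(mem_comp.1 v.2).1, (mem_comp.1 u₀.2).1]), ← R_zero_eq_T] at *
        convert h1 using 2
        · simp
        · have hv' : B (u₀ : V) (v : V) = 1 := hv
          simp [hB.alt, hv', hB.flip (u₀ : V) (v : V)]
      obtain ⟨r, hr, hK⟩ := hex
      refine ⟨r, hr, hK, fun hrt => hK ?_, Or.inl hall⟩
      -- a root at `r` fills `Kr`
      have hr0 : r ≠ 0 := by
        rintro rfl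
        refine hK (eq_top_iff.2 fun d _ => ?_)
        show R hB a (d • (0 : V)) 0 ∈ H
        rw [smul_zero, R_zero]; exact H.one_mem
      obtain ⟨w, hw, hwr⟩ := comp_nd hB hab r hr hr0
      exfalso
      apply ha
      intro z
      have key : ∀ s : F, s ≠ 0 → R hB a r (-(1 * s)) ∈ H := by
        intro s hs
        have hx : B ((s / B w r) • w) r = s := by
          rw [map_smul, LinearMap.smul_apply, smul_eq_mul, div_mul_cancel₀]
          rwa [hB.flip, neg_ne_zero]
        have := root_conj hB (mem_comp.1 hr).1 hrt (hall _ ((comp B a b).smul_mem (s / B w r) hw))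
          1 (by rwa [hx])
        rwa [one_smul, hx] at this
      obtain ⟨β, hβ0, hβz⟩ : ∃ β : F, β ≠ 0 ∧ β ≠ z := by
        haveI := Fintype.ofFinite F
        obtain ⟨t, -, ht⟩ := Finset.exists_mem_notMem_of_card_lt_card
          (s := ({0, z} : Finset F)) (t := Finset.univ)
          (by rw [Finset.card_univ, ← Nat.card_eq_fintype_card]
              exact lt_of_le_of_lt Finset.card_le_two hq)
        simp only [Finset.mem_insert, Finset.mem_singleton, not_or] at ht
        exact ⟨t, ht.1, ht.2⟩
      have h4 := H.mul_mem (H.inv_mem (key β hβ0)) (key (β - z) (sub_ne_zero.2 hβz))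
      rw [R_inv hB (mem_comp.1 hr).1, R_mul hB (by simp [(mem_comp.1 hr).1]) (mem_comp.1 hr).1,
        neg_add_cancel, R_zero_eq_T] at h4
      show T hB a z ∈ H
      convert h4 using 2
      simp [hB.alt]
    · push Not at hall
      obtain ⟨r, hr, hrW⟩ := hall
      have hr0 : r ≠ 0 := fun e => hrW (e ▸ (Wt hB H a).zero_mem)
      refine ⟨r, hr, fun e => ?_, fun hrt => ?_, Or.inr ?_⟩
      · have h : (1 : F) ∈ Kr hB H a (mem_comp.1 hr).1 := e ▸ AddSubgroup.mem_top _
        change R hB a ((1 : F) • r) 0 ∈ H at h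
        rw [one_smul] at h
        exact hrW ⟨(mem_comp.1 hr).1, 0, h⟩
      · by_cases hperp : ∀ x ∈ W hB H a b, B x r = 0
        · -- then `W` is the whole hyperplane and contains `r`
          let f : comp B a b →ₗ[F] F := (B.flip r).comp (comp B a b).subtype
          have hsurj : Function.Surjective f := by
            obtain ⟨w, hw, hwr⟩ := comp_nd hB hab r hr hr0
            have hwr' : B w r ≠ 0 := by rwa [hB.flip, neg_ne_zero]
            intro c
            refine ⟨(c / B w r) • ⟨w, hw⟩, ?_⟩
            show B ((c / B w r) • w) r = c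
            rw [map_smul, LinearMap.smul_apply, smul_eq_mul, div_mul_cancel₀ _ hwr']
          have hcard : Nat.card (comp B a b) = Nat.card F * Nat.card (LinearMap.ker f) := by
            have h1 := (LinearMap.ker f).toAddSubgroup.index_mul_card
            have h2 : (LinearMap.ker f).toAddSubgroup = f.toAddMonoidHom.ker := rfl
            rw [h2, AddSubgroup.index_ker, AddMonoidHom.range_eq_top.2 hsurj, AddSubgroup.card_top]
              at h1
            exact h1.symm
          have hle : W hB H a b ≤ ((LinearMap.ker f).map (comp B a b).subtype).toAddSubgroup :=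
            fun x hx => ⟨⟨x, hx.2⟩, hperp x hx, rfl⟩
          have heq : W hB H a b = ((LinearMap.ker f).map (comp B a b).subtype).toAddSubgroup := by
            refine SetLike.ext' (Set.eq_of_subset_of_ncard_le hle ?_ (Set.toFinite _))
            rw [← Nat.card_coe_set_eq, ← Nat.card_coe_set_eq]
            have e : Nat.card ((LinearMap.ker f).map (comp B a b).subtype)
                = Nat.card (LinearMap.ker f) :=
              Nat.card_congr (Submodule.equivMapOfInjective _
                (comp B a b).subtype_injective _).symm.toEquiv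
            refine le_trans (le_of_eq e) ?_
            rw [hcard] at hbig
            exact Nat.le_of_mul_le_mul_left hbig hq0
          refine hrW (?_ : r ∈ Wt hB H a)
          have : r ∈ W hB H a b := by
            rw [heq]; exact ⟨⟨r, hr⟩, hB.alt r, rfl⟩
          exact this.1
        · push Not at hperp
          obtain ⟨x, hx, hxr⟩ := hperp
          have := root_conj hB (mem_comp.1 hr).1 hrt hx.1 1 hxr
          rw [one_smul] at this
          exact hrW ⟨(mem_comp.1 hr).1, _, this⟩
      · let Dr : AddSubgroup F := (Wt hB H a).comap ((LinearMap.id (R := F) (M := F)).smulRight r).toAddMonoidHom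
        have hne : Dr < ⊤ := lt_of_le_of_ne le_top fun e => hrW (by
          have : (1 : F) • r ∈ Wt hB H a := (e ▸ AddSubgroup.mem_top (1 : F) : (1 : F) ∈ Dr)
          rwa [one_smul] at this)
        have h1 := (proper_card (F := F) hne).1
        rw [AddSubgroup.card_top] at h1
        exact h1
  have har := (mem_comp.1 hr).1
  have hr0 : r ≠ 0 := fun e => hroot (e ▸ root_zero hB H)
  obtain ⟨b', hb'⟩ := hB.exists_one hr0
  refine ⟨r, b', hb', hroot, ?_⟩
  -- the two sets paired into `Kr`
  let S2 : Submodule F V := LinearMap.ker (B a) ⊓ LinearMap.ker (B r)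
  let lr : F →+ V := ((LinearMap.id (R := F) (M := F)).smulRight r).toAddMonoidHom
  let la : F →+ V := ((LinearMap.id (R := F) (M := F)).smulRight a).toAddMonoidHom
  let X0 : AddSubgroup V := Wt hB H a ⊓ (LinearMap.ker (B r)).toAddSubgroup
  let Y : AddSubgroup V := Wt hB H r ⊓ (LinearMap.ker (B a)).toAddSubgroup
  let X : AddSubgroup V := X0 ⊔ lr.range
  have hXS : X ≤ S2.toAddSubgroup := by
    refine sup_le (fun x hx => ⟨hx.1.1, hx.2⟩) ?_
    rintro _ ⟨s, rfl⟩
    exact ⟨show B a (s • r) = 0 by simp [har], show B r (s • r) = 0 by simp [hB.alt]⟩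
  have hYS : Y ≤ S2.toAddSubgroup := fun y hy => ⟨hy.2, hy.1.1⟩
  have hpair : ∀ x ∈ X, ∀ y ∈ Y, B x y ∈ Kr hB H a har := by
    intro x hx y hy
    obtain ⟨x0, hx0, _, ⟨s, rfl⟩, rfl⟩ := AddSubgroup.mem_sup.1 hx
    have h1 := R_smul_mem hB har hx0.1 (hB.symm0 hx0.2) hy.1 hy.2
    show R hB a (B (x0 + s • r) y • r) 0 ∈ H
    rwa [map_add, LinearMap.add_apply, map_smul, LinearMap.smul_apply,
      show B r y = 0 from hy.1.1, smul_zero, add_zero]
  let N : AddSubgroup V := (Submodule.span F ({a, r} : Set V)).toAddSubgroup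
  have hN : ∀ x ∈ X, (∀ s ∈ S2, B x s = 0) → x ∈ N := by
    intro x hx hperp
    have hx' : x ∈ S2 := hXS hx
    -- write `x` in the frame
    obtain ⟨w, hw, hrw⟩ := comp_nd hB hab r hr hr0
    obtain ⟨hxa, hxr⟩ := hx'
    have hxa' : B a x = 0 := hxa
    set y : V := x - B x b • a - (B x w / B r w) • r with hy
    suffices y = 0 by
      rw [hy, sub_sub, sub_eq_zero] at this
      rw [this]
      exact add_mem (Submodule.smul_mem _ _ (Submodule.subset_span (by simp)))
        (Submodule.smul_mem _ _ (Submodule.subset_span (by simp)))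
    refine hB.nd _ fun v => ?_
    have hwa : B w a = 0 := hB.symm0 (mem_comp.1 hw).1
    have hwb : B a w = 0 := (mem_comp.1 hw).1
    have hrb : B r b = 0 := hB.symm0 (mem_comp.1 hr).2
    -- split `v` along `b` and `w` into the common perpendicular
    set v' : V := v - B a v • b - (B r v / B r w) • w with hv'
    have hv'S : v' ∈ S2 := by
      refine ⟨show B a v' = 0 from ?_, show B r v' = 0 from ?_⟩
      · simp [hv', hab, hwb]
      · simp [hv', hrb, div_mul_cancel₀ _ hrw]
    have hxv := hperp v' hv'S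
    have e : v = v' + B a v • b + (B r v / B r w) • w := by rw [hv']; abel
    rw [e]
    have hwr : B r w ≠ 0 := hrw
    have hbw : B b w = 0 := (mem_comp.1 hw).2
    have hwa' : B a w = 0 := hwb
    simp only [hy, map_add, map_sub, map_smul, LinearMap.sub_apply, LinearMap.smul_apply,
      smul_eq_mul, hxv, hab, hwa', hrb, show B a v' = 0 from hv'S.1, show B r v' = 0 from hv'S.2]
    field_simp
    ring
  have hp := pairing B S2 X Y hXS hYS _ hK hpair N hN
  have hNcard : Nat.card N ≤ Nat.card F * Nat.card F := by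
    rw [← Nat.card_prod]
    refine Nat.card_le_card_of_surjective (fun p : F × F => (⟨p.1 • a + p.2 • r,
      Submodule.mem_span_pair.2 ⟨_, _, rfl⟩⟩ : N)) ?_
    rintro ⟨l, hl⟩
    obtain ⟨s, t, rfl⟩ := Submodule.mem_span_pair.1 hl
    exact ⟨(s, t), rfl⟩
  have hlr : Function.Injective lr := fun s t e => smul_left_injective F hr0 e
  have hrange : Nat.card lr.range = Nat.card F :=
    Nat.card_congr (Equiv.ofInjective lr hlr).symm
  -- size of the common perpendicular
  have hS2 : Nat.card S2 * (Nat.card F * Nat.card F) ≤ Nat.card V := by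
    obtain ⟨w, hw, hrw⟩ := comp_nd hB hab r hr hr0
    rw [← Nat.card_prod, ← Nat.card_prod]
    refine Nat.card_le_card_of_injective
      (fun p : S2 × (F × F) => (p.1 : V) + p.2.1 • b + p.2.2 • w) fun p p' e => ?_
    have h1 := congrArg (fun v => B a v) e
    have h2 := congrArg (fun v => B r v) e
    simp only [map_add, map_smul, show B a (p.1 : V) = 0 from p.1.2.1,
      show B a (p'.1 : V) = 0 from p'.1.2.1, show B r (p.1 : V) = 0 from p.1.2.2,
      show B r (p'.1 : V) = 0 from p'.1.2.2, hab, (mem_comp.1 hw).1,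
      hB.symm0 (mem_comp.1 hr).2, smul_eq_mul, mul_one, mul_zero, add_zero, zero_add] at h1 h2
    have h2' := mul_right_cancel₀ hrw h2
    refine Prod.ext (Subtype.ext ?_) (Prod.ext h1 h2')
    dsimp only at e
    rw [h1, h2'] at e
    simpa using e
  rw [card_eq_comp hB hab] at hS2
  have hS2' : Nat.card S2 ≤ Nat.card (comp B a b) :=
    Nat.le_of_mul_le_mul_right hS2 (Nat.mul_pos hq0 hq0)
  -- size of `Wt ∩ r^⊥`
  have hX0 : Nat.card (W hB H a b) ≤ Nat.card X0 := by
    let f : Wt hB H a →+ F := (B r).toAddMonoidHom.comp (Wt hB H a).subtype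
    have h1 := f.ker.index_mul_card
    rw [AddSubgroup.index_ker, card_Wt hB H hab] at h1
    have h2 : Nat.card f.ker ≤ Nat.card X0 :=
      Nat.card_le_card_of_injective (fun x => ⟨((x : Wt hB H a) : V), (x : Wt hB H a).2,
        AddMonoidHom.mem_ker.1 x.2⟩) fun x y e => Subtype.ext (Subtype.ext (congrArg Subtype.val e :))
    refine Nat.le_of_mul_le_mul_left ?_ hq0
    calc Nat.card F * Nat.card (W hB H a b) = Nat.card f.range * Nat.card f.ker := by rw [h1]; ring
      _ ≤ Nat.card F * Nat.card X0 := Nat.mul_le_mul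
          (Nat.card_le_card_of_injective _ Subtype.val_injective) h2
  -- size of `W` at `r`
  have hWr : Nat.card (W hB H r b') ≤ Nat.card Y := by
    let f : Wt hB H r →+ F := (B a).toAddMonoidHom.comp (Wt hB H r).subtype
    have h1 := f.ker.index_mul_card
    rw [AddSubgroup.index_ker, card_Wt hB H hb'] at h1
    have h2 : Nat.card f.ker ≤ Nat.card Y :=
      Nat.card_le_card_of_injective (fun x => ⟨((x : Wt hB H r) : V), (x : Wt hB H r).2,
        AddMonoidHom.mem_ker.1 x.2⟩) fun x y e => Subtype.ext (Subtype.ext (congrArg Subtype.val e :))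
    refine Nat.le_of_mul_le_mul_left ?_ hq0
    calc Nat.card F * Nat.card (W hB H r b') = Nat.card f.range * Nat.card f.ker := by rw [h1]; ring
      _ ≤ Nat.card F * Nat.card Y := Nat.mul_le_mul
          (Nat.card_le_card_of_injective _ Subtype.val_injective) h2
  have hXY : Nat.card X * Nat.card Y ≤ Nat.card (comp B a b) * (Nat.card F * Nat.card F) :=
    hp.trans (Nat.mul_le_mul hS2' hNcard)
  rcases hker with hall | hker
  · -- `X` is the whole common perpendicular
    have hX : S2.toAddSubgroup ≤ X := by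
      intro x hx
      refine AddSubgroup.mem_sup_left ⟨?_, hx.2⟩
      have hxa : B a x = 0 := hx.1
      have := Wt_add_a hB (hall _ (pr hB hab x).2) (B x b)
      rwa [coe_pr, hxa, zero_smul, sub_zero, sub_add_cancel] at this
    have h1 : Nat.card S2 ≤ Nat.card X :=
      Nat.card_le_card_of_injective (fun x => ⟨(x : V), hX x.2⟩)
        fun x y e => Subtype.ext (congrArg Subtype.val e :)
    have h2 := (Nat.mul_le_mul_right (Nat.card Y) h1).trans (hp.trans (Nat.mul_le_mul_left _ hNcard))
    have h3 := Nat.le_of_mul_le_mul_left h2 Nat.card_pos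
    calc 2 * Nat.card (W hB H r b') ≤ 2 * (Nat.card F * Nat.card F) := by omega
      _ ≤ Nat.card F * (Nat.card F * Nat.card F) := Nat.mul_le_mul_right _ (by omega)
      _ = Nat.card F ^ 3 := by ring
  · -- `X` is twice as large as `W`
    let φ : X0 × F →+ V := (X0.subtype.comp (AddMonoidHom.fst X0 F))
      + lr.comp (AddMonoidHom.snd X0 F)
    have h1 := φ.ker.index_mul_card
    rw [AddSubgroup.index_ker, Nat.card_prod] at h1
    have hk : Nat.card φ.ker ≤ Nat.card {d : F | d • r ∈ Wt hB H a} := by
      refine Nat.card_le_card_of_injective (fun p => ⟨(p : X0 × F).2, ?_⟩) fun p p' e => ?_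
      · have hp := AddMonoidHom.mem_ker.1 p.2
        have e : (p : X0 × F).2 • r = -((p : X0 × F).1 : V) := eq_neg_of_add_eq_zero_right hp
        show (p : X0 × F).2 • r ∈ Wt hB H a
        rw [e]; exact (Wt hB H a).neg_mem (p : X0 × F).1.2.1
      · have e' : (p : X0 × F).2 = (p' : X0 × F).2 := congrArg Subtype.val e
        have hp := AddMonoidHom.mem_ker.1 p.2
        have hp' := AddMonoidHom.mem_ker.1 p'.2
        refine Subtype.ext (Prod.ext (Subtype.ext ?_) e')
        change ((p : X0 × F).1 : V) + (p : X0 × F).2 • r = 0 at hp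
        change ((p' : X0 × F).1 : V) + (p' : X0 × F).2 • r = 0 at hp'
        rw [e'] at hp
        exact add_right_cancel (hp.trans hp'.symm)
    have hr' : Nat.card φ.range ≤ Nat.card X :=
      Nat.card_le_card_of_injective (fun x => ⟨(x : V), by
        obtain ⟨p, hp⟩ := x.2
        rw [← hp]
        exact AddSubgroup.add_mem_sup p.1.2 ⟨p.2, rfl⟩⟩)
        fun x y e => Subtype.ext (congrArg Subtype.val e :)
    have h2 : 2 * (Nat.card X0 * Nat.card F) ≤ Nat.card X * Nat.card F := by
      rw [← h1]
      calc 2 * (Nat.card φ.range * Nat.card φ.ker) = Nat.card φ.range * (2 * Nat.card φ.ker) := by ring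
        _ ≤ _ := Nat.mul_le_mul hr' ((Nat.mul_le_mul_left 2 hk).trans hker)
    have h3 : 2 * Nat.card (W hB H a b) ≤ Nat.card X := by
      refine le_trans (Nat.mul_le_mul_left 2 hX0) (Nat.le_of_mul_le_mul_right ?_ hq0)
      rwa [mul_assoc]
    have h4 : Nat.card (comp B a b) * (2 * Nat.card (W hB H r b'))
        ≤ Nat.card (comp B a b) * Nat.card F ^ 3 := by
      calc _ ≤ Nat.card F * Nat.card (W hB H a b) * (2 * Nat.card (W hB H r b')) :=
            Nat.mul_le_mul_right _ hbig
        _ = Nat.card F * (2 * Nat.card (W hB H a b) * Nat.card (W hB H r b')) := by ring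
        _ ≤ Nat.card F * (Nat.card X * Nat.card Y) := Nat.mul_le_mul_left _ (Nat.mul_le_mul h3 hWr)
        _ ≤ Nat.card F * (Nat.card (comp B a b) * (Nat.card F * Nat.card F)) :=
            Nat.mul_le_mul_left _ hXY
        _ = _ := by ring
    exact Nat.le_of_mul_le_mul_left h4 Nat.card_pos

/-- Case of full image on the complement. -/
theorem big_of_M_top (hH : H ≠ ⊤) (hab : B a b = 1) (hq : 3 ≤ Nat.card F)
    (ha : ¬ Root hB H a) (hM : M hB H hab = ⊤) (hne : comp B a b ≠ ⊥)
    (h3 : Nat.card F = 3 → Nat.card F * Nat.card F < Nat.card (comp B a b)) : Big H := by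
  by_cases hD : D H hab = ⊥
  · have hidx := index_ge hB H hab
    have hW0 := W0_eq_bot hB hab hq ha hM
    have hW : Nat.card (W hB H a b) = 1 := by
      rw [← card_W0 hB, hW0]; exact AddSubgroup.card_bot
    rw [hD, Subgroup.index_bot, Nat.card_units, hM, Subgroup.index_top, mul_one, hW, one_mul] at hidx
    unfold Big
    rw [card_eq_comp hB hab]
    set q := Nat.card F
    set S := Nat.card (comp B a b)
    set Z := Nat.card (Z0 hB H a)
    obtain ⟨k, hk⟩ : ∃ k, q = k + 3 := ⟨q - 3, by omega⟩
    rw [hk, show k + 3 - 1 = k + 2 by omega] at hidx ⊢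
    rcases Nat.eq_zero_or_pos k with rfl | hk0
    · have hZ : Z = 1 := by
        have h1 := (Z0_card hB ha).1
        rw [show Nat.card F = 3 from hk] at h1
        have h2 : 0 < Z := Nat.card_pos
        change 2 * Z ≤ 3 at h1
        omega
      rw [hZ] at hidx
      omega
    · have hZ : 2 * Z ≤ k + 3 := hk ▸ (Z0_card hB ha).1
      have h5 : S * ((k + 3) * (k + 3)) ≤ (k + 2) * H.index := by
        refine Nat.le_of_mul_le_mul_left (c := k + 3) ?_ (Nat.succ_pos _)
        calc (k + 3) * (S * ((k + 3) * (k + 3)))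
            ≤ 2 * ((k + 2) * (k + 2)) * (S * (k + 3)) := by
              rw [show (k + 3) * (S * ((k + 3) * (k + 3))) = (k + 3) * (k + 3) * (S * (k + 3)) by
                ring]
              exact Nat.mul_le_mul_right _ (by nlinarith)
          _ = 2 * (k + 2) * ((k + 2) * (S * (k + 3))) := by ring
          _ ≤ 2 * (k + 2) * (H.index * Z) := Nat.mul_le_mul_left _ hidx
          _ = (k + 2) * H.index * (2 * Z) := by ring
          _ ≤ (k + 2) * H.index * (k + 3) := Nat.mul_le_mul_left _ hZ
          _ = _ := by ring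
      omega
  · exact big_of_M_top_of_scalar hB hH hab hq ha hM hne h3 hD

/-- The inductive step. -/
theorem step (hH : H ≠ ⊤) (hab : B a b = 1) (hq : 3 ≤ Nat.card F) (ha : ¬ Root hB H a)
    (hS : Nat.card F ^ 4 ≤ Nat.card (comp B a b))
    (IH : ∀ {c d : V}, B c d = 1 → ∀ H' : Subgroup (Iso (form B c d)), H' ≠ ⊤ →
      2 * Nat.card (comp B c d) ≤ 3 * ((Nat.card F - 1) * H'.index) ∧
      ((2 : F) = 0 → Nat.card (comp B c d) - 1 ≤ (Nat.card F - 1) * H'.index)) : Big H := by
  have hcomp : ∀ {c d : V}, B c d = 1 → comp B c d ≠ ⊥ ∧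
      (Nat.card F = 3 → Nat.card F * Nat.card F < Nat.card (comp B c d)) ∧
      Nat.card (comp B c d) = Nat.card (comp B a b) := by
    intro c d hcd
    have he : Nat.card (comp B c d) = Nat.card (comp B a b) :=
      Nat.eq_of_mul_eq_mul_right (Nat.mul_pos Nat.card_pos Nat.card_pos)
        ((card_eq_comp hB hcd).symm.trans (card_eq_comp hB hab))
    have h9 : Nat.card F * Nat.card F < Nat.card F ^ 4 := by
      rw [show Nat.card F * Nat.card F = Nat.card F ^ 2 by ring]
      exact Nat.pow_lt_pow_right (by omega) (by norm_num)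
    refine ⟨fun e => ?_, fun _ => by omega, he⟩
    have : Nat.card (comp B c d) = 1 := by rw [e]; exact Nat.card_unique
    have := Nat.mul_pos (Nat.card_pos (α := F)) (Nat.card_pos (α := F))
    omega
  -- a bound from a point with small `W`
  have key : ∀ {c d : V} (hcd : B c d = 1), ¬ Root hB H c →
      ((2 : F) = 0 → Nat.card F * Nat.card (W hB H c d) < Nat.card (comp B a b)) → Big H := by
    intro c d hcd hc hsmall
    obtain ⟨hne, h3, he⟩ := hcomp hcd
    by_cases hM : M hB H hcd = ⊤
    · exact big_of_M_top hB hH hcd hq hc hM hne h3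
    · have hidx := index_ge hB H hcd
      obtain ⟨hG, hG2, -⟩ := D_index hB hcd hc
      obtain ⟨hI, hI2⟩ := IH hcd _ hM
      rw [he] at hidx hI hI2
      unfold Big
      rw [card_eq_comp hB hab]
      set q := Nat.card F
      set S := Nat.card (comp B a b)
      set Z := Nat.card (Z0 hB H c)
      set G := (D H hcd).index
      set Mi := (M hB H hcd).index
      set Wn := Nat.card (W hB H c d)
      have hG0 : 0 < G := Nat.pos_of_ne_zero Subgroup.index_ne_zero_of_finite
      refine le_trans (Nat.sub_le _ 1) ?_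
      by_cases h2 : (2 : F) = 0
      · have hW := hsmall h2
        have hI' := hI2 h2
        have hZ := hG2 h2
        refine Nat.le_of_mul_le_mul_left (c := G * (q * Wn)) ?_
          (Nat.mul_pos hG0 (Nat.mul_pos (by omega) (Nat.card_pos (α := W hB H c d))))
        calc G * (q * Wn) * (S * (q * q))
            ≤ G * (S - 1) * (S * (q * q)) :=
              Nat.mul_le_mul_right _ (Nat.mul_le_mul_left _ (by omega))
          _ ≤ G * ((q - 1) * Mi) * (S * (q * q)) :=
              Nat.mul_le_mul_right _ (Nat.mul_le_mul_left _ hI')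
          _ = (q - 1) * q * (G * Mi * (S * q)) := by ring
          _ ≤ (q - 1) * q * (H.index * (Wn * Z)) := Nat.mul_le_mul_left _ hidx
          _ ≤ (q - 1) * q * (H.index * (Wn * G)) := by gcongr
          _ = _ := by ring
      · have hW := W_sq_le hB hcd hc h2
        rw [he] at hW
        change Wn * Wn ≤ S at hW
        have hW3 : 3 * q * Wn ≤ S := by
          refine Nat.mul_self_le_mul_self_iff.1 ?_
          calc 3 * q * Wn * (3 * q * Wn) = 3 * 3 * (q * q) * (Wn * Wn) := by ring
            _ ≤ q * q * (q * q) * S := Nat.mul_le_mul (Nat.mul_le_mul_right _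
                (Nat.mul_le_mul hq hq)) hW
            _ ≤ S * S := Nat.mul_le_mul_right _ (by rw [show q * q * (q * q) = q ^ 4 by ring]; exact hS)
        refine Nat.le_of_mul_le_mul_left (c := 2 * G * (3 * q * Wn)) ?_
          (Nat.mul_pos (by omega) (Nat.mul_pos (by omega) Nat.card_pos))
        calc 2 * G * (3 * q * Wn) * (S * (q * q))
            ≤ 2 * G * S * (S * (q * q)) := Nat.mul_le_mul_right _ (Nat.mul_le_mul_left _ hW3)
          _ = G * q * (S * q) * (2 * S) := by ring
          _ ≤ G * q * (S * q) * (3 * ((q - 1) * Mi)) := Nat.mul_le_mul_left _ hI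
          _ = 3 * q * (q - 1) * (G * Mi * (S * q)) := by ring
          _ ≤ 3 * q * (q - 1) * (H.index * (Wn * Z)) := Nat.mul_le_mul_left _ hidx
          _ ≤ 3 * q * (q - 1) * (H.index * (Wn * (2 * G))) := by gcongr; omega
          _ = _ := by ring
  by_cases hsmall : (2 : F) = 0 →
      Nat.card F * Nat.card (W hB H a b) < Nat.card (comp B a b)
  · exact key hab ha hsmall
  · push Not at hsmall
    obtain ⟨r, b', hrb, hr, hW⟩ := exists_small hB hab hq ha hS hsmall.2
    refine key hrb hr fun _ => ?_
    have hp : 0 < Nat.card F ^ 4 := pow_pos (by omega) 4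
    have : 2 * (Nat.card F * Nat.card (W hB H r b')) ≤ Nat.card F ^ 4 := by
      calc _ = Nat.card F * (2 * Nat.card (W hB H r b')) := by ring
        _ ≤ Nat.card F * Nat.card F ^ 3 := Nat.mul_le_mul_left _ hW
        _ = _ := by ring
    omega

end Cfsg.Agent.Lib.MinIndexSp
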