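import Cfsg.Agent.Lib.MinIndexSp.QuadTwo
import Cfsg.Agent.Lib.MinIndexSp.Step

/-!
# Minimal index in symplectic groups over two elements
-/

set_option autoImplicit false
set_option linter.unusedSectionVars false
set_option linter.unusedSimpArgs false

namespace Cfsg.Agent.Lib.MinIndexSp

open LinearMap (BilinForm)

variable {F : Type*} [Field F] [Finite F] (hF : Nat.card F = 2)
variable {V : Type*} [AddCommGroup V] [Module F V] {B : BilinForm F V} (hB : Good B)
variable {H : Subgroup (Iso B)} {a b : V}
include hF hB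

theorem root_two {v : V} : Root hB H v ↔ T hB v 1 ∈ H := by
  refine ⟨fun h => h 1, fun h c => ?_⟩
  rcases two_elem hF c with rfl | rfl
  · rw [T_zero]; exact H.one_mem
  · exact h

/-- A root in the hyperplane of `a` meeting `Wt` outside its perpendicular. -/
theorem root_gives {r x : V} (har : B a r = 0) (hr : Root hB H r) (hx : x ∈ Wt hB H a)
    (hs : B x r ≠ 0) : R hB a r 1 ∈ H := by
  have h := root_conj hB har hr hx 1 hs
  rwa [one_smul, one_mul, eq_one_of_ne hF hs, show (-1 : F) = 1 by
    rw [neg_eq_iff_add_eq_zero, add_self_two hF]] at h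

theorem R_one_eq {x : V} (hx : B a x = 0) : R hB a x 1 = T hB x 1 * T hB (x + a) 1 := by
  refine Iso.ext' fun v => ?_
  rw [R_apply hB hx, Iso.mul_apply]
  simp only [T_apply, map_add, map_smul, LinearMap.add_apply, LinearMap.smul_apply, smul_eq_mul,
    hB.alt, hx, hB.symm0 hx, one_mul, mul_zero, add_zero]
  match_scalars <;> first
    | ring1
    | linear_combination -(B v x) * two_zero hF
    | linear_combination (B v x) * two_zero hF

theorem R_cross {x : V} (hx : B a x = 0) : R hB a x 1 * R hB x a 0 = T hB a 1 := by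
  refine Iso.ext' fun v => ?_
  rw [Iso.mul_apply, R_apply hB (hB.symm0 hx), R_apply hB hx, T_apply]
  simp only [map_add, map_smul, LinearMap.add_apply, LinearMap.smul_apply, smul_eq_mul,
    hB.alt, hx, hB.symm0 hx, one_mul, mul_zero, zero_mul, add_zero]
  match_scalars <;> first
    | ring1
    | linear_combination (B v x) * two_zero hF
    | linear_combination (B v a) * two_zero hF

variable [Finite V]

/-- No transvection at `a`, every vector orthogonal to `a` in `Wt`: the root property is invariant
under translation by `a`. -/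
theorem root_add_a {x : V} (ha : ∀ y, B a y = 0 → y ∈ Wt hB H a) (hax : B a x = 0) (hx0 : x ≠ 0)
    (hxa : x ≠ a) (hx : Root hB H x) : Root hB H (x + a) := by
  obtain ⟨y, hy1, hy2⟩ : ∃ y, B a y = 0 ∧ B y x ≠ 0 := by
    by_cases ha0 : a = 0
    · obtain ⟨y, hy⟩ := hB.exists_ne hx0
      exact ⟨y, by rw [ha0, map_zero, LinearMap.zero_apply], by rwa [form_comm_two hF hB]⟩
    obtain ⟨b, hb⟩ := hB.exists_one ha0
    have hxc : x - B x b • a ∈ comp B a b := by
      refine mem_comp.2 ⟨by simp [hax, hB.alt], ?_⟩
      rw [map_sub, map_smul, hB.flip a b, hb, form_comm_two hF hB x b, smul_eq_mul]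
      linear_combination (B b x) * two_zero hF
    have hne : x - B x b • a ≠ 0 := by
      intro e
      rw [sub_eq_zero] at e
      rcases two_elem hF (B x b) with h | h
      · exact hx0 (by rw [e, h, zero_smul])
      · exact hxa (by rw [e, h, one_smul])
    obtain ⟨y, hy, hne'⟩ := comp_nd hB hb _ hxc hne
    refine ⟨y, (mem_comp.1 hy).1, ?_⟩
    rwa [map_sub, LinearMap.sub_apply, map_smul, LinearMap.smul_apply, (mem_comp.1 hy).1, smul_zero,
      sub_zero, form_comm_two hF hB] at hne'
  have h := root_gives hF hB hax hx (ha y hy1) hy2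
  rw [R_one_eq hF hB hax] at h
  exact (root_two hF hB).2 ((H.mul_mem_cancel_left ((root_two hF hB).1 hx)).1 h)

/-- If `Wt` is full at every point without transvections, the root property is a quadratic form. -/
theorem exists_quad (hH : H ≠ ⊤) (h8 : 64 ≤ Nat.card V)
    (hall : ∀ a : V, a ≠ 0 → ¬ Root hB H a → ∀ y, B a y = 0 → y ∈ Wt hB H a) :
    ∃ f : V → F, IsQuad B f ∧ H ≤ OFix B f := by
  classical
  have hone : ∀ {u w : V}, B u w ≠ 0 → B u w = 1 := fun h => eq_one_of_ne hF h
  have hsum : ∀ u v : V, B u v = 1 → Root hB H u → Root hB H v → Root hB H (u + v) := by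
    intro u v h hu hv
    have := hu.add hB hv (by rw [h]; exact one_ne_zero) 1
    rwa [one_smul] at this
  have hback : ∀ u v : V, B u v = 1 → Root hB H u → Root hB H (u + v) → Root hB H v := by
    intro u v h hu huv
    have := hsum u (u + v) (by rw [map_add, hB.alt, zero_add, h]) hu huv
    rwa [← add_assoc, vec_add_self hF, zero_add] at this
  -- translation by a point without transvection
  have htr : ∀ u v : V, u ≠ 0 → ¬ Root hB H u → v ≠ 0 → v ≠ u → B u v = 0 →
      (Root hB H (v + u) ↔ Root hB H v) := by
    intro u v hu0 hu hv0 hvu huv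
    refine ⟨fun h => ?_, root_add_a hF hB (hall u hu0 hu) huv hv0 hvu⟩
    have h' := root_add_a hF hB (hall u hu0 hu) (x := v + u) (by simp [huv, hB.alt])
      (fun e => hvu (by rw [← sub_eq_zero, sub_eq_add_neg, vec_neg hF]; exact e))
      (fun e => hv0 (by simpa using e)) h
    rwa [add_assoc, vec_add_self hF, add_zero] at h'
  -- three pairwise orthogonal roots on a line
  have hline : ∀ u v : V, u ≠ 0 → v ≠ 0 → u + v ≠ 0 → B u v = 0 → Root hB H u → Root hB H v →
      Root hB H (u + v) → False := by
    intro u v hu0 hv0 he huv hu hv huv'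
    have hout : ∀ p r : V, r ≠ 0 → B p r = 0 → Root hB H p → Root hB H r → Root hB H (p + r) →
        ∀ w, B p w = 1 → B r w = 0 → Root hB H w := by
      intro p r hr0 hpr hp hr hpr' w hpw hrw
      by_contra hw
      have hw0 : w ≠ 0 := fun e => by simp [e] at hpw
      have h1 : Root hB H (r + w) :=
        (htr w r hw0 hw hr0 (fun e => hw (e ▸ hr)) (hB.symm0 hrw)).2 hr
      have h2 := hsum _ _ (by
        simp [map_add, LinearMap.add_apply, hpr, hpw, hrw, hB.alt]) hpr' h1
      rw [show p + r + (r + w) = p + w by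
        rw [add_assoc, ← add_assoc r, vec_add_self hF, zero_add]] at h2
      exact hw (hback p w hpw hp h2)
    have huv0 : B v u = 0 := hB.symm0 huv
    have hw1 : ∀ w, B u w = 1 → Root hB H w := by
      intro w hw
      rcases two_elem hF (B v w) with h | h
      · exact hout u v hv0 huv hu hv huv' w hw h
      · exact hout u (u + v) he (by simp [hB.alt, huv]) hu huv'
          (by rw [← add_assoc, vec_add_self hF, zero_add]; exact hv) w hw
          (by rw [map_add, LinearMap.add_apply, hw, h, add_self_two hF])
    refine hH (eq_top_of_roots _ hB le_rfl H fun x => ?_)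
    by_cases hx0 : x = 0
    · rw [hx0]; exact root_zero hB H
    by_cases hx : B u x = 1
    · exact hw1 x hx
    replace hx := (two_elem hF (B u x)).resolve_right hx
    obtain ⟨w, -, huw, hxw⟩ := exists_common hB (U := ⊤)
      ((hB.exists_ne hu0).imp fun w hw => ⟨trivial, hw⟩)
      ((hB.exists_ne hx0).imp fun w hw => ⟨trivial, hw⟩)
    refine hback w x (by rw [form_comm_two hF hB]; exact hone hxw) (hw1 w (hone huw))
      (hw1 _ ?_)
    rw [map_add, hone huw, hx, add_zero]
  -- three pairwise nonorthogonal points without transvection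
  have htri : ∀ u v : V, B u v = 1 → ¬ Root hB H u → ¬ Root hB H v → ¬ Root hB H (u + v) →
      False := by
    intro u v huv hu hv huv'
    have hu0 : u ≠ 0 := fun e => by simp [e] at huv
    have hv0 : v ≠ 0 := fun e => by simp [e] at huv
    have hs0 : u + v ≠ 0 := fun e => by
      have h := congrArg (B u) e
      simp [hB.alt, huv] at h
    have hU : ∀ x ∈ comp B u v, x ≠ 0 → ¬ Root hB H x := by
      intro x hx hx0 hxr
      obtain ⟨hxu, hxv⟩ := mem_comp.1 hx
      have e1 := (htr u x hu0 hu hx0 (fun e => hu (e ▸ hxr)) hxu).2 hxr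
      have e2 := (htr v x hv0 hv hx0 (fun e => hv (e ▸ hxr)) hxv).2 hxr
      have h := hsum _ _ (by
        simp [map_add, LinearMap.add_apply, hB.alt, huv, hxu, hB.symm0 hxv]) e1 e2
      rw [show x + u + (x + v) = u + v by
        rw [add_add_add_comm, vec_add_self hF, zero_add]] at h
      exact huv' h
    let q : V → V → F := fun p x => if R hB p x 1 ∈ H then 1 else 0
    have hq : ∀ p x : V, p ≠ 0 → ¬ Root hB H p → B p x = 0 → R hB p x (q p x) ∈ H := by
      intro p x hp0 hp hpx
      obtain ⟨-, c, hc⟩ := hall p hp0 hp x hpx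
      simp only [q]
      split_ifs with h
      · exact h
      · rcases two_elem hF c with rfl | rfl
        · exact hc
        · exact absurd hc h
    have huniq : ∀ p x c d, ¬ Root hB H p → B p x = 0 → R hB p x c ∈ H → R hB p x d ∈ H →
        c = d := by
      intro p x c d hp hpx hc hd
      by_contra hcd
      refine hp ((root_two hF hB).2 ?_)
      have h := H.mul_mem hc (H.inv_mem hd)
      rw [R_inv hB hpx, R_mul hB hpx (by simp [hpx]), add_neg_cancel, R_zero_eq_T] at h
      convert h using 2
      simp only [map_neg, LinearMap.neg_apply, hB.alt, neg_zero, add_zero, ← sub_eq_add_neg]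
      exact (eq_one_of_ne hF (sub_ne_zero.2 hcd)).symm
    have hqadd : ∀ p x y, p ≠ 0 → ¬ Root hB H p → B p x = 0 → B p y = 0 →
        q p (x + y) = q p x + q p y + B y x := by
      intro p x y hp0 hp hx hy
      refine huniq p (x + y) _ _ hp (by simp [hx, hy]) (hq p _ hp0 hp (by simp [hx, hy])) ?_
      rw [← R_mul hB hx hy]
      exact H.mul_mem (hq p x hp0 hp hx) (hq p y hp0 hp hy)
    have hqsym : ∀ p x, p ≠ 0 → x ≠ 0 → ¬ Root hB H p → ¬ Root hB H x → B p x = 0 →
        q p x = q x p := by
      intro p x hp0 hx0 hp hx hpx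
      have key : ∀ p x, p ≠ 0 → x ≠ 0 → ¬ Root hB H p → ¬ Root hB H x → B p x = 0 →
          R hB p x 1 ∈ H → R hB x p 1 ∈ H := by
        intro p x hp0 hx0 hp hx hpx h
        obtain ⟨-, c, hc⟩ := hall x hx0 hx p (hB.symm0 hpx)
        rcases two_elem hF c with rfl | rfl
        · refine absurd ((root_two hF hB).2 ?_) hp
          rw [← R_cross hF hB hpx]; exact H.mul_mem h hc
        · exact hc
      simp only [q]
      rw [if_congr ⟨key p x hp0 hx0 hp hx hpx, key x p hx0 hp0 hx hp (hB.symm0 hpx)⟩ rfl rfl]
    have hval : ∀ x ∈ comp B u v, x ≠ 0 → q u x + q v x + q (u + v) x = 1 := by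
      intro x hx hx0
      obtain ⟨hxu, hxv⟩ := mem_comp.1 hx
      have hxr := hU x hx hx0
      rw [hqsym u x hu0 hx0 hu hxr hxu, hqsym v x hv0 hx0 hv hxr hxv,
        hqsym (u + v) x hs0 hx0 huv' hxr (by simp [hxu, hxv]),
        hqadd x u v hx0 hxr (hB.symm0 hxu) (hB.symm0 hxv), form_comm_two hF hB v u, huv]
      linear_combination (q x u + q x v) * two_zero hF
    -- two orthogonal vectors in the complement
    obtain ⟨x, hx, y, hy, hx0, hy0, hyx, hxy⟩ : ∃ x ∈ comp B u v, ∃ y ∈ comp B u v,
        x ≠ 0 ∧ y ≠ 0 ∧ x + y ≠ 0 ∧ B x y = 0 := by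
      have hc := card_eq_comp hB huv
      rw [hF] at hc
      obtain ⟨x, hx0⟩ : ∃ x : comp B u v, x ≠ 0 := by
        by_contra h
        push Not at h
        have : Nat.card (comp B u v) = 1 :=
          Nat.card_eq_one_iff_unique.2 ⟨⟨fun x y => (h x).trans (h y).symm⟩, ⟨0⟩⟩
        omega
      by_contra hcon
      push Not at hcon
      let f : comp B u v →+ F := ((B (x : V)).comp (comp B u v).subtype).toAddMonoidHom
      have h1 := f.ker.index_mul_card
      rw [AddSubgroup.index_ker] at h1
      have h2 : Nat.card f.range ≤ 2 :=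
        hF ▸ Nat.card_le_card_of_injective _ Subtype.val_injective
      have h3 : Nat.card f.ker ≤ 2 := by
        rw [show (2 : ℕ) = Nat.card Bool by simp]
        refine Nat.card_le_card_of_injective (fun z => decide ((z : comp B u v) = 0)) fun z z' e => ?_
        rw [decide_eq_decide] at e
        have hcase : ∀ z : f.ker, (z : comp B u v) = 0 ∨ (z : comp B u v) = x := by
          intro z
          by_contra h
          push Not at h
          refine hcon x x.2 (z : comp B u v) (z : comp B u v).2 (fun e => hx0 (Subtype.ext e))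
            (fun e => h.1 (Subtype.ext e)) (fun e => h.2 ?_) (AddMonoidHom.mem_ker.1 z.2)
          refine Subtype.ext ?_
          rw [← sub_eq_zero, sub_eq_add_neg, vec_neg hF, add_comm]
          exact e
        refine Subtype.ext ?_
        rcases hcase z with h | h <;> rcases hcase z' with h' | h'
        · rw [h, h']
        · exact absurd ((e.1 h).symm.trans h').symm hx0
        · exact absurd ((e.2 h').symm.trans h).symm hx0
        · rw [h, h']
      have := Nat.mul_le_mul h2 h3
      omega
    obtain ⟨hxu, hxv⟩ := mem_comp.1 hx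
    obtain ⟨hyu, hyv⟩ := mem_comp.1 hy
    have h := hval _ ((comp B u v).add_mem hx hy) hyx
    rw [hqadd u x y hu0 hu hxu hyu, hqadd v x y hv0 hv hxv hyv,
      hqadd (u + v) x y hs0 huv' (by simp [hxu, hxv]) (by simp [hyu, hyv]), hB.symm0 hxy] at h
    exact one_ne_zero (show (1 : F) = 0 by linear_combination h - hval x hx hx0 - hval y hy hy0)
  -- the form
  let f : V → F := fun x => if x ≠ 0 ∧ Root hB H x then 1 else 0
  have hf0 : f 0 = 0 := if_neg fun h => h.1 rfl
  have hf1 : ∀ {x}, x ≠ 0 → Root hB H x → f x = 1 := fun h1 h2 => if_pos ⟨h1, h2⟩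
  have hfn : ∀ {x}, ¬ Root hB H x → f x = 0 := fun h => if_neg fun h' => h h'.2
  refine ⟨f, ?_, fun g hg x => ?_⟩
  · intro u v
    by_cases hu0 : u = 0
    · rw [hu0, map_zero, LinearMap.zero_apply, zero_add, hf0]; ring
    by_cases hv0 : v = 0
    · rw [hv0, map_zero, add_zero, hf0]; ring
    by_cases huv : u = v
    · rw [huv, vec_add_self hF, hf0, hB.alt, add_zero, add_self_two hF]
    have hs0 : u + v ≠ 0 := fun e => huv (by rw [← sub_eq_zero, sub_eq_add_neg, vec_neg hF]; exact e)
    rcases two_elem hF (B u v) with hb | hb <;> rw [hb]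
    · by_cases hu : Root hB H u
      · by_cases hv : Root hB H v
        · rw [hf1 hu0 hu, hf1 hv0 hv, hfn fun h => hline u v hu0 hv0 hs0 hb hu hv h]
          linear_combination -two_zero hF
        · have h := (htr v u hv0 hv hu0 huv (hB.symm0 hb)).2 hu
          rw [hf1 hu0 hu, hfn hv, hf1 hs0 h]; ring
      · by_cases hv : Root hB H v
        · have h := (htr u v hu0 hu hv0 (Ne.symm huv) hb).2 hv
          rw [hfn hu, hf1 hv0 hv, hf1 hs0 (by rwa [add_comm] at h)]; ring
        · have h : ¬ Root hB H (u + v) := fun h => hu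
            ((htr v u hv0 hv hu0 huv (hB.symm0 hb)).1 h)
          rw [hfn hu, hfn hv, hfn h]; ring
    · by_cases hu : Root hB H u
      · by_cases hv : Root hB H v
        · rw [hf1 hu0 hu, hf1 hv0 hv, hf1 hs0 (hsum u v hb hu hv)]
          linear_combination -two_zero hF
        · rw [hf1 hu0 hu, hfn hv, hfn fun h => hv (hback u v hb hu h)]
          linear_combination -two_zero hF
      · by_cases hv : Root hB H v
        · rw [hfn hu, hf1 hv0 hv, hfn fun h => hu (hback v u (by rw [form_comm_two hF hB]; exact hb) hv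
            (by rwa [add_comm]))]
          linear_combination -two_zero hF
        · have h : Root hB H (u + v) := by
            by_contra h
            exact htri u v hb hu hv h
          rw [hfn hu, hfn hv, hf1 hs0 h]; ring
  · show f (g.1 x) = f x
    have e : (g.1 x ≠ 0 ∧ Root hB H (g.1 x)) ↔ (x ≠ 0 ∧ Root hB H x) := by
      refine and_congr (not_congr g.1.map_eq_zero_iff) ⟨fun h => ?_, fun h => h.map hB hg⟩
      have := h.map hB (H.inv_mem hg)
      rwa [Iso.inv_apply'] at this
    exact if_congr e rfl rfl

end Cfsg.Agent.Lib.MinIndexSp
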