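import Cfsg.Agent.Lib.MinIndexSp.TwoStep
import Cfsg.Agent.Lib.MinIndexSp.Main

/-!
# Minimal index in symplectic groups over two elements: matrices
-/

set_option autoImplicit false
set_option linter.unusedSectionVars false
set_option linter.unusedSimpArgs false

namespace Cfsg.Agent.Lib.MinIndexSp

open LinearMap (BilinForm)
open Matrix
open Cfsg.Agent.Lib.Forms (sympBilin sympBilin_apply sympForm_apply)

variable {F : Type*} [Field F] [Fintype F] (hF : Nat.card F = 2) {m : ℕ}
include hF

/-- A quadratic form polarising to the standard symplectic form. -/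
theorem sum_pairs_isQuad :
    IsQuad (sympBilin m F) fun x => ∑ i, x (Sum.inl i) * x (Sum.inr i) := by
  intro u v
  show _ = _ + sympBilin m F u v
  rw [sympBilin_apply, sympForm_apply, ← Finset.sum_add_distrib, ← Finset.sum_add_distrib]
  refine Finset.sum_congr rfl fun i _ => ?_
  simp only [Pi.add_apply]
  linear_combination (u (Sum.inl i) * v (Sum.inr i)) * two_zero hF

theorem sp_index_two (hm : 3 ≤ m) :
    (∀ H : Subgroup (Cfsg.PSp m F), H ≠ ⊤ → 2 ^ (m - 1) * (2 ^ m - 1) ≤ H.index) ∧
      (∃ H : Subgroup (Cfsg.PSp m F), H.index = 2 ^ (m - 1) * (2 ^ m - 1)) := by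
  classical
  have hV : Nat.card (Fin m ⊕ Fin m → F) = 2 ^ m * 2 ^ m := by
    rw [card_sympSpace, hF, two_mul, pow_add]
  obtain ⟨k, rfl⟩ : ∃ k, m = k + 1 := ⟨m - 1, by omega⟩
  have hp : 2 ^ (k + 1) = 2 * 2 ^ k := by rw [pow_succ, mul_comm]
  have hval : 2 ^ (k + 1 - 1) * (2 ^ (k + 1) - 1) + 2 ^ k = 2 * (2 ^ k * 2 ^ k) := by
    rw [Nat.add_sub_cancel, Nat.mul_sub, mul_one, hp, Nat.sub_add_cancel
      (Nat.le_mul_of_pos_right _ (Nat.mul_pos two_pos (pow_pos two_pos k)))]
    ring
  have hv2 : 2 ^ (k + 1) * 2 ^ (k + 1) = 4 * (2 ^ k * 2 ^ k) := by rw [hp]; ring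
  refine ⟨fun H hH => ?_, ?_⟩
  · let π := QuotientGroup.mk' (Subgroup.center (Matrix.symplecticGroup (Fin (k + 1)) F))
    let H' : Subgroup (Iso (sympBilin (k + 1) F)) :=
      (H.comap π).comap (spEquiv (k + 1) F).symm.toMonoidHom
    have hi : H'.index = H.index := by
      rw [Subgroup.index_comap_of_surjective _ (spEquiv (k + 1) F).symm.surjective,
        Subgroup.index_comap_of_surjective _ (QuotientGroup.mk'_surjective _)]
    have hne : H' ≠ ⊤ := fun e => hH (Subgroup.index_eq_one.1 (by rw [← hi, e, Subgroup.index_top]))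
    have h64 : 64 ≤ Nat.card (Fin (k + 1) ⊕ Fin (k + 1) → F) := by
      rw [hV]
      exact le_trans (show 64 ≤ 2 ^ 3 * 2 ^ 3 by norm_num)
        (Nat.mul_le_mul (Nat.pow_le_pow_right two_pos hm) (Nat.pow_le_pow_right two_pos hm))
    have h := min_index_two hF _ (sympBilin_good (m := k + 1) (F := F)) le_rfl h64 H' hne
      (2 ^ (k + 1)) hV.symm
    rw [hi, hV, hv2] at h
    omega
  · have hB := sympBilin_good (m := k + 1) (F := F)
    have hq := sum_pairs_isQuad hF (m := k + 1)
    set f₀ := fun x : Fin (k + 1) ⊕ Fin (k + 1) → F => ∑ i, x (Sum.inl i) * x (Sum.inr i) with hf₀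
    -- a form of minus type
    obtain ⟨f, hf, hlt⟩ : ∃ f, IsQuad (sympBilin (k + 1) F) f ∧
        Nat.card {x // f x = 0} + 2 ^ (k + 1) = Nat.card {x // f x = 1} := by
      rcases (hq.zeros_bound hF hB hV.symm).2 with h | h
      · exact ⟨f₀, hq, h⟩
      obtain ⟨⟨c, hc⟩⟩ : Nonempty {x // f₀ x = 1} := by
        by_contra h'
        rw [not_nonempty_iff] at h'
        have h1 := (hq.zeros_bound hF hB hV.symm).1
        rw [show Nat.card {x // f₀ x = 1} = 0 from Nat.card_of_isEmpty] at h h1
        rw [hv2] at hV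
        have := Nat.le_mul_of_pos_right (2 ^ k) (pow_pos (two_pos (α := ℕ)) k)
        have h0 : 0 < 2 ^ k := pow_pos two_pos k
        omega
      refine ⟨_, hq.shift hF hB c, ?_⟩
      have key : ∀ p r : F, r = p + 1 → Nat.card {x // f₀ x + sympBilin (k + 1) F c x = p}
          = Nat.card {x // f₀ x = r} := by
        intro p r hr
        refine Nat.card_congr ((Equiv.addRight c).subtypeEquiv fun x => ?_)
        show f₀ x + _ = p ↔ f₀ (x + c) = r
        rw [hq.shift_apply hF hB, hc, hr]
        constructor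
        · intro e; linear_combination e - two_zero hF
        · intro e; linear_combination e + two_zero hF
      rw [key 0 1 (zero_add 1).symm, key 1 0 (add_self_two hF 1).symm]
      exact h
    let P : Subgroup (Matrix.symplecticGroup (Fin (k + 1)) F) :=
      (OFix (sympBilin (k + 1) F) f).comap (spEquiv (k + 1) F).toMonoidHom
    have hc : Subgroup.center (Matrix.symplecticGroup (Fin (k + 1)) F) ≤ P := by
      intro g hg x
      have hcomm : ∀ h, spEquiv (k + 1) F g * h = h * spEquiv (k + 1) F g := fun h => by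
        obtain ⟨h', rfl⟩ := (spEquiv (k + 1) F).surjective h
        rw [← map_mul, ← map_mul, Subgroup.mem_center_iff.1 hg h']
      show f ((spEquiv (k + 1) F g).1 x) = f x
      by_cases hx : x = 0
      · rw [hx, map_zero]
      obtain ⟨t, ht⟩ := central_le_Pt hB hcomm hx
      rw [ht, eq_one_of_ne hF t.ne_zero, one_smul]
    refine ⟨P.map (QuotientGroup.mk' _), ?_⟩
    rw [Subgroup.index_map_eq _ (QuotientGroup.mk'_surjective _) (by rwa [QuotientGroup.ker_mk']),
      show P.index = (OFix (sympBilin (k + 1) F) f).index from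
        Subgroup.index_comap_of_surjective _ (spEquiv (k + 1) F).surjective,
      hf.index_eq hF hB (by have := pow_pos (two_pos (α := ℕ)) (k + 1); omega)]
    have h1 := (hf.zeros_bound hF hB hV.symm).1
    rw [hV, hv2] at h1
    omega

end Cfsg.Agent.Lib.MinIndexSp
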