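import Cfsg.Agent.Lib.MinIndexSp.Two
import Cfsg.Agent.Lib.MinIndexSp.Roots

/-!
# Minimal index in symplectic groups over two elements: the induction
-/

set_option autoImplicit false
set_option linter.unusedSectionVars false
set_option linter.unusedSimpArgs false

namespace Cfsg.Agent.Lib.MinIndexSp

open LinearMap (BilinForm)

variable {F : Type*} [Field F] [Finite F] (hF : Nat.card F = 2)
variable {V : Type*} [AddCommGroup V] [Module F V] [Finite V] {B : BilinForm F V} (hB : Good B)
variable {H : Subgroup (Iso B)} {a b : V}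
include hF hB

omit hF in
/-- The image of `H` moves a nonzero vector of `W` only inside `W`. -/
theorem W_orbit_bound (hab : B a b = 1) {w : comp B a b} (hw : w ∈ W0 hB H a b) (hw0 : w ≠ 0) :
    Nat.card (comp B a b) - 1
      ≤ (M hB H hab).index * (Nat.card (W hB H a b) - 1) := by
  have h := index_mul_ge (form_good hB hab) hw0 (M hB H hab)
    ((W0 hB H a b : Set (comp B a b)) \ {0})
    (fun g hg => ⟨M_W0 hB hab hg hw, fun h => hw0 (g.1.map_eq_zero_iff.1 h)⟩)
    (fun _ : Unit => (1 : Fix (B := form B a b) w)) (fun _ _ _ => rfl)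
  rw [Nat.card_unique (α := Unit), mul_one, Nat.card_coe_set_eq,
    Set.ncard_sdiff (Set.singleton_subset_iff.2 (zero_mem _)), Set.ncard_singleton,
    ← Nat.card_coe_set_eq] at h
  rw [← card_W0 hB]
  exact h

/-- Large index from a point with large image index. -/
theorem big_two (hab : B a b = 1) (ha : ¬ Root hB H a)
    (hM : Nat.card (W hB H a b) ≤ (M hB H hab).index) : Nat.card V ≤ 2 * H.index := by
  have hidx := index_ge hB H hab
  have hZ : Nat.card (Z0 hB H a) = 1 := by
    have h := (Z0_card hB (H := H) ha).1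
    have h0 : 0 < Nat.card (Z0 hB H a) := Nat.card_pos
    omega
  have hD : 0 < (D H hab).index := Nat.pos_of_ne_zero Subgroup.index_ne_zero_of_finite
  rw [hZ, mul_one, hF] at hidx
  rw [card_eq_comp hB hab, hF]
  refine Nat.le_of_mul_le_mul_right ?_ (Nat.card_pos (α := W hB H a b))
  calc Nat.card (comp B a b) * (2 * 2) * Nat.card (W hB H a b)
      ≤ Nat.card (comp B a b) * (2 * 2) * (M hB H hab).index := Nat.mul_le_mul_left _ hM
    _ = 2 * (1 * (M hB H hab).index * (Nat.card (comp B a b) * 2)) := by ring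
    _ ≤ 2 * ((D H hab).index * (M hB H hab).index * (Nat.card (comp B a b) * 2)) := by
        gcongr; omega
    _ ≤ 2 * (H.index * Nat.card (W hB H a b)) := Nat.mul_le_mul_left _ hidx
    _ = _ := by ring

/-- A point next to a hyperplane `W` has a tiny `W`. -/
theorem escape_two (hab : B a b = 1) (hW : 2 * Nat.card (W hB H a b) = Nat.card (comp B a b)) :
    ∃ r b' : V, B r b' = 1 ∧ ¬ Root hB H r ∧ Nat.card (W hB H r b') ≤ 4 := by
  classical
  obtain ⟨r₀, hr₀⟩ : ∃ r₀ : comp B a b, r₀ ∉ W0 hB H a b := by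
    by_contra h
    push Not at h
    have e : W0 hB H a b = ⊤ := eq_top_iff.2 fun x _ => h x
    have h1 := card_W0 hB (H := H) (a := a) (b := b)
    rw [e, AddSubgroup.card_top] at h1
    have : 0 < Nat.card (comp B a b) := Nat.card_pos
    omega
  set r : V := (r₀ : V) with hrdef
  have har : B a r = 0 := (mem_comp.1 r₀.2).1
  have hrW : r ∉ Wt hB H a := hr₀
  have hr0 : r ≠ 0 := fun e => hrW (e ▸ (Wt hB H a).zero_mem)
  obtain ⟨b', hb'⟩ := hB.exists_one hr0
  have hroot : ¬ Root hB H r := by
    intro hr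
    have hperp : ∀ x ∈ Wt hB H a, B x r = 0 := fun x hx => by
      by_contra hne
      exact hrW ⟨har, 1, root_gives hF hB har hr hx hne⟩
    let f : comp B a b →+ F := ((B.flip r).comp (comp B a b).subtype).toAddMonoidHom
    have hlt : f.ker < ⊤ := lt_of_le_of_ne le_top fun e => by
      obtain ⟨w, hw, hwr⟩ := comp_nd hB hab r r₀.2 hr0
      have : (⟨w, hw⟩ : comp B a b) ∈ f.ker := e ▸ AddSubgroup.mem_top _
      exact hwr (hB.symm0 this)
    have h2 := (proper_card (F := F) hlt).1
    rw [AddSubgroup.card_top, ← hW, ← card_W0 hB] at h2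
    have heq : W0 hB H a b = f.ker := SetLike.ext' (Set.eq_of_subset_of_ncard_le
      (fun x hx => hperp _ ((mem_W0 hB).1 hx))
      (by rw [← Nat.card_coe_set_eq, ← Nat.card_coe_set_eq]; exact Nat.le_of_mul_le_mul_left h2 two_pos)
      (Set.toFinite _))
    exact hr₀ (heq ▸ (hB.alt r : r₀ ∈ f.ker))
  refine ⟨r, b', hb', hroot, ?_⟩
  let S2 : Submodule F V := LinearMap.ker (B a) ⊓ LinearMap.ker (B r)
  let X0 : AddSubgroup V := Wt hB H a ⊓ (LinearMap.ker (B r)).toAddSubgroup
  let Y : AddSubgroup V := Wt hB H r ⊓ (LinearMap.ker (B a)).toAddSubgroup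
  let X : AddSubgroup V := X0 ⊔ AddSubgroup.zmultiples r
  have hrS : r ∈ S2 := ⟨har, hB.alt r⟩
  have hXS : X ≤ S2.toAddSubgroup :=
    sup_le (fun x hx => ⟨hx.1.1, hx.2⟩) (AddSubgroup.zmultiples_le.2 hrS)
  have hYS : Y ≤ S2.toAddSubgroup := fun y hy => ⟨hy.2, hy.1.1⟩
  have hpair : ∀ x ∈ X, ∀ y ∈ Y, B x y ∈ (⊥ : AddSubgroup F) := by
    intro x hx y hy
    obtain ⟨x0, hx0, z, hz, rfl⟩ := AddSubgroup.mem_sup.1 hx
    obtain ⟨k, rfl⟩ := AddSubgroup.mem_zmultiples_iff.1 hz
    have h1 := R_smul_mem hB har hx0.1 (hB.symm0 hx0.2) hy.1 hy.2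
    rw [AddSubgroup.mem_bot, map_add, LinearMap.add_apply, map_zsmul, LinearMap.smul_apply,
      show B r y = 0 from hy.1.1, smul_zero, add_zero]
    by_contra hne
    rw [eq_one_of_ne hF hne, one_smul] at h1
    exact hrW ⟨har, 0, h1⟩
  let N : AddSubgroup V := (Submodule.span F ({a, r} : Set V)).toAddSubgroup
  obtain ⟨w, hw, hrw⟩ := comp_nd hB hab r r₀.2 hr0
  have hN : ∀ x ∈ X, (∀ s ∈ S2, B x s = 0) → x ∈ N := by
    intro x hx hperp
    obtain ⟨hxa, hxr⟩ := hXS hx
    have hxa' : B a x = 0 := hxa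
    set y : V := x - B x b • a - (B x w / B r w) • r with hy
    suffices y = 0 by
      rw [hy, sub_sub, sub_eq_zero] at this
      rw [this]
      exact add_mem (Submodule.smul_mem _ _ (Submodule.subset_span (by simp)))
        (Submodule.smul_mem _ _ (Submodule.subset_span (by simp)))
    refine hB.nd _ fun v => ?_
    have hwb : B a w = 0 := (mem_comp.1 hw).1
    have hrb : B r b = 0 := hB.symm0 (mem_comp.1 r₀.2).2
    set v' : V := v - B a v • b - (B r v / B r w) • w with hv'
    have hv'S : v' ∈ S2 := by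
      refine ⟨show B a v' = 0 from ?_, show B r v' = 0 from ?_⟩
      · simp [hv', hab, hwb]
      · simp [hv', hrb, div_mul_cancel₀ _ hrw]
    have e : v = v' + B a v • b + (B r v / B r w) • w := by rw [hv']; abel
    rw [e]
    simp only [hy, map_add, map_sub, map_smul, LinearMap.sub_apply, LinearMap.smul_apply,
      smul_eq_mul, hperp v' hv'S, hab, hwb, hrb, (mem_comp.1 hw).2, show B a v' = 0 from hv'S.1,
      show B r v' = 0 from hv'S.2]
    field_simp
    ring
  have hp := pairing B S2 X Y hXS hYS ⊥ bot_ne_top hpair N hN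
  have hNcard : Nat.card N ≤ Nat.card F * Nat.card F := by
    rw [← Nat.card_prod]
    refine Nat.card_le_card_of_surjective (fun p : F × F => (⟨p.1 • a + p.2 • r,
      Submodule.mem_span_pair.2 ⟨_, _, rfl⟩⟩ : N)) ?_
    rintro ⟨l, hl⟩
    obtain ⟨s, t, rfl⟩ := Submodule.mem_span_pair.1 hl
    exact ⟨(s, t), rfl⟩
  have hS2 : Nat.card S2 * (Nat.card F * Nat.card F) ≤ Nat.card V := by
    rw [← Nat.card_prod, ← Nat.card_prod]
    refine Nat.card_le_card_of_injective
      (fun p : S2 × (F × F) => (p.1 : V) + p.2.1 • b + p.2.2 • w) fun p p' e => ?_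
    have h1 := congrArg (fun v => B a v) e
    have h2 := congrArg (fun v => B r v) e
    simp only [map_add, map_smul, show B a (p.1 : V) = 0 from p.1.2.1,
      show B a (p'.1 : V) = 0 from p'.1.2.1, show B r (p.1 : V) = 0 from p.1.2.2,
      show B r (p'.1 : V) = 0 from p'.1.2.2, hab, (mem_comp.1 hw).1,
      show B r b = 0 from hB.symm0 (mem_comp.1 r₀.2).2, smul_eq_mul, mul_one, mul_zero, add_zero, zero_add] at h1 h2
    have h2' := mul_right_cancel₀ hrw h2
    refine Prod.ext (Subtype.ext ?_) (Prod.ext h1 h2')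
    dsimp only at e
    rw [h1, h2'] at e
    simpa using e
  rw [card_eq_comp hB hab] at hS2
  have hS2' : Nat.card S2 ≤ Nat.card (comp B a b) :=
    Nat.le_of_mul_le_mul_right hS2 (by rw [hF]; norm_num)
  have hX0 : Nat.card (W hB H a b) ≤ Nat.card X0 := by
    let f : Wt hB H a →+ F := (B r).toAddMonoidHom.comp (Wt hB H a).subtype
    have h1 := f.ker.index_mul_card
    rw [AddSubgroup.index_ker, card_Wt hB H hab] at h1
    have h2 : Nat.card f.ker ≤ Nat.card X0 :=
      Nat.card_le_card_of_injective (fun x => ⟨((x : Wt hB H a) : V), (x : Wt hB H a).2,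
        AddMonoidHom.mem_ker.1 x.2⟩) fun x y e => Subtype.ext (Subtype.ext (congrArg Subtype.val e :))
    refine Nat.le_of_mul_le_mul_left ?_ (Nat.card_pos (α := F))
    calc Nat.card F * Nat.card (W hB H a b) = Nat.card f.range * Nat.card f.ker := by rw [h1]; ring
      _ ≤ Nat.card F * Nat.card X0 := Nat.mul_le_mul
          (Nat.card_le_card_of_injective _ Subtype.val_injective) h2
  have hWr : Nat.card (W hB H r b') ≤ Nat.card Y := by
    let f : Wt hB H r →+ F := (B a).toAddMonoidHom.comp (Wt hB H r).subtype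
    have h1 := f.ker.index_mul_card
    rw [AddSubgroup.index_ker, card_Wt hB H hb'] at h1
    have h2 : Nat.card f.ker ≤ Nat.card Y :=
      Nat.card_le_card_of_injective (fun x => ⟨((x : Wt hB H r) : V), (x : Wt hB H r).2,
        AddMonoidHom.mem_ker.1 x.2⟩) fun x y e => Subtype.ext (Subtype.ext (congrArg Subtype.val e :))
    refine Nat.le_of_mul_le_mul_left ?_ (Nat.card_pos (α := F))
    calc Nat.card F * Nat.card (W hB H r b') = Nat.card f.range * Nat.card f.ker := by rw [h1]; ring
      _ ≤ Nat.card F * Nat.card Y := Nat.mul_le_mul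
          (Nat.card_le_card_of_injective _ Subtype.val_injective) h2
  have hlt : X0 < X := lt_of_le_of_ne le_sup_left fun e =>
    hrW (show r ∈ X0 by rw [e]; exact AddSubgroup.mem_sup_right (AddSubgroup.mem_zmultiples r)).1
  have hX := (proper_card (F := F) hlt).1
  rw [hF] at hNcard
  refine le_trans hWr (Nat.le_of_mul_le_mul_left ?_ (Nat.card_pos (α := comp B a b)))
  calc Nat.card (comp B a b) * Nat.card Y = 2 * Nat.card (W hB H a b) * Nat.card Y := by rw [hW]
    _ ≤ Nat.card X * Nat.card Y := Nat.mul_le_mul_right _ ((Nat.mul_le_mul_left 2 hX0).trans hX)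
    _ ≤ Nat.card S2 * Nat.card N := hp
    _ ≤ _ := Nat.mul_le_mul hS2' hNcard

omit hF hB in
/-- The induction. -/
theorem min_index_two.{u, w} {F : Type u} [Field F] [Finite F] (hF : Nat.card F = 2) :
    ∀ (n : ℕ) {V : Type w} [AddCommGroup V] [Module F V] [Finite V] {B : BilinForm F V}
      (_ : Good B), Nat.card V ≤ n → 64 ≤ Nat.card V → ∀ H : Subgroup (Iso B), H ≠ ⊤ →
      ∀ s : ℕ, s * s = Nat.card V → Nat.card V ≤ 2 * H.index + s := by
  intro n
  induction n with
  | zero =>
    intro V _ _ _ B hB hn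
    have : 0 < Nat.card V := Nat.card_pos
    omega
  | succ n ih =>
    intro V _ _ _ B hB hn h64 H hH s hs
    by_cases hall : ∀ a : V, a ≠ 0 → ¬ Root hB H a → ∀ y, B a y = 0 → y ∈ Wt hB H a
    · obtain ⟨f, hf, hle⟩ := exists_quad hF hB hH h64 hall
      have h1 := hf.many_zeros hF hB hs
      have h2 : Nat.card {x // f x = 0} ≤ H.index := (hf.zeros_le hF hB).trans
        (Nat.le_of_dvd (Nat.pos_of_ne_zero Subgroup.index_ne_zero_of_finite)
          (Subgroup.index_dvd_of_le hle))
      omega
    push Not at hall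
    obtain ⟨a, ha0, ha, y, hay, hy⟩ := hall
    obtain ⟨b, hab⟩ := hB.exists_one ha0
    suffices h : Nat.card V ≤ 2 * H.index by omega
    have hS : 16 ≤ Nat.card (comp B a b) := by
      have := card_eq_comp hB hab
      rw [hF] at this
      omega
    -- a point with small `W`
    have key : ∀ {c d : V} (hcd : B c d = 1), ¬ Root hB H c →
        4 * Nat.card (W hB H c d) ≤ Nat.card (comp B c d) → Nat.card V ≤ 2 * H.index := by
      intro c d hcd hc h4
      refine big_two hF hB hcd hc ?_
      have hM0 : 0 < (M hB H hcd).index := Nat.pos_of_ne_zero Subgroup.index_ne_zero_of_finite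
      by_cases hW1 : W0 hB H c d = ⊥
      · rw [← card_W0 hB, hW1, AddSubgroup.card_bot]; exact hM0
      obtain ⟨⟨w, hw⟩, hw0⟩ := (W0 hB H c d).ne_bot_iff_exists_ne_zero.1 hW1
      have horb := W_orbit_bound hB hcd hw fun e => hw0 (Subtype.ext e)
      have hWpos : 2 ≤ Nat.card (W hB H c d) := by
        rw [← card_W0 hB]
        haveI : Nontrivial (W0 hB H c d) := ⟨⟨⟨w, hw⟩, 0, hw0⟩⟩
        exact Finite.one_lt_card
      set Wn := Nat.card (W hB H c d)
      set Sn := Nat.card (comp B c d) with hSn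
      set Mi := (M hB H hcd).index
      by_cases hsq : Wn * Wn ≤ Sn
      · by_contra hlt
        push Not at hlt
        have h1 : Sn - 1 ≤ (Wn - 1) * (Wn - 1) :=
          horb.trans (Nat.mul_le_mul_right _ (by omega))
        obtain ⟨k, hk⟩ : ∃ k, Wn = k + 2 := ⟨Wn - 2, by omega⟩
        rw [hk] at hsq h1
        have : (k + 2) * (k + 2) = (k + 2 - 1) * (k + 2 - 1) + 2 * k + 3 := by
          rw [show k + 2 - 1 = k + 1 by omega]; ring
        omega
      push Not at hsq
      have hW5 : 5 ≤ Wn := by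
        by_contra h
        have := Nat.mul_le_mul_left Wn (show Wn ≤ 4 by omega)
        omega
      have hMne : M hB H hcd ≠ ⊤ := fun e => by
        have : Mi = 1 := Subgroup.index_eq_one.2 e
        rw [this, one_mul] at horb
        omega
      have h64' : 64 ≤ Sn := by
        have hB' := form_good hB hcd
        obtain ⟨v, hv⟩ := hB'.exists_one (v := w) fun e => hw0 (Subtype.ext e)
        have e := card_eq_comp hB' hv
        rw [hF] at e
        rcases card_comp_cases hB' hv with h | h | h <;> (try simp only [hF] at h) <;> omega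
      have hs4 : s * s = Sn * 4 := by
        rw [hs, card_eq_comp hB hcd, hF]
      obtain ⟨t, rfl⟩ : 2 ∣ s := (Nat.prime_two.dvd_mul.1 ⟨Sn * 2, by rw [hs4]; ring⟩).elim id id
      have ht : t * t = Sn := by
        have : 2 * t * (2 * t) = t * t * 4 := by ring
        omega
      have hlt : Sn ≤ n := by
        have h := card_eq_comp hB hcd
        rw [hF] at h
        omega
      have hI := ih (form_good hB hcd) hlt h64' (M hB H hcd) hMne t ht
      change Sn ≤ 2 * Mi + t at hI
      have ht8 : 8 ≤ t := by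
        by_contra h
        have := Nat.mul_le_mul (show t ≤ 7 by omega) (show t ≤ 7 by omega)
        omega
      have := Nat.mul_le_mul_right t ht8
      omega
    by_cases h4 : 4 * Nat.card (W hB H a b) ≤ Nat.card (comp B a b)
    · exact key hab ha h4
    push Not at h4
    -- `W` is a hyperplane
    have hne : W0 hB H a b ≠ ⊤ := fun e => hy (by
      have h : (pr hB hab y : V) ∈ Wt hB H a :=
        (mem_W0 hB).1 (show pr hB hab y ∈ W0 hB H a b by rw [e]; trivial)
      have := Wt_add_a hB h (B y b)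
      rwa [coe_pr, hay, zero_smul, sub_zero, sub_add_cancel] at this)
    have hcard := (W0 hB H a b).index_mul_card
    rw [card_W0 hB] at hcard
    set i := (W0 hB H a b).index with hi
    have hi4 : i < 4 := by
      by_contra h
      have := Nat.mul_le_mul_right (Nat.card (W hB H a b)) (show 4 ≤ i by omega)
      omega
    have hi0 : i ≠ 0 := AddSubgroup.index_ne_zero_of_finite
    have hi1 : i ≠ 1 := fun e => hne (AddSubgroup.index_eq_one.1 e)
    have hi3 : i ≠ 3 := fun e => hne (eq_top_iff.2 fun x _ => by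
      have h := (W0 hB H a b).nsmul_index_mem x
      rwa [← hi, e, succ_nsmul, two_nsmul, vec_add_self hF, zero_add] at h)
    have hi2 : i = 2 := by omega
    rw [hi2] at hcard
    obtain ⟨r, b', hrb, hr, hWr⟩ := escape_two hF hB hab hcard
    refine key hrb hr ?_
    rw [card_comp_eq hB hrb hab]
    omega

end Cfsg.Agent.Lib.MinIndexSp
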